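import Cfsg.Agent.Lib.ClassCount.CharTwo.LowerReal
import Cfsg.Agent.Lib.HallGen.SpEightSpectrum.Forms
import Cfsg.Agent.Lib.Classical.ClassTheory.SpModels
import Cfsg.Agent.Lib.Classical.Quad.Matrix

/-!
# Lower bounds for the class numbers of `Sp` and `O±` in characteristic two

Half of the monic `f` of degree `n`, and those with `f(0) = 0`, give classes of each type.
-/

set_option autoImplicit false

open Polynomial
open scoped _root_.Classical
open QuadraticMap (polarBilin)
open CfsgLib.Classical CfsgLib.Classical.CharTwo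

namespace CfsgLib.ClassNumber.CharTwoLower

universe u

variable {F : Type u} [Field F] [Fintype F] [CharP F 2]

theorem sp2_classes_ge (n : ℕ) :
    Fintype.card F ^ n ≤ Nat.card (ConjClasses ↥(Matrix.symplecticGroup (Fin n) F)) := by
  have := Fact.mk Nat.prime_two
  rw [← CfsgLib.Classical.ClassTheory.sp_semisimple_count (F := F) (p := 2) rfl n]
  exact Nat.card_le_card_of_injective _ Subtype.val_injective

/-- The polynomials giving classes of one type. -/
abbrev TypeSet (F : Type u) [Field F] [CharP F 2] (n : ℕ) (c₀ : F) : Type u :=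
  {f : F[X] // (f.Monic ∧ f.natDegree = n) ∧
    (f.coeff 0 = 0 ∨ psi (f.coeff 1 / f.coeff 0) = psi c₀)}

omit [CharP F 2] in
theorem finite_monic (n : ℕ) : Finite {f : F[X] // f.Monic ∧ f.natDegree = n} :=
  Finite.of_equiv _ ((monicEquivDegreeLT n).trans (degreeLTEquiv F n).toEquiv).symm

theorem pow_le_two_mul_typeSet {n : ℕ} (hn : 2 ≤ n) (c₀ : F) :
    Fintype.card F ^ n ≤ 2 * Nat.card (TypeSet F n c₀) := by
  obtain ⟨c₁, hc₁⟩ := exists_psi_neg (F := F)
  have := finite_monic (F := F) n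
  have : Finite (TypeSet F n c₀) := Finite.of_injective
    (fun f => (⟨f.1, f.2.1⟩ : {f : F[X] // f.Monic ∧ f.natDegree = n})) fun f g h =>
      Subtype.ext (congrArg Subtype.val h :)
  let twist : F[X] → F[X] := fun f => f + C (c₁ * f.coeff 0) * X
  have htm : ∀ f : F[X], f.Monic → f.natDegree = n → (twist f).Monic ∧ (twist f).natDegree = n := fun f hf hd => by
    have hlt : (C (c₁ * f.coeff 0) * X).degree < f.degree := by
      refine lt_of_le_of_lt (degree_C_mul_X_le _) ?_
      rw [degree_eq_natDegree hf.ne_zero, hd]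
      exact_mod_cast hn
    exact ⟨hf.add_of_left hlt, (natDegree_eq_of_degree_eq (degree_add_eq_left_of_degree_lt hlt)).trans hd⟩
  have h0 : ∀ f : F[X], (twist f).coeff 0 = f.coeff 0 := fun f => by simp [twist]
  have h1 : ∀ f : F[X], (twist f).coeff 1 = f.coeff 1 + c₁ * f.coeff 0 := fun f => by simp [twist]
  have htinj : Function.Injective twist := fun f g h => by
    have e : f.coeff 0 = g.coeff 0 := by rw [← h0, h, h0]
    simp only [twist, e] at h
    exact add_right_cancel h
  let φ : {f : F[X] // f.Monic ∧ f.natDegree = n} → TypeSet F n c₀ ⊕ TypeSet F n c₀ := fun f =>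
    if h : f.1.coeff 0 = 0 ∨ psi (f.1.coeff 1 / f.1.coeff 0) = psi c₀ then Sum.inl ⟨f.1, f.2, h⟩
    else Sum.inr ⟨twist f.1, htm _ f.2.1 f.2.2, Or.inr (by
      rw [not_or] at h
      rw [h0, h1, add_div, mul_div_assoc, div_self h.1, mul_one, psi_add, hc₁]
      rcases psi_cases (f.1.coeff 1 / f.1.coeff 0) with e | e <;> rcases psi_cases c₀ with e' | e' <;>
        rw [e, e'] at h ⊢ <;> simp_all)⟩
  have hinj : Function.Injective φ := fun f g h => by
    simp only [φ] at h
    split_ifs at h with hf hg hg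
    · exact Subtype.ext (congrArg Subtype.val (Sum.inl.inj h) :)
    · exact Subtype.ext (htinj (congrArg Subtype.val (Sum.inr.inj h) :))
  refine le_trans (le_of_eq ?_) ((Nat.card_le_card_of_injective φ hinj).trans_eq (by rw [Nat.card_sum, two_mul]))
  rw [Nat.card_congr ((monicEquivDegreeLT n).trans (degreeLTEquiv F n).toEquiv), Nat.card_fun, Nat.card_fin,
    Nat.card_eq_fintype_card]

theorem orth2_classes_ge {n : ℕ} (hn : 2 ≤ n) {κ : Type} [Fintype κ] [DecidableEq κ]
    (Q : QuadraticForm F (κ → F)) (hκ : Fintype.card κ = 2 * n) (hQ : (polarBilin Q).Nondegenerate) :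
    Fintype.card F ^ n ≤ 2 * Nat.card (ConjClasses ↥(Cfsg.isometryGroup F (⇑Q))) := by
  obtain ⟨c₀, hc₀⟩ : ∃ c₀ : F, signSum ⇑Q = psi c₀ * (Fintype.card F : ℤ) ^ n := by
    obtain ⟨c₁, hc₁⟩ := exists_psi_neg (F := F)
    have e := signSum_sq hQ
    rw [Fintype.card_fun, hκ, two_mul, pow_add, Nat.cast_mul, Nat.cast_pow] at e
    rcases mul_self_eq_mul_self_iff.1 e with h | h
    · exact ⟨0, by rw [psi_zero, one_mul]; exact h⟩
    · exact ⟨c₁, by rw [hc₁, neg_one_mul]; exact h⟩
  refine (pow_le_two_mul_typeSet hn c₀).trans (Nat.mul_le_mul_left 2 ?_)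
  let E := Quad.oEquiv Q
  let inv : ↥(Cfsg.isometryGroup F (⇑Q)) → F[X] := fun g =>
    (((E g).1 : (κ → F) →ₗ[F] (κ → F)) + ((E g).1.symm : (κ → F) →ₗ[F] (κ → F))).charpoly
  have hinv : ∀ x g, inv (x * g * x⁻¹) = inv g := fun x g => by
    have e : (E (x * g * x⁻¹)).1 = (E x).1.symm.trans ((E g).1.trans (E x).1) := by
      rw [map_mul, map_mul, map_inv]
      rfl
    simp only [inv, e]
    refine Eq.trans (congrArg LinearMap.charpoly ?_) (LinearEquiv.charpoly_conj (E x).1 _)
    refine LinearMap.ext fun v => ?_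
    simp
  have hex : ∀ f : TypeSet F n c₀, ∃ g, inv g = f.1 * f.1 := fun f => by
    obtain ⟨⟨hf, hd⟩, hcase⟩ := f.2
    obtain ⟨c, hr, hc⟩ : ∃ c, Realizes f.1 c ∧ psi c = psi c₀ := by
      rcases eq_or_ne (f.1.coeff 0) 0 with h | h
      · exact ⟨c₀, (realizes_all n f.1 hf hd).2 h c₀, rfl⟩
      · exact ⟨_, (realizes_all n f.1 hf hd).1 h, hcase.resolve_left h⟩
    obtain ⟨A, _, _, _, P, w, a, Y, hs, hP, hPw, hfr, hQa, hY, hchar⟩ := hr
    have : Finite A := Module.finite_of_finite F
    let _ : Fintype A := Fintype.ofFinite A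
    obtain ⟨L, hL⟩ := CfsgLib.HallGen.SpEightSpectrum.exists_equiv (hypQ_nondegenerate hs hP w) hQ
      (by rw [Module.finrank_prod, hfr, hd, Module.finrank_pi, hκ, two_mul])
      (by rw [signSum_hypQ hs hP w, hPw, hfr, hd, hc, hc₀])
    have hmem : L.symm.trans (a.trans L) ∈ Quad.OQ Q := Quad.mem_OQ.2 fun v => by
      obtain ⟨x, rfl⟩ := L.surjective v
      rw [LinearEquiv.trans_apply, LinearEquiv.trans_apply, L.symm_apply_apply, hL, hL, hQa]
    refine ⟨E.symm ⟨_, hmem⟩, ?_⟩
    simp only [inv, MulEquiv.apply_symm_apply]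
    refine Eq.trans (congrArg LinearMap.charpoly ?_) ((LinearEquiv.charpoly_conj L (Y.prodMap Y)).trans
      (by rw [LinearMap.charpoly_prodMap, hchar]))
    refine LinearMap.ext fun v => ?_
    obtain ⟨x, rfl⟩ := L.surjective v
    simp [← map_add, hY]
  choose g hg using hex
  refine Nat.card_le_card_of_injective (fun f => ConjClasses.mk (g f)) fun f f' h => ?_
  obtain ⟨x, hx⟩ := isConj_iff.1 (ConjClasses.mk_eq_mk_iff_isConj.1 h)
  have e : f.1 ^ 2 = f'.1 ^ 2 := by rw [sq, sq, ← hg f, ← hg f', ← hx, hinv]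
  exact Subtype.ext (CharTwo.sq_injective e)

end CfsgLib.ClassNumber.CharTwoLower
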