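import Cfsg.Agent.Lib.Classical.CharTwo.QuadSigns

/-!
# Isometries with prescribed `a + a⁻¹` in characteristic two

For monic `f` of degree `n` with `f(0) ≠ 0` the map `(u, v) ↦ (v, u + y v)` of `A × A`, `A = F[y]/(f)`,
preserves a quadratic form whose Arf invariant is `f'(0) / f(0)`; if `f(0) = 0` both types occur.
-/

set_option autoImplicit false

open Polynomial
open LinearMap (BilinForm)
open QuadraticMap (polar polarBilin)
open CfsgLib.Classical CfsgLib.Classical.CharTwo

namespace CfsgLib.ClassNumber.CharTwoLower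

universe u

variable {F : Type u} [Field F]

section Form

variable {A : Type u} [AddCommGroup A] [Module F A]

/-- The hyperbolic form of a pairing. -/
def pairQ (P : BilinForm F A) : QuadraticForm F (A × A) :=
  LinearMap.BilinMap.toQuadraticMap (P.compl₁₂ (LinearMap.fst F A A) (LinearMap.snd F A A))

theorem pairQ_apply (P : BilinForm F A) (x : A × A) : pairQ P x = P x.1 x.2 := rfl

theorem polar_pairQ (P : BilinForm F A) (x y : A × A) : polar (pairQ P) x y = P x.1 y.2 + P y.1 x.2 := by
  simp only [polar, pairQ_apply, Prod.fst_add, Prod.snd_add, map_add, LinearMap.add_apply]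
  ring

/-- The functional used to shift `pairQ`. -/
def shiftFun (P : BilinForm F A) (w : A) : A × A →ₗ[F] F :=
  (P.flip w).comp (LinearMap.fst F A A) + (P.flip w).comp (LinearMap.snd F A A)

/-- `pairQ` shifted by the square of `shiftFun`. -/
def hypQ (P : BilinForm F A) (w : A) : QuadraticForm F (A × A) :=
  pairQ P + QuadraticMap.linMulLin (shiftFun P w) (shiftFun P w)

theorem hypQ_apply (P : BilinForm F A) (w : A) (x : A × A) :
    hypQ P w x = P x.1 x.2 + (P x.1 w + P x.2 w) ^ 2 := by
  simp [hypQ, pairQ_apply, shiftFun, sq]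
  ring

variable [CharP F 2]

theorem hypQ_nondegenerate {P : BilinForm F A} (hs : ∀ u v, P u v = P v u)
    (hP : ∀ u, (∀ v, P u v = 0) → u = 0) (w : A) : (polarBilin (hypQ P w)).Nondegenerate := by
  have hpol : ∀ x y, polar (hypQ P w) x y = P x.1 y.2 + P y.1 x.2 := fun x y => by
    simp only [polar, hypQ_apply, Prod.fst_add, Prod.snd_add, map_add, LinearMap.add_apply]
    linear_combination (P x.1 w + P x.2 w) * (P y.1 w + P y.2 w) * (CharTwo.two_eq_zero (R := F))
  refine CfsgLib.Classical.Quad.nondegenerate_of_left fun x hx => ?_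
  have h1 : x.1 = 0 := hP _ fun v => by simpa [hpol] using hx (0, v)
  have h2 : x.2 = 0 := hP _ fun u => by rw [hs]; simpa [hpol] using hx (u, 0)
  exact Prod.ext h1 h2

theorem signSum_hypQ [Fintype F] [FiniteDimensional F A] [Fintype A] {P : BilinForm F A}
    (hs : ∀ u v, P u v = P v u) (hP : ∀ u, (∀ v, P u v = 0) → u = 0) (w : A) :
    signSum ⇑(hypQ P w) = psi (P w w) * (Fintype.card F : ℤ) ^ Module.finrank F A := by
  classical
  have hz : signSum ⇑(hypQ P w) = psi (pairQ P (w, w)) * signSum ⇑(pairQ P) := by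
    rw [← signSum_shift (pairQ P) (w, w)]
    refine Finset.sum_congr rfl fun v _ => congrArg psi ?_
    show hypQ P w v = pairQ P v + polar (pairQ P) v (w, w) ^ 2
    rw [hypQ_apply, pairQ_apply, polar_pairQ, hs w v.2]
  rw [hz, pairQ_apply]
  congr 1
  have hrow : ∀ u : A, ∑ v, psi (P u v) = if u = 0 then (Fintype.card A : ℤ) else 0 := fun u => by
    split_ifs with h
    · simp [h, psi_zero]
    · obtain ⟨v, hv⟩ : ∃ v, P u v ≠ 0 := by
        by_contra hc
        push Not at hc
        exact h (hP u hc)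
      obtain ⟨c, hc⟩ := exists_psi_neg (F := F)
      refine sum_psi_eq_zero (fun v => P u v) (fun x y => map_add _ x y) (a₀ := (c / P u v) • v) ?_
      rw [map_smul, smul_eq_mul, div_mul_cancel₀ _ hv, hc]
  unfold signSum
  simp only [Fintype.sum_prod_type, pairQ_apply, hrow, Finset.sum_ite_eq', Finset.mem_univ, if_true]
  rw [Module.card_eq_pow_finrank (K := F) (V := A)]
  push_cast
  rfl

end Form

/-- An isometry of a form of Arf invariant `c` with `a + a⁻¹` of characteristic polynomial `f * f`. -/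
def Realizes (f : F[X]) (c : F) : Prop :=
  ∃ (A : Type u) (_ : AddCommGroup A) (_ : Module F A) (_ : FiniteDimensional F A) (P : BilinForm F A) (w : A)
    (a : (A × A) ≃ₗ[F] (A × A)) (Y : Module.End F A),
    (∀ u v, P u v = P v u) ∧ (∀ u, (∀ v, P u v = 0) → u = 0) ∧ P w w = c ∧ Module.finrank F A = f.natDegree ∧
      (∀ x, hypQ P w (a x) = hypQ P w x) ∧ (∀ x, a x + a.symm x = (Y x.1, Y x.2)) ∧ Y.charpoly = f

variable [CharP F 2]

theorem exists_sqrt_derivative [Finite F] (f : F[X]) : ∃ O : F[X], O ^ 2 = derivative f := by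
  have := Fact.mk Nat.prime_two
  have h0 : derivative (derivative f) = 0 := Polynomial.ext fun k => by
    rw [coeff_derivative, coeff_derivative, coeff_zero]
    obtain ⟨j, hj⟩ := Nat.even_mul_succ_self (k + 1)
    have : ((k : F) + 1) * ((k : F) + 1 + 1) = (j : F) + j := by exact_mod_cast congrArg (Nat.cast (R := F)) hj
    push_cast
    linear_combination (f.coeff (k + 1 + 1)) * this + (f.coeff (k + 1 + 1) * j) * (CharTwo.two_eq_zero (R := F))
  refine ⟨(contract 2 (derivative f)).map (frobeniusEquiv F 2).symm.toRingHom, ?_⟩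
  rw [← map_frobenius_expand, ← map_expand, expand_contract 2 h0 two_ne_zero, map_map]
  refine (congrArg (fun φ => (derivative f).map φ) (RingHom.ext fun x => ?_)).trans Polynomial.map_id
  exact (frobeniusEquiv F 2).apply_symm_apply x

/-- The Cartier identity for the residue functional. -/
theorem coeff_sq_mod {f O : F[X]} (hf : f.Monic) (hn : 1 ≤ f.natDegree) (hO : O ^ 2 = derivative f) (U : F[X]) :
    ((U * U) %ₘ f).coeff (f.natDegree - 1) = ((U * O) %ₘ f).coeff (f.natDegree - 1) ^ 2 := by
  have h2 : (2 : F[X]) = 0 := by rw [show (2 : F[X]) = C 2 from rfl, CharTwo.two_eq_zero, C_0]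
  have hne : f ≠ 1 := fun h => by rw [h, natDegree_one] at hn; omega
  obtain ⟨d, hd⟩ : ∃ d, f.natDegree = d + 1 := ⟨f.natDegree - 1, by omega⟩
  set R := (U * U) %ₘ f with hR
  set r := (U * O) %ₘ f with hr
  set m := (U * U) /ₘ f
  set k := (U * O) /ₘ f
  have e1 : R + f * m = U * U := modByMonic_add_div (U * U) f
  have e2 : r + f * k = U * O := modByMonic_add_div (U * O) f
  have e3 : derivative R + (derivative f * m + f * derivative m) = 0 := by
    have e := congrArg derivative e1
    rw [derivative_add, derivative_mul, derivative_mul] at e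
    linear_combination e + (U * derivative U) * h2
  have hrd : r.natDegree ≤ d := by
    have : r.natDegree < _ := natDegree_modByMonic_lt (U * O) hf hne
    omega
  have hRd : R.natDegree ≤ d := by
    have : R.natDegree < _ := natDegree_modByMonic_lt (U * U) hf hne
    omega
  have key : r ^ 2 = derivative (R * f) + f * f * (derivative m + k * k) := by
    rw [derivative_mul]
    have e4 : r = U * O + f * k := by linear_combination e2 - (f * k) * h2
    rw [e4]
    linear_combination (U * U) * hO - derivative f * e1 - f * e3 + (U * O * f * k + f * derivative f * m) * h2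
  have hz : derivative m + k * k = 0 := by
    by_contra hzne
    have hdeg : (f * f * (derivative m + k * k)).natDegree ≤ 2 * d := by
      have e : f * f * (derivative m + k * k) = r ^ 2 - derivative (R * f) := by linear_combination -key
      rw [e]
      refine (natDegree_sub_le _ _).trans (max_le ?_ ?_)
      · exact (natDegree_pow_le).trans (Nat.mul_le_mul_left 2 hrd)
      · refine (natDegree_derivative_le _).trans ?_
        have := natDegree_mul_le (p := R) (q := f)
        omega
    rw [(hf.mul hf).natDegree_mul' hzne, hf.natDegree_mul hf, hd] at hdeg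
    omega
  rw [hz, mul_zero, add_zero] at key
  have e := congrArg (fun p => coeff p (2 * d)) key
  simp only [coeff_pow_of_natDegree_le hrd, coeff_derivative] at e
  have e5 : (R * f).coeff (2 * d + 1) = R.coeff d := by
    rw [show 2 * d + 1 = d + (d + 1) by omega, coeff_mul_add_eq_of_natDegree_le hRd hd.le, ← hd, hf.coeff_natDegree,
      mul_one]
  rw [e5] at e
  rw [hd, Nat.add_sub_cancel]
  push_cast at e
  linear_combination -e - (R.coeff d * d) * (CharTwo.two_eq_zero (R := F))

theorem realizes_regular [Finite F] {f : F[X]} (hf : f.Monic) (hn : 1 ≤ f.natDegree) (h0 : f.coeff 0 ≠ 0) :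
    Realizes f (f.coeff 1 / f.coeff 0) := by
  obtain ⟨O, hO⟩ := exists_sqrt_derivative f
  set d := f.natDegree with hd
  have hne : f ≠ 1 := fun h => by rw [hd, h, natDegree_one] at hn; omega
  let b : Module.Basis (Fin f.natDegree) F (AdjoinRoot f) := (AdjoinRoot.powerBasis' hf).basis
  have : FiniteDimensional F (AdjoinRoot f) := Module.Finite.of_basis b
  have h2A : (2 : AdjoinRoot f) = 0 := by
    rw [← map_ofNat (algebraMap F (AdjoinRoot f)), CharTwo.two_eq_zero, map_zero]
  let y : AdjoinRoot f := AdjoinRoot.root f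
  let ℓ : AdjoinRoot f →ₗ[F] F := (Polynomial.lcoeff F (d - 1)).comp (AdjoinRoot.modByMonicHom hf)
  have hℓ : ∀ g, ℓ (AdjoinRoot.mk f g) = (g %ₘ f).coeff (d - 1) := fun g => by
    simp only [ℓ, LinearMap.comp_apply, AdjoinRoot.modByMonicHom_mk, lcoeff_apply]
  have hℓs : ∀ g : F[X], g.natDegree < d → ℓ (AdjoinRoot.mk f g) = g.coeff (d - 1) := fun g hg => by
    rw [hℓ, (modByMonic_eq_self_iff hf).2 (degree_lt_degree hg)]
  let η : AdjoinRoot f := AdjoinRoot.mk f (C (f.coeff 0)⁻¹ * divX f)
  have hη : y * η = 1 := by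
    show AdjoinRoot.root f * AdjoinRoot.mk f _ = 1
    rw [← AdjoinRoot.mk_X, ← map_mul, ← map_one (AdjoinRoot.mk f), AdjoinRoot.mk_eq_mk]
    refine ⟨C (f.coeff 0)⁻¹, ?_⟩
    have e := divX_mul_X_add f
    have e' : C (f.coeff 0)⁻¹ * C (f.coeff 0) = 1 := by rw [← C_mul, inv_mul_cancel₀ h0, C_1]
    have h2 : (2 : F[X]) = 0 := by rw [show (2 : F[X]) = C 2 from rfl, CharTwo.two_eq_zero, C_0]
    linear_combination C (f.coeff 0)⁻¹ * e - e' - h2
  let P : BilinForm F (AdjoinRoot f) := (LinearMap.mul F (AdjoinRoot f)).compr₂ (ℓ.comp (LinearMap.mulLeft F y))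
  have hP : ∀ u v, P u v = ℓ (y * (u * v)) := fun _ _ => rfl
  have hPs : ∀ u v, P u v = P v u := fun u v => by rw [hP, hP, mul_comm u]
  let w : AdjoinRoot f := AdjoinRoot.mk f O * η
  have hsq : ∀ u, ℓ (u * u) = P u w ^ 2 := fun u => by
    obtain ⟨U, rfl⟩ := AdjoinRoot.mk_surjective u
    rw [hP, show y * (AdjoinRoot.mk f U * w) = AdjoinRoot.mk f (U * O) by
      rw [map_mul]; linear_combination (AdjoinRoot.mk f U * AdjoinRoot.mk f O) * hη, ← map_mul, hℓ, hℓ]
    exact coeff_sq_mod hf hn hO U
  have hPn : ∀ u, (∀ v, P u v = 0) → u = 0 := fun u hu => by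
    obtain ⟨g, rfl⟩ := AdjoinRoot.mk_surjective u
    by_contra hu0
    have e : AdjoinRoot.mk f g = AdjoinRoot.mk f (g %ₘ f) :=
      AdjoinRoot.mk_eq_mk.2 ⟨g /ₘ f, by linear_combination -(modByMonic_add_div g f)⟩
    have hr0 : g %ₘ f ≠ 0 := fun h => hu0 (by rw [e, h, map_zero])
    have hd' : (g %ₘ f).natDegree < d := natDegree_modByMonic_lt g hf hne
    have := hu (η * AdjoinRoot.mk f (X ^ (d - 1 - (g %ₘ f).natDegree)))
    rw [hP, show y * (AdjoinRoot.mk f g * (η * AdjoinRoot.mk f (X ^ (d - 1 - (g %ₘ f).natDegree)))) =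
        AdjoinRoot.mk f ((g %ₘ f) * X ^ (d - 1 - (g %ₘ f).natDegree)) by
      rw [map_mul, ← e]
      linear_combination (AdjoinRoot.mk f g * AdjoinRoot.mk f (X ^ (d - 1 - (g %ₘ f).natDegree))) * hη,
      hℓs _ (by rw [natDegree_mul_X_pow _ hr0]; omega),
      show d - 1 = (g %ₘ f).natDegree + (d - 1 - (g %ₘ f).natDegree) by omega] at this
    nth_rewrite 1 [Nat.add_sub_cancel_left] at this
    rw [coeff_mul_X_pow] at this
    exact hr0 (leadingCoeff_eq_zero.1 this)
  have hc : P w w = f.coeff 1 / f.coeff 0 := by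
    have e : y * (w * w) = algebraMap F _ (f.coeff 1) * η + AdjoinRoot.mk f (divX (derivative f)) := by
      have hd1 : AdjoinRoot.mk f (derivative f) =
          AdjoinRoot.mk f (divX (derivative f)) * y + algebraMap F _ (f.coeff 1) := by
        conv_lhs => rw [← divX_mul_X_add (derivative f)]
        rw [map_add, map_mul, AdjoinRoot.mk_X, AdjoinRoot.mk_C,
          show (derivative f).coeff 0 = f.coeff 1 by simp [coeff_derivative]]
        rfl
      have hOO : AdjoinRoot.mk f O * AdjoinRoot.mk f O = AdjoinRoot.mk f (derivative f) := by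
        rw [← map_mul, ← hO, sq]
      linear_combination (AdjoinRoot.mk f O * AdjoinRoot.mk f O * η) * hη + η * hOO + η * hd1 +
        AdjoinRoot.mk f (divX (derivative f)) * hη
    have hdiv : (divX (derivative f)).natDegree < d := by
      rw [natDegree_divX_eq_natDegree_tsub_one]
      have := natDegree_derivative_le f
      omega
    rw [hP, e, map_add, ← Algebra.smul_def, map_smul, hℓs _ hdiv, coeff_divX, coeff_derivative,
      coeff_eq_zero_of_natDegree_lt (show f.natDegree < d - 1 + 1 + 1 by omega), zero_mul, add_zero, smul_eq_mul,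
      hℓs _ (by
        refine lt_of_le_of_lt (natDegree_C_mul_le _ _) ?_
        rw [natDegree_divX_eq_natDegree_tsub_one]; omega), coeff_C_mul, coeff_divX,
      show d - 1 + 1 = f.natDegree by omega, hf.coeff_natDegree, mul_one, div_eq_mul_inv]
  have htt : ∀ z : AdjoinRoot f, z + z = 0 := fun z => by linear_combination z * h2A
  let a : (AdjoinRoot f × AdjoinRoot f) ≃ₗ[F] (AdjoinRoot f × AdjoinRoot f) :=
    { toFun := fun x => (x.2, x.1 + y * x.2)
      map_add' := fun x z => Prod.ext rfl (by simp only [Prod.fst_add, Prod.snd_add]; ring)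
      map_smul' := fun c x => Prod.ext rfl (by simp [smul_add])
      invFun := fun x => (x.2 + y * x.1, x.1)
      left_inv := fun x => Prod.ext (show x.1 + y * x.2 + y * x.2 = x.1 by rw [add_assoc, htt, add_zero]) rfl
      right_inv := fun x => Prod.ext rfl (show x.2 + y * x.1 + y * x.1 = x.2 by rw [add_assoc, htt, add_zero]) }
  have hQ : ∀ x, hypQ P w x = ℓ (y * (x.1 * x.2) + x.1 * x.1 + x.2 * x.2) := fun x => by
    rw [hypQ_apply, map_add, map_add, hsq, hsq, hP, CharTwo.add_sq, ← add_assoc]
  refine ⟨AdjoinRoot f, inferInstance, inferInstance, inferInstance, P, w, a, Algebra.lmul F _ y, hPs, hPn, hc,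
    (Module.finrank_eq_card_basis b).trans (Fintype.card_fin _), fun x => ?_, fun x => ?_, ?_⟩
  · rw [hQ, hQ]
    refine congrArg ℓ ?_
    show y * (x.2 * (x.1 + y * x.2)) + x.2 * x.2 + (x.1 + y * x.2) * (x.1 + y * x.2) = _
    linear_combination (y * y * x.2 * x.2 + x.1 * y * x.2) * h2A
  · refine Prod.ext ?_ ?_
    · show x.2 + (x.2 + y * x.1) = y * x.1
      rw [← add_assoc, htt, zero_add]
    · show x.1 + y * x.2 + x.1 = y * x.2
      linear_combination x.1 * h2A
  · rw [← LinearMap.charpoly_toMatrix _ (AdjoinRoot.powerBasis' hf).basis, ← Algebra.leftMulMatrix_apply]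
    refine Eq.trans (congrArg (fun z => Matrix.charpoly (Algebra.leftMulMatrix (AdjoinRoot.powerBasis' hf).basis z))
      (AdjoinRoot.powerBasis'_gen hf).symm) ((charpoly_leftMulMatrix (AdjoinRoot.powerBasis' hf)).trans ?_)
    rw [AdjoinRoot.powerBasis'_gen, AdjoinRoot.minpoly_root hf.ne_zero, hf.leadingCoeff, inv_one, C_1, mul_one]

omit [CharP F 2] in
theorem realizes_one : Realizes (1 : F[X]) 0 := by
  refine ⟨Fin 0 → F, inferInstance, inferInstance, inferInstance, 0, 0, LinearEquiv.refl F _, 0, fun _ _ => rfl,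
    fun u _ => Subsingleton.elim _ _, rfl, by simp, fun _ => rfl, fun x => Subsingleton.elim _ _, ?_⟩
  exact eq_one_of_monic_natDegree_zero (LinearMap.charpoly_monic _) (by rw [LinearMap.charpoly_natDegree]; simp)

/-- Adding a plane with trivial action gives every invariant. -/
theorem realizes_X_mul [Finite F] {h : F[X]} (hh : h.Monic) {c : F} (hr : Realizes h c) (c' : F) :
    Realizes (X * h) c' := by
  obtain ⟨A, _, _, _, P, w, a, Y, hs, hP, hc, hfr, hQ, hY, hchar⟩ := hr
  obtain ⟨s, hsc⟩ : ∃ s : F, s * s = c + c' := by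
    have := Fact.mk Nat.prime_two
    refine ⟨(frobeniusEquiv F 2).symm (c + c'), ?_⟩
    have e := (frobeniusEquiv F 2).apply_symm_apply (c + c')
    rwa [frobeniusEquiv_apply, frobenius_def, sq] at e
  let P' : BilinForm F (A × F) := P.compl₁₂ (LinearMap.fst F A F) (LinearMap.fst F A F) +
    (LinearMap.mul F F).compl₁₂ (LinearMap.snd F A F) (LinearMap.snd F A F)
  have hP' : ∀ u v, P' u v = P u.1 v.1 + u.2 * v.2 := fun _ _ => rfl
  let σ := LinearEquiv.prodProdProdComm F A F A F
  let a' : ((A × F) × (A × F)) ≃ₗ[F] ((A × F) × (A × F)) :=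
    σ.trans ((a.prodCongr (LinearEquiv.refl F (F × F))).trans σ.symm)
  have ha' : ∀ x, a' x = (((a (x.1.1, x.2.1)).1, x.1.2), ((a (x.1.1, x.2.1)).2, x.2.2)) := fun _ => rfl
  have ha's : ∀ x, a'.symm x = (((a.symm (x.1.1, x.2.1)).1, x.1.2), ((a.symm (x.1.1, x.2.1)).2, x.2.2)) := fun _ => rfl
  refine ⟨A × F, inferInstance, inferInstance, inferInstance, P', (w, s), a', Y.prodMap 0,
    fun u v => by rw [hP', hP', hs, mul_comm], fun u hu => ?_, ?_, ?_, fun x => ?_, fun x => ?_, ?_⟩
  · refine Prod.ext (hP _ fun v => ?_) ?_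
    · simpa [hP'] using hu (v, 0)
    · simpa [hP'] using hu (0, 1)
  · rw [hP', hc, hsc, ← add_assoc, CharTwo.add_self_eq_zero, zero_add]
  · rw [Module.finrank_prod, Module.finrank_self, hfr, monic_X.natDegree_mul hh, natDegree_X, add_comm]
  · have e := hQ (x.1.1, x.2.1)
    simp only [hypQ_apply, hP', ha'] at e ⊢
    simp only [CharTwo.add_sq] at e ⊢
    linear_combination e
  · have e := hY (x.1.1, x.2.1)
    rw [ha', ha's]
    refine Prod.ext (Prod.ext ?_ ?_) (Prod.ext ?_ ?_)
    · show (a (x.1.1, x.2.1)).1 + (a.symm (x.1.1, x.2.1)).1 = Y x.1.1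
      exact congrArg Prod.fst e
    · exact CharTwo.add_self_eq_zero x.1.2
    · show (a (x.1.1, x.2.1)).2 + (a.symm (x.1.1, x.2.1)).2 = Y x.2.1
      exact congrArg Prod.snd e
    · exact CharTwo.add_self_eq_zero x.2.2
  · rw [LinearMap.charpoly_prodMap, hchar, LinearMap.charpoly_zero, Module.finrank_self, pow_one, mul_comm]

theorem realizes_all [Finite F] : ∀ (n : ℕ) (f : F[X]), f.Monic → f.natDegree = n →
    (f.coeff 0 ≠ 0 → Realizes f (f.coeff 1 / f.coeff 0)) ∧ (f.coeff 0 = 0 → ∀ c, Realizes f c) := by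
  intro n
  induction n with
  | zero =>
    intro f hf hn
    rw [hf.natDegree_eq_zero.1 hn]
    exact ⟨fun _ => by rw [coeff_one, if_neg one_ne_zero, zero_div]; exact realizes_one,
      fun h => absurd h (by simp)⟩
  | succ n ih =>
    intro f hf hn
    refine ⟨fun h0 => realizes_regular hf (by omega) h0, fun h0 c => ?_⟩
    obtain ⟨h, rfl⟩ := X_dvd_iff.2 h0
    have hh : h.Monic := monic_X.of_mul_monic_left hf
    rw [monic_X.natDegree_mul hh, natDegree_X] at hn
    by_cases hz : h.coeff 0 = 0
    · exact realizes_X_mul hh ((ih h hh (by omega)).2 hz 0) c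
    · exact realizes_X_mul hh ((ih h hh (by omega)).1 hz) c

end CfsgLib.ClassNumber.CharTwoLower
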