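import Cfsg.Agent.Lib.ClassCount.CharTwo.ReducePoly

/-!
# Isometries without fixed vectors in characteristic two

They are determined by a tuple of `Tup F N` on a space of dimension `2 N`.
-/

set_option autoImplicit false

open Polynomial
open LinearMap (BilinForm)
open CfsgLib.Classical CfsgLib.Classical.ClassTheory

namespace CfsgLib.ClassNumber.CharTwoReduce

universe u

variable {F : Type u} [Field F] [Fintype F] [CharP F 2]
variable {V : Type u} [AddCommGroup V] [Module F V] [FiniteDimensional F V]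
variable {V' : Type u} [AddCommGroup V'] [Module F V'] [FiniteDimensional F V']

omit [CharP F 2] in
theorem part_selfFree {B : BilinForm F V} (hB : B.Nondegenerate) {b : V ≃ₗ[F] V}
    (hb : ∀ u v, B (b u) (b v) = B u v) (hfree : ∀ v, b v = v → v = 0) (D : Decomp b.toLinearMap)
    {k : ℕ} (hk : k ≠ 0) : SelfFree (D.part k) := by
  obtain ⟨h0, hr, hev⟩ := part_props hB hb D k hk
  exact ⟨D.part_monic k, h0, hr, hev 1 fun v hv => hfree v (by rwa [one_smul] at hv)⟩

/-- A space with a free isometry has even dimension. -/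
theorem free_even {B : BilinForm F V} (hB : B.Nondegenerate) (b : V ≃ₗ[F] V)
    (hb : ∀ u v, B (b u) (b v) = B u v) (hfree : ∀ v, b v = v → v = 0) : Even (Module.finrank F V) := by
  obtain ⟨D⟩ := exists_decomp b.toLinearMap
  rw [← sum_part_degree D le_rfl]
  exact even_iff_two_dvd.2 (Finset.dvd_sum fun j _ =>
    (even_iff_two_dvd.1 (part_selfFree hB hb hfree D (k := 1 + (j : ℕ)) (by omega)).even_and_middle.1).mul_left _)

/-- The tuple of a free isometry. -/
def FreeData {N : ℕ} (b : V ≃ₗ[F] V) (t : Tup F N) : Prop :=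
  ∃ D : Decomp b.toLinearMap, ∀ i : Fin N, half (D.part (1 + (i : ℕ))) = t.1 i

omit [Fintype F] [CharP F 2] [FiniteDimensional F V] in
theorem part_natDegree_zero {T : Module.End F V} (D : Decomp T) {k : ℕ}
    (hd : Even (D.part k).natDegree) (hlt : Module.finrank F V < 2 * k) :
    (D.part k).natDegree = 0 := by
  rcases Nat.lt_or_ge (Module.finrank F V) k with h | h
  · rw [part_eq_one_of_lt D h, natDegree_one]
  · have h1 := sum_part_degree D (le_refl (Module.finrank F V))
    have h2 : (1 + (k - 1)) * (D.part (1 + (k - 1))).natDegree ≤ Module.finrank F V := by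
      conv_rhs => rw [← h1]
      exact Finset.single_le_sum (f := fun j : Fin (Module.finrank F V) =>
        (1 + (j : ℕ)) * (D.part (1 + (j : ℕ))).natDegree) (fun _ _ => Nat.zero_le _)
        (Finset.mem_univ ⟨k - 1, by omega⟩)
    rw [show 1 + (k - 1) = k by omega] at h2
    obtain ⟨e, he⟩ := hd
    by_contra hne
    have : k * 2 ≤ k * (D.part k).natDegree := Nat.mul_le_mul_left k (by omega)
    omega

theorem exists_freeData {B : BilinForm F V} (hB : B.Nondegenerate) (b : V ≃ₗ[F] V)
    (hb : ∀ u v, B (b u) (b v) = B u v) (hfree : ∀ v, b v = v → v = 0) {N : ℕ}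
    (hN : Module.finrank F V = 2 * N) : ∃ t : Tup F N, FreeData b t := by
  obtain ⟨D⟩ := exists_decomp b.toLinearMap
  have hp := fun i : ℕ => part_selfFree hB hb hfree D (k := 1 + i) (by omega)
  refine ⟨⟨fun i => half (D.part (1 + (i : ℕ))), fun i => ⟨half_monic _, (hp _).half_coeff_zero⟩, ?_⟩,
    D, fun i => rfl⟩
  have h1 := sum_part_degree D hN.le
  rw [Fin.sum_univ_eq_sum_range (fun j => (1 + j) * (D.part (1 + j)).natDegree), ← Finset.sum_range_add_sum_Ico _
    (show N ≤ 2 * N by omega), Finset.sum_eq_zero (s := Finset.Ico N (2 * N)) fun j hj => ?_, add_zero,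
    ← Fin.sum_univ_eq_sum_range (fun j => (1 + j) * (D.part (1 + j)).natDegree)] at h1
  · have h2 : 2 * ∑ i : Fin N, (1 + (i : ℕ)) * (half (D.part (1 + (i : ℕ)))).natDegree = 2 * N := by
      conv_rhs => rw [← hN, ← h1]
      rw [Finset.mul_sum]
      refine Finset.sum_congr rfl fun i _ => ?_
      obtain ⟨e, he⟩ := (hp i).even_and_middle.1
      rw [natDegree_half, he, show (e + e) / 2 = e by omega]
      ring
    exact Nat.eq_of_mul_eq_mul_left two_pos h2
  · rw [Finset.mem_Ico] at hj
    rw [part_natDegree_zero D (hp j).even_and_middle.1 (by omega), mul_zero]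

/-- Free isometries with one tuple are isometrically equivalent. -/
theorem FreeData.exists_isometry {N : ℕ} {t : Tup F N} {B : BilinForm F V} (hA : B.IsAlt)
    (hB : B.Nondegenerate) {b : V ≃ₗ[F] V} (hb : ∀ u v, B (b u) (b v) = B u v)
    (hfree : ∀ v, b v = v → v = 0) (hN : Module.finrank F V = 2 * N)
    {B' : BilinForm F V'} (hA' : B'.IsAlt) (hB' : B'.Nondegenerate) {b' : V' ≃ₗ[F] V'}
    (hb' : ∀ u v, B' (b' u) (b' v) = B' u v) (hfree' : ∀ v, b' v = v → v = 0)
    (hN' : Module.finrank F V' = 2 * N) (h : FreeData b t) (h' : FreeData b' t) :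
    ∃ f : V ≃ₗ[F] V', (∀ v, f (b v) = b' (f v)) ∧ ∀ u v, B' (f u) (f v) = B u v := by
  obtain ⟨D, hD⟩ := h
  obtain ⟨D', hD'⟩ := h'
  have heq : ∀ k, k ≠ 0 → D.part k = D'.part k := fun k hk => by
    have hs := part_selfFree hB hb hfree D hk
    have hs' := part_selfFree hB' hb' hfree' D' hk
    by_cases hkN : k ≤ N
    · have e1 := hD ⟨k - 1, by omega⟩
      have e2 := hD' ⟨k - 1, by omega⟩
      simp only [show 1 + (k - 1) = k by omega] at e1 e2
      exact half_inj hs hs' (e1.trans e2.symm)
    · rw [hs.1.natDegree_eq_zero.1 (part_natDegree_zero D hs.even_and_middle.1 (by omega)),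
        hs'.1.natDegree_eq_zero.1 (part_natDegree_zero D' hs'.even_and_middle.1 (by omega))]
  obtain ⟨L, hL⟩ := exists_equiv_of_part_eq D D' (hN.trans hN'.symm) heq
  refine exists_isometric_of_fpf (-1) hB (fun u v => by rw [← LinearMap.IsAlt.neg hA u v]; ring) hB'
    (fun u v => by rw [← LinearMap.IsAlt.neg hA' u v]; ring) b hb b' hb' L hL fun v hv => hfree v ?_
  rw [eq_neg_of_add_eq_zero_left (hfree (b v + v) (by rw [map_add, hv, add_comm])), ← neg_one_smul F v,
    CharTwo.neg_eq, one_smul]

omit [Fintype F] [CharP F 2] in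
theorem onRan_free (a : V ≃ₗ[F] V) (v : genRan a (1 : F)) (hv : onRan a 1 v = v) : v = 0 := by
  refine shiftEnd_onRan_injective a 1 v ?_
  rw [one_smul]
  exact congrArg Subtype.val hv

end CfsgLib.ClassNumber.CharTwoReduce
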