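import Cfsg.Agent.Lib.ClassCount.CharTwo.ReduceSp
import Cfsg.Agent.Lib.Classical.Quad.Matrix

/-!
# Classes of `O(2n)` in characteristic two through the unipotent part

The form on the part without the eigenvalue `1` is determined by the polar form and the isometry, as
`Q (x + a x) = B(x, a x)`; Witt's theorem then makes the parts at `1` isometric.
-/

set_option autoImplicit false

open LinearMap (BilinForm)
open QuadraticMap (polarBilin polar)
open CfsgLib.Classical CfsgLib.Classical.ClassTheory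

namespace CfsgLib.ClassNumber.CharTwoReduce

universe u

variable {F : Type u} [Field F]
variable {V : Type u} [AddCommGroup V] [Module F V]

theorem polarBilin_comp_subtype (Q : QuadraticForm F V) (W : Submodule F V) :
    polarBilin (Q.comp W.subtype) = BilinForm.restrict (polarBilin Q) W :=
  LinearMap.ext₂ fun x y => by
    show polar (Q.comp W.subtype) x y = polar Q (x : V) (y : V)
    simp [polar]

theorem polar_preserved (Q : QuadraticForm F V) (a : V ≃ₗ[F] V) (ha : ∀ v, Q (a v) = Q v) (u v : V) :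
    polarBilin Q (a u) (a v) = polarBilin Q u v := by
  simp only [QuadraticMap.polarBilin_apply_apply, polar, ← map_add, ha]

variable [CharP F 2]

theorem polarBilin_alt (Q : QuadraticForm F V) : (polarBilin Q).IsAlt := fun v => by
  show polar Q v v = 0
  rw [Quad.polar_self', CharTwo.two_eq_zero, zero_mul]

variable [FiniteDimensional F V]
variable {V' : Type u} [AddCommGroup V'] [Module F V'] [FiniteDimensional F V']

theorem quad_on_free (Q : QuadraticForm F V) (Q' : QuadraticForm F V') (a : V ≃ₗ[F] V)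
    (ha : ∀ v, Q (a v) = Q v) (a' : V' ≃ₗ[F] V') (ha' : ∀ v, Q' (a' v) = Q' v)
    (f : genRan a (1 : F) ≃ₗ[F] genRan a' (1 : F)) (hf : ∀ v, f (onRan a 1 v) = onRan a' 1 (f v))
    (hfb : ∀ u v, BilinForm.restrict (polarBilin Q') (genRan a' 1) (f u) (f v) = BilinForm.restrict (polarBilin Q) (genRan a 1) u v)
    (y : genRan a (1 : F)) : Q' (f y : V') = Q (y : V) := by
  let L : genRan a (1 : F) →ₗ[F] genRan a (1 : F) := LinearMap.id + (onRan a 1).toLinearMap
  have hinj : Function.Injective L := (injective_iff_map_eq_zero _).2 fun v hv => onRan_free a v (by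
    have h : v + onRan a 1 v = 0 := hv
    rw [eq_neg_of_add_eq_zero_right h, ← neg_one_smul F v, CharTwo.neg_eq, one_smul])
  obtain ⟨x, rfl⟩ := LinearMap.injective_iff_surjective.1 hinj y
  have hb : polar Q' (f x : V') (f (onRan a 1 x) : V') = polar Q (x : V) (onRan a 1 x : V) := hfb x (onRan a 1 x)
  show Q' ((f (x + onRan a 1 x) : genRan a' 1) : V') = Q ((x + onRan a 1 x : genRan a 1) : V)
  rw [map_add, Submodule.coe_add, Submodule.coe_add, Quad.apply_add, Quad.apply_add, hb]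
  rw [hf, coe_onRan, coe_onRan, ha, ha', CharTwo.add_self_eq_zero, CharTwo.add_self_eq_zero]

/-- Witt cancellation of the parts without eigenvalue `1`. -/
theorem exists_ker_isometry (Q : QuadraticForm F V) (hQ : (polarBilin Q).Nondegenerate)
    (Q' : QuadraticForm F V') (hQ' : (polarBilin Q').Nondegenerate) (e : V ≃ₗ[F] V') (he : ∀ v, Q' (e v) = Q v)
    (a : V ≃ₗ[F] V) (ha : ∀ v, Q (a v) = Q v) (a' : V' ≃ₗ[F] V') (ha' : ∀ v, Q' (a' v) = Q' v)
    (f : genRan a (1 : F) ≃ₗ[F] genRan a' (1 : F)) (hf : ∀ y, Q' (f y : V') = Q (y : V))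
    (hdim : Module.finrank F (genKer a (1 : F)) = Module.finrank F (genKer a' (1 : F))) :
    ∃ g : genKer a (1 : F) ≃ₗ[F] genKer a' (1 : F), ∀ v, Q'.comp (genKer a' 1).subtype (g v) =
      Q.comp (genKer a 1).subtype v := by
  let φ : genRan a (1 : F) →ₗ[F] V := (e.symm : V' →ₗ[F] V) ∘ₗ (genRan a' 1).subtype ∘ₗ f.toLinearMap
  obtain ⟨g, hg⟩ := Quad.witt hQ (genRan a 1) φ
    (e.symm.injective.comp (Subtype.val_injective.comp f.injective)) fun y => by
      rw [← hf y, ← he]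
      exact congrArg Q' (e.apply_symm_apply _)
  let h : V ≃ₗ[F] V' := (g : V ≃ₗ[F] V).trans e
  have hh : ∀ v, Q' (h v) = Q v := fun v => (he _).trans (Quad.OQ.map_apply g v)
  have hr : ∀ y : genRan a (1 : F), h y = (f y : V') := fun y =>
    (congrArg e (hg y)).trans (e.apply_symm_apply _)
  have hp : ∀ u v, polarBilin Q' (h u) (h v) = polarBilin Q u v := fun u v => by
    simp only [QuadraticMap.polarBilin_apply_apply, polar, ← map_add, hh]
  have hperp := perp_gen (polarBilin_alt Q) a (polar_preserved Q a ha) (one_mul (1 : F))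
  have hperp' := perp_gen (polarBilin_alt Q') a' (polar_preserved Q' a' ha') (one_mul (1 : F))
  obtain ⟨-, n1⟩ := nondegenerate_of_isCompl (isCompl_gen a' 1) hQ' hperp'
  have hk : ∀ k : genKer a (1 : F), h k ∈ genKer a' (1 : F) := fun k => by
    obtain ⟨k', r', hk', hr', hsum⟩ :=
      Submodule.codisjoint_iff_exists_add_eq.1 (isCompl_gen a' 1).codisjoint (h k)
    suffices r' = 0 by rw [← hsum, this, add_zero]; exact hk'
    refine congrArg Subtype.val (n1.1 ⟨r', hr'⟩ fun w => ?_)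
    obtain ⟨u, rfl⟩ := f.surjective w
    show polarBilin Q' r' (f u : V') = 0
    have h2 : polarBilin Q' (h k) (f u : V') = 0 := by
      rw [← hr, hp]
      exact (hperp _ k.2 _ u.2).1
    rw [← hsum, map_add, LinearMap.add_apply, (hperp' _ hk' _ (f u).2).1, zero_add] at h2
    exact h2
  let G : genKer a (1 : F) →ₗ[F] genKer a' (1 : F) :=
    ((h : V →ₗ[F] V') ∘ₗ (genKer a 1).subtype).codRestrict _ hk
  have hGi : Function.Injective G := fun u v huv => Subtype.ext (h.injective (congrArg Subtype.val huv))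
  exact ⟨LinearEquiv.ofBijective G ⟨hGi, (LinearMap.injective_iff_surjective_of_finrank_eq_finrank hdim).1 hGi⟩,
    fun v => hh v⟩

theorem glue_quad [Finite F] (Q : QuadraticForm F V) (Q' : QuadraticForm F V') (a : V ≃ₗ[F] V)
    (ha : ∀ v, Q (a v) = Q v) (a' : V' ≃ₗ[F] V') (ha' : ∀ v, Q' (a' v) = Q' v)
    (f0 : genKer a (1 : F) ≃ₗ[F] genKer a' (1 : F)) (f1 : genRan a (1 : F) ≃ₗ[F] genRan a' (1 : F))
    (h0 : ∀ v, f0 (onKer a 1 v) = onKer a' 1 (f0 v)) (h1 : ∀ v, f1 (onRan a 1 v) = onRan a' 1 (f1 v))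
    (h0q : ∀ v, Q' (f0 v : V') = Q (v : V)) (h1q : ∀ v, Q' (f1 v : V') = Q (v : V)) :
    ∃ f : V ≃ₗ[F] V', (∀ v, f (a v) = a' (f v)) ∧ ∀ v, Q' (f v) = Q v := by
  have hperp := perp_gen (polarBilin_alt Q) a (polar_preserved Q a ha) (one_mul (1 : F))
  have hperp' := perp_gen (polarBilin_alt Q') a' (polar_preserved Q' a' ha') (one_mul (1 : F))
  obtain ⟨f, hfk, hfr, -⟩ := exists_glue (b := polarBilin Q) (b' := polarBilin Q') (isCompl_gen a 1)
    (isCompl_gen a' 1) hperp hperp' f0 f1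
    (fun u v => by simp only [QuadraticMap.polarBilin_apply_apply, polar, ← Submodule.coe_add, ← map_add, h0q])
    (fun u v => by simp only [QuadraticMap.polarBilin_apply_apply, polar, ← Submodule.coe_add, ← map_add, h1q])
  refine ⟨f, fun v => ?_, fun v => ?_⟩
  · obtain ⟨k, r, hk, hr, rfl⟩ := Submodule.codisjoint_iff_exists_add_eq.1 (isCompl_gen a 1).codisjoint v
    rw [map_add, map_add, map_add, map_add]
    congr 1
    · rw [← coe_onKer a 1 ⟨k, hk⟩, hfk, h0, coe_onKer, hfk ⟨k, hk⟩]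
    · rw [← coe_onRan a 1 ⟨r, hr⟩, hfr, h1, coe_onRan, hfr ⟨r, hr⟩]
  · obtain ⟨k, r, hk, hr, rfl⟩ := Submodule.codisjoint_iff_exists_add_eq.1 (isCompl_gen a 1).codisjoint v
    have e1 : polar Q k r = 0 := (hperp k hk r hr).1
    have e2 : polar Q' (f0 ⟨k, hk⟩ : V') (f1 ⟨r, hr⟩ : V') = 0 := (hperp' _ (f0 _).2 _ (f1 _).2).1
    rw [map_add, hfk ⟨k, hk⟩, hfr ⟨r, hr⟩, Quad.apply_add, Quad.apply_add, e1, e2, h0q, h1q]

theorem orth2_classes_le [Fintype F] {C : ℕ → Type} [∀ m, Finite (C m)]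
    (Has : ∀ (W : Type u) [AddCommGroup W] [Module F W] [FiniteDimensional F W],
      QuadraticForm F W → (W ≃ₗ[F] W) → ∀ m, C m → Prop)
    (hex : ∀ (W : Type u) [AddCommGroup W] [Module F W] [FiniteDimensional F W] (Q : QuadraticForm F W)
      (a : W ≃ₗ[F] W) (m : ℕ), (polarBilin Q).Nondegenerate → (∀ v, Q (a v) = Q v) →
      IsNilpotent (shiftEnd a 1) → Module.finrank F W = 2 * m → ∃ c, Has W Q a m c)
    (hiso : ∀ (W W' : Type u) [AddCommGroup W] [Module F W] [FiniteDimensional F W]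
      [AddCommGroup W'] [Module F W'] [FiniteDimensional F W'] (Q : QuadraticForm F W) (a : W ≃ₗ[F] W)
      (Q' : QuadraticForm F W') (a' : W' ≃ₗ[F] W') (m : ℕ) (c : C m),
      (polarBilin Q).Nondegenerate → (∀ v, Q (a v) = Q v) →
      IsNilpotent (shiftEnd a 1) → Module.finrank F W = 2 * m →
      (polarBilin Q').Nondegenerate → (∀ v, Q' (a' v) = Q' v) →
      IsNilpotent (shiftEnd a' 1) → Module.finrank F W' = 2 * m →
      (∃ e : W ≃ₗ[F] W', ∀ v, Q' (e v) = Q v) → Has W Q a m c → Has W' Q' a' m c →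
      ∃ f : W ≃ₗ[F] W', (∀ v, f (a v) = a' (f v)) ∧ ∀ v, Q' (f v) = Q v)
    {ι : Type} [Fintype ι] [DecidableEq ι] (Q : QuadraticForm F (ι → F))
    (hQ : (polarBilin Q).Nondegenerate) {n : ℕ} (hι : Fintype.card ι = 2 * n) :
    Nat.card (ConjClasses ↥(Cfsg.isometryGroup F (⇑Q))) ≤
      ∑ m ∈ Finset.range (n + 1), Nat.card (C m) * Fintype.card F ^ (n - m) := by
  classical
  let E := Quad.oEquiv Q
  have hA := polarBilin_alt Q
  have hq : ∀ (g : ↥(Cfsg.isometryGroup F (⇑Q))) v, Q ((E g).1 v) = Q v := fun g v => Quad.OQ.map_apply (E g) v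
  have hp := fun g => polar_preserved Q (E g).1 (hq g)
  have hfr : Module.finrank F (ι → F) = 2 * n := by rw [Module.finrank_pi, hι]
  have hnd : ∀ g, (polarBilin (Q.comp (genKer (E g).1 1).subtype)).Nondegenerate := fun g => by
    rw [polarBilin_comp_subtype]
    exact (restrict_gen hA hQ (E g).1 (hp g) (one_mul 1)).1.2.1
  have hex' : ∀ g : ↥(Cfsg.isometryGroup F (⇑Q)), ∃ x : CodeTup F C n,
      Module.finrank F (genKer (E g).1 1) = 2 * (x.1 : ℕ) ∧
      Module.finrank F (genRan (E g).1 1) = 2 * (n - (x.1 : ℕ)) ∧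
      Has _ (Q.comp (genKer (E g).1 1).subtype) (onKer (E g).1 1) _ x.2.1 ∧
      FreeData (onRan (E g).1 1) x.2.2 := fun g => by
    obtain ⟨m, hm, hm'⟩ := split_dims hA hQ (E g).1 (hp g) hfr
    obtain ⟨-, -, hB1, ha1⟩ := restrict_gen hA hQ (E g).1 (hp g) (one_mul 1)
    obtain ⟨c, hc⟩ := hex _ (Q.comp (genKer (E g).1 1).subtype) (onKer (E g).1 1) m (hnd g) (fun v => hq g v)
      (nilpotent_onKer _ _) hm
    obtain ⟨t, ht⟩ := exists_freeData hB1 (onRan (E g).1 1) ha1 (onRan_free _) hm'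
    exact ⟨⟨m, c, t⟩, hm, hm', hc, ht⟩
  choose x hx using fun K : ConjClasses ↥(Cfsg.isometryGroup F (⇑Q)) => hex' (Quotient.out K)
  refine (Nat.card_le_card_of_injective x fun K K' h => ?_).trans (card_codeTup_le n)
  have h1 := hx K
  have h2 := hx K'
  rw [← h] at h2
  obtain ⟨hm, hm', hc, ht⟩ := h1
  obtain ⟨em, em', ec, et⟩ := h2
  obtain ⟨-, hA1, hB1, ha1⟩ := restrict_gen hA hQ (E (Quotient.out K)).1 (hp _) (one_mul 1)
  obtain ⟨-, hA1', hB1', ha1'⟩ := restrict_gen hA hQ (E (Quotient.out K')).1 (hp _) (one_mul 1)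
  obtain ⟨f1, hf1, hf1b⟩ := ht.exists_isometry hA1 hB1 ha1 (onRan_free _) hm' hA1' hB1' ha1' (onRan_free _) em' et
  have hf1q := quad_on_free Q Q _ (hq _) _ (hq _) f1 hf1 hf1b
  obtain ⟨f0, hf0, hf0q⟩ := hiso _ _ _ _ _ _ _ (x K).2.1 (hnd _) (fun v => hq _ v) (nilpotent_onKer _ _) hm
    (hnd _) (fun v => hq _ v) (nilpotent_onKer _ _) em
    (exists_ker_isometry Q hQ Q hQ (LinearEquiv.refl F _) (fun _ => rfl) _ (hq _) _ (hq _) f1 hf1q (hm.trans em.symm))
    hc ec
  obtain ⟨f, hf, hfq⟩ := glue_quad Q Q _ (hq _) _ (hq _) f0 f1 hf0 hf1 hf0q hf1q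
  rw [← Quotient.out_eq K, ← Quotient.out_eq K']
  refine Quotient.sound (isConj_iff.2 ⟨E.symm ⟨f, Quad.mem_OQ.2 hfq⟩, mul_inv_eq_iff_eq_mul.2 (E.injective ?_)⟩)
  rw [map_mul, map_mul, MulEquiv.apply_symm_apply]
  exact Subtype.ext (LinearEquiv.ext hf)

end CfsgLib.ClassNumber.CharTwoReduce
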