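import Cfsg.Agent.Lib.ClassCount.Symplectic.Count

/-!
# Self-reciprocal polynomials in characteristic two

Without the root `1` the degree is even and the middle coefficient is the value at `1`, so the lower half
of the coefficients gives a monic polynomial of half the degree with non-zero constant term.
-/

set_option autoImplicit false

open Polynomial

namespace CfsgLib.ClassNumber.CharTwoReduce

universe u

variable {F : Type u} [Field F] [CharP F 2]

theorem coeff_zero_eq_one {g : F[X]} (hm : g.Monic) (h0 : g.coeff 0 ≠ 0) (h : recipPoly g = g) :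
    g.coeff 0 = 1 := by
  rcases coeff_zero_self hm h0 h with e | e
  · exact e
  · rw [e, CharTwo.neg_eq]

/-- Self-reciprocal, monic, without root `0` or `1`. -/
def SelfFree (g : F[X]) : Prop := g.Monic ∧ g.coeff 0 ≠ 0 ∧ recipPoly g = g ∧ g.eval 1 ≠ 0

theorem SelfFree.coeff_symm {g : F[X]} (hg : SelfFree g) {j : ℕ} (hj : j ≤ g.natDegree) :
    g.coeff j = g.coeff (g.natDegree - j) := by
  rw [coeff_self hg.2.2.1 hj, coeff_zero_eq_one hg.1 hg.2.1 hg.2.2.1, inv_one, one_mul]

theorem SelfFree.even_and_middle {g : F[X]} (hg : SelfFree g) :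
    Even g.natDegree ∧ g.coeff (g.natDegree / 2) ≠ 0 := by
  set d := g.natDegree with hd
  have hz : ∑ j ∈ (Finset.range (d + 1)).filter (fun j => 2 * j ≠ d), g.coeff j = 0 := by
    refine Finset.sum_involution (fun j _ => d - j) ?_ ?_ ?_ ?_
    · intro j hj
      rw [Finset.mem_filter, Finset.mem_range] at hj
      rw [← hg.coeff_symm (show j ≤ d by omega), CharTwo.add_self_eq_zero]
    · intro j hj _
      rw [Finset.mem_filter, Finset.mem_range] at hj
      omega
    · intro j hj
      rw [Finset.mem_filter, Finset.mem_range] at hj ⊢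
      omega
    · intro j hj
      rw [Finset.mem_filter, Finset.mem_range] at hj
      omega
  have he : g.eval 1 = ∑ j ∈ (Finset.range (d + 1)).filter (fun j => 2 * j = d), g.coeff j := by
    rw [eval_eq_sum_range, ← hd, ← Finset.sum_filter_add_sum_filter_not _ (fun j => 2 * j = d)]
    simp only [one_pow, mul_one]
    rw [show ∑ j ∈ (Finset.range (d + 1)).filter (fun j => ¬ 2 * j = d), g.coeff j = 0 from hz, add_zero]
  obtain ⟨j, hj, hne⟩ := Finset.exists_ne_zero_of_sum_ne_zero (he ▸ hg.2.2.2)
  rw [Finset.mem_filter] at hj
  refine ⟨⟨j, by omega⟩, ?_⟩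
  rwa [show d / 2 = j by omega]

/-- The lower half, with the middle coefficient as constant term. -/
noncomputable def half (g : F[X]) : F[X] :=
  X ^ (g.natDegree / 2) + ∑ k ∈ Finset.range (g.natDegree / 2),
    monomial k (if k = 0 then g.coeff (g.natDegree / 2) else g.coeff k)

omit [CharP F 2] in
theorem coeff_half (g : F[X]) (k : ℕ) :
    (half g).coeff k = if k < g.natDegree / 2 then (if k = 0 then g.coeff (g.natDegree / 2) else g.coeff k)
      else if k = g.natDegree / 2 then 1 else 0 := by
  rw [half, coeff_add, finsetSum_coeff, coeff_X_pow]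
  simp only [coeff_monomial, Finset.sum_ite_eq', Finset.mem_range]
  split_ifs <;> first | omega | simp

omit [CharP F 2] in
theorem natDegree_half (g : F[X]) : (half g).natDegree = g.natDegree / 2 := by
  refine natDegree_eq_of_le_of_coeff_ne_zero (natDegree_le_iff_coeff_eq_zero.2 fun k hk => ?_) ?_
  · rw [coeff_half, if_neg (by omega), if_neg (by omega)]
  · rw [coeff_half, if_neg (lt_irrefl _), if_pos rfl]
    exact one_ne_zero

omit [CharP F 2] in
theorem half_monic (g : F[X]) : (half g).Monic := by
  rw [Monic, leadingCoeff, natDegree_half, coeff_half, if_neg (lt_irrefl _), if_pos rfl]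

theorem SelfFree.half_coeff_zero {g : F[X]} (hg : SelfFree g) : (half g).coeff 0 ≠ 0 := by
  rw [coeff_half]
  rcases Nat.eq_zero_or_pos (g.natDegree / 2) with h | h
  · rw [if_neg (by omega), if_pos h.symm]
    exact one_ne_zero
  · rw [if_pos h, if_pos rfl]
    exact hg.even_and_middle.2

theorem half_inj {g g' : F[X]} (hg : SelfFree g) (hg' : SelfFree g') (h : half g = half g') : g = g' := by
  obtain ⟨i, hi⟩ := hg.even_and_middle.1
  obtain ⟨i', hi'⟩ := hg'.even_and_middle.1
  have e := congrArg natDegree h
  rw [natDegree_half, natDegree_half] at e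
  have hd : g.natDegree = g'.natDegree := by omega
  have hlow : ∀ k, k ≤ i → g.coeff k = g'.coeff k := fun k hk => by
    rcases Nat.eq_zero_or_pos k with rfl | hk0
    · rw [coeff_zero_eq_one hg.1 hg.2.1 hg.2.2.1, coeff_zero_eq_one hg'.1 hg'.2.1 hg'.2.2.1]
    rcases Nat.lt_or_ge k i with hlt | hge
    · have := congrArg (fun p => p.coeff k) h
      simp only [coeff_half] at this
      rwa [if_pos (by omega), if_neg (by omega), if_pos (by omega), if_neg (by omega)] at this
    · have := congrArg (fun p => p.coeff 0) h
      simp only [coeff_half] at this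
      rw [if_pos (by omega : 0 < g.natDegree / 2), if_pos (by omega : 0 < g'.natDegree / 2)] at this
      simp only [if_true] at this
      rw [show g.natDegree / 2 = k by omega, show g'.natDegree / 2 = k by omega] at this
      exact this
  refine Polynomial.ext fun k => ?_
  by_cases hk : k ≤ g.natDegree
  · by_cases hki : k ≤ i
    · exact hlow k hki
    · rw [hg.coeff_symm hk, hg'.coeff_symm (by omega), ← hd]
      exact hlow _ (by omega)
  · rw [coeff_eq_zero_of_natDegree_lt (by omega), coeff_eq_zero_of_natDegree_lt (by omega)]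

end CfsgLib.ClassNumber.CharTwoReduce
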