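import Cfsg.Agent.Lib.ClassCount.CharTwo.ReduceFree

/-!
# Classes of `Sp` in characteristic two through the unipotent part

Unipotents enter as a hypothesis: codes `C m` for the unipotent isometries in dimension `2 m`.
-/

set_option autoImplicit false

open LinearMap (BilinForm)
open CfsgLib.Classical

namespace CfsgLib.ClassNumber.CharTwoReduce

universe u

variable {F : Type u} [Field F] [Fintype F] [CharP F 2]

/-- The codes with the tuples. -/
abbrev CodeTup (F : Type u) [Field F] (C : ℕ → Type) (n : ℕ) : Type u :=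
  Σ m : Fin (n + 1), C (m : ℕ) × Tup F (n - (m : ℕ))

omit [CharP F 2] in
theorem card_codeTup_le {C : ℕ → Type} [∀ m, Finite (C m)] (n : ℕ) :
    Nat.card (CodeTup F C n) ≤ ∑ m ∈ Finset.range (n + 1), Nat.card (C m) * Fintype.card F ^ (n - m) := by
  rw [Nat.card_sigma, ← Fin.sum_univ_eq_sum_range (fun m => Nat.card (C m) * Fintype.card F ^ (n - m))]
  refine Finset.sum_le_sum fun m _ => ?_
  rw [Nat.card_prod]
  exact Nat.mul_le_mul_left _ (card_tup_le F _)

section Data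

variable {V : Type u} [AddCommGroup V] [Module F V] [FiniteDimensional F V]

theorem split_dims {B : BilinForm F V} (hA : B.IsAlt) (hB : B.Nondegenerate) (a : V ≃ₗ[F] V)
    (ha : ∀ u v, B (a u) (a v) = B u v) {n : ℕ} (hn : Module.finrank F V = 2 * n) :
    ∃ m : Fin (n + 1), Module.finrank F (genKer a 1) = 2 * (m : ℕ) ∧
      Module.finrank F (genRan a 1) = 2 * (n - (m : ℕ)) := by
  obtain ⟨-, -, hB1, ha1⟩ := restrict_gen hA hB a ha (one_mul 1)
  obtain ⟨j, hj⟩ := free_even hB1 (onRan a 1) ha1 (onRan_free a)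
  have hsum := Submodule.finrank_add_eq_of_isCompl (isCompl_gen a 1)
  rw [hn, hj] at hsum
  refine ⟨⟨n - j, by omega⟩, ?_, ?_⟩
  · show Module.finrank F (genKer a 1) = 2 * (n - j)
    omega
  · show Module.finrank F (genRan a 1) = 2 * (n - (n - j))
    omega

end Data

theorem sp2_classes_le {C : ℕ → Type} [∀ m, Finite (C m)]
    (Has : ∀ (W : Type u) [AddCommGroup W] [Module F W] [FiniteDimensional F W],
      BilinForm F W → (W ≃ₗ[F] W) → ∀ m, C m → Prop)
    (hex : ∀ (W : Type u) [AddCommGroup W] [Module F W] [FiniteDimensional F W] (B : BilinForm F W)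
      (a : W ≃ₗ[F] W) (m : ℕ), B.IsAlt → B.Nondegenerate → (∀ u v, B (a u) (a v) = B u v) →
      IsNilpotent (shiftEnd a 1) → Module.finrank F W = 2 * m → ∃ c, Has W B a m c)
    (hiso : ∀ (W W' : Type u) [AddCommGroup W] [Module F W] [FiniteDimensional F W]
      [AddCommGroup W'] [Module F W'] [FiniteDimensional F W'] (B : BilinForm F W) (a : W ≃ₗ[F] W)
      (B' : BilinForm F W') (a' : W' ≃ₗ[F] W') (m : ℕ) (c : C m),
      B.IsAlt → B.Nondegenerate → (∀ u v, B (a u) (a v) = B u v) →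
      IsNilpotent (shiftEnd a 1) → Module.finrank F W = 2 * m →
      B'.IsAlt → B'.Nondegenerate → (∀ u v, B' (a' u) (a' v) = B' u v) →
      IsNilpotent (shiftEnd a' 1) → Module.finrank F W' = 2 * m →
      Has W B a m c → Has W' B' a' m c →
      ∃ f : W ≃ₗ[F] W', (∀ v, f (a v) = a' (f v)) ∧ ∀ u v, B' (f u) (f v) = B u v)
    (n : ℕ) :
    Nat.card (ConjClasses ↥(Matrix.symplecticGroup (Fin n) F)) ≤
      ∑ m ∈ Finset.range (n + 1), Nat.card (C m) * Fintype.card F ^ (n - m) := by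
  classical
  let S := Symp.symplecticEquiv n F
  have hB := Symp.sympBil_nondegenerate n F
  have hA := Symp.sympBil_isAlt n F
  have hfr := Symp.finrank_sympSpace n F
  have hex' : ∀ g : ↥(Matrix.symplecticGroup (Fin n) F), ∃ x : CodeTup F C n,
      Module.finrank F (genKer (S g).1 1) = 2 * (x.1 : ℕ) ∧
      Module.finrank F (genRan (S g).1 1) = 2 * (n - (x.1 : ℕ)) ∧
      Has _ ((Symp.sympBil n F).restrict (genKer (S g).1 1)) (onKer (S g).1 1) _ x.2.1 ∧
      FreeData (onRan (S g).1 1) x.2.2 := fun g => by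
    obtain ⟨m, hm, hm'⟩ := split_dims hA hB (S g).1 (S g).2 hfr
    obtain ⟨⟨hAK, hBK, haK⟩, -, hB1, ha1⟩ := restrict_gen hA hB (S g).1 (S g).2 (one_mul 1)
    obtain ⟨c, hc⟩ := hex _ _ (onKer (S g).1 1) m hAK hBK haK (nilpotent_onKer _ _) hm
    obtain ⟨t, ht⟩ := exists_freeData hB1 (onRan (S g).1 1) ha1 (onRan_free _) hm'
    exact ⟨⟨m, c, t⟩, hm, hm', hc, ht⟩
  choose x hx using fun K : ConjClasses ↥(Matrix.symplecticGroup (Fin n) F) => hex' (Quotient.out K)
  refine (Nat.card_le_card_of_injective x fun K K' h => ?_).trans (card_codeTup_le n)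
  have h1 := hx K
  have h2 := hx K'
  rw [← h] at h2
  obtain ⟨hm, hm', hc, ht⟩ := h1
  obtain ⟨em, em', ec, et⟩ := h2
  obtain ⟨⟨hAK, hBK, haK⟩, hA1, hB1, ha1⟩ := restrict_gen hA hB (S (Quotient.out K)).1 (S (Quotient.out K)).2 (one_mul 1)
  obtain ⟨⟨hAK', hBK', haK'⟩, hA1', hB1', ha1'⟩ :=
    restrict_gen hA hB (S (Quotient.out K')).1 (S (Quotient.out K')).2 (one_mul 1)
  obtain ⟨f0, hf0, hf0b⟩ := hiso _ _ _ _ _ _ _ (x K).2.1 hAK hBK haK (nilpotent_onKer _ _) hm hAK' hBK' haK'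
    (nilpotent_onKer _ _) em hc ec
  obtain ⟨f1, hf1, hf1b⟩ := ht.exists_isometry hA1 hB1 ha1 (onRan_free _) hm' hA1' hB1' ha1' (onRan_free _) em' et
  obtain ⟨f, hf, hfb⟩ := glue_gen hA (S (Quotient.out K)).1 (S (Quotient.out K)).2 hA (S (Quotient.out K')).1
    (S (Quotient.out K')).2 (one_mul 1) f0 f1 hf0 hf1 hf0b hf1b
  rw [← Quotient.out_eq K, ← Quotient.out_eq K']
  refine Quotient.sound (isConj_iff.2 ⟨S.symm ⟨f, hfb⟩, mul_inv_eq_iff_eq_mul.2 (S.injective ?_)⟩)
  rw [map_mul, map_mul, MulEquiv.apply_symm_apply]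
  exact Subtype.ext (LinearEquiv.ext hf)

end CfsgLib.ClassNumber.CharTwoReduce
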