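import Mathlib

/-!
# Gauss sums of quadratic forms over finite fields of characteristic two

The sign character is `1` on the values of `c ^ 2 + c` and `-1` elsewhere.
-/

set_option autoImplicit false

namespace CfsgLib.ClassNumber.CharTwo

open LinearMap (BilinForm)
open Module

universe u

variable {F : Type u} [Field F] [CharP F 2]

/-- An element outside the values of `c ^ 2 + c`, with the values of index two. -/
def IsNonWP (δ₀ : F) : Prop :=
  (∀ a : F, ∃ c, a + (c ^ 2 + c) = 0 ∨ a + (c ^ 2 + c) = δ₀) ∧ ∀ c : F, c ^ 2 + c ≠ δ₀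

theorem wp_add (c d : F) : (c + d) ^ 2 + (c + d) = (c ^ 2 + c) + (d ^ 2 + d) := by
  rw [add_sq, show (2 : F) = 0 from CharTwo.two_eq_zero]
  ring

variable [Finite F]

omit [Finite F] in
theorem wp_zero_cases {c d : F} (h : c ^ 2 + c = d ^ 2 + d) : d = c ∨ d = c + 1 := by
  have h0 : (c + d) * (c + d + 1) = 0 := by
    have : (c + d) ^ 2 + (c + d) = 0 := by rw [wp_add, h, CharTwo.add_self_eq_zero]
    rw [← this]
    ring
  rcases mul_eq_zero.1 h0 with h1 | h1
  · exact Or.inl (CharTwo.add_eq_zero.1 h1).symm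
  · refine Or.inr (CharTwo.add_eq_zero.1 ?_).symm
    rw [← h1]
    ring

theorem exists_isNonWP : ∃ δ₀ : F, IsNonWP δ₀ := by
  classical
  let f : F →+ F := AddMonoidHom.mk' (fun c => c ^ 2 + c) wp_add
  have hker : Nat.card f.ker = 2 := by
    have e : (f.ker : Set F) = {0, 1} := by
      ext c
      simp only [SetLike.mem_coe, AddMonoidHom.mem_ker, Set.mem_insert_iff, Set.mem_singleton_iff]
      constructor
      · intro h
        have h1 : c ^ 2 + c = 0 := h
        have h' : (0 : F) ^ 2 + 0 = c ^ 2 + c := by simp [h1]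
        simpa using wp_zero_cases h'
      · rintro (rfl | rfl)
        · simp
        · show (1 : F) ^ 2 + 1 = 0
          rw [one_pow, CharTwo.add_self_eq_zero]
    rw [← SetLike.coe_sort_coe, e, Nat.card_coe_set_eq, Set.ncard_pair zero_ne_one]
  have hidx : f.range.index = 2 := by
    have h1 := AddSubgroup.card_mul_index f.range
    have h2 := AddSubgroup.card_mul_index f.ker
    rw [AddSubgroup.index_ker] at h2
    have hpos : 0 < Nat.card f.range := Nat.card_pos
    have h3 : Nat.card f.range * f.range.index = Nat.card f.range * 2 := by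
      rw [h1, ← h2, hker, mul_comm]
    exact Nat.eq_of_mul_eq_mul_left hpos h3
  obtain ⟨δ, hδ⟩ := AddSubgroup.index_eq_two_iff.1 hidx
  refine ⟨δ, fun a => ?_, fun c hc => ?_⟩
  · rcases hδ a with ⟨h, -⟩ | ⟨h, -⟩
    · obtain ⟨c, hc⟩ := h
      have hc' : c ^ 2 + c = a + δ := hc
      exact ⟨c, Or.inr (by rw [hc', ← add_assoc, CharTwo.add_self_eq_zero, zero_add])⟩
    · obtain ⟨c, hc⟩ := h
      have hc' : c ^ 2 + c = a := hc
      exact ⟨c, Or.inl (by rw [hc', CharTwo.add_self_eq_zero])⟩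
  · have h0 : δ ∈ f.range := ⟨c, hc⟩
    rcases hδ δ with ⟨-, h⟩ | ⟨-, h⟩
    · exact h h0
    · exact h (by rw [CharTwo.add_self_eq_zero]; exact zero_mem _)

/-- The sign character. -/
noncomputable def psi (a : F) : ℤ := by
  classical exact if ∃ c, c ^ 2 + c = a then 1 else -1

omit [Finite F] in
theorem psi_zero : psi (0 : F) = 1 := by
  rw [psi, if_pos ⟨0, by simp⟩]

variable {δ₀ : F}

omit [Finite F] in
theorem psi_add (h : IsNonWP δ₀) (a b : F) : psi (a + b) = psi a * psi b := by
  classical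
  obtain ⟨h1, h2⟩ := h
  have key : ∀ x : F, (∃ c, c ^ 2 + c = x) ∨ ∃ c, c ^ 2 + c = x + δ₀ := fun x => by
    obtain ⟨c, hc | hc⟩ := h1 x
    · exact Or.inl ⟨c, (CharTwo.add_eq_zero.1 hc).symm⟩
    · exact Or.inr ⟨c, by rw [← hc, ← add_assoc, CharTwo.add_self_eq_zero, zero_add]⟩
  have hex : ∀ x : F, (∃ c, c ^ 2 + c = x) → ¬ ∃ c, c ^ 2 + c = x + δ₀ := fun x ⟨c, hc⟩ ⟨d, hd⟩ =>
    h2 (c + d) (by rw [wp_add, hc, hd, ← add_assoc, CharTwo.add_self_eq_zero, zero_add])
  have hadd : ∀ x y : F, (∃ c, c ^ 2 + c = x) → (∃ c, c ^ 2 + c = y) → ∃ c, c ^ 2 + c = x + y :=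
    fun x y ⟨c, hc⟩ ⟨d, hd⟩ => ⟨c + d, by rw [wp_add, hc, hd]⟩
  rcases key a with ha | ha <;> rcases key b with hb | hb
  · simp [psi, ha, hb, hadd a b ha hb]
  · have hb' : ¬ ∃ c, c ^ 2 + c = b := fun h => hex b h hb
    have hab : ¬ ∃ c, c ^ 2 + c = a + b := fun h => hex _ h (by rw [add_assoc]; exact hadd _ _ ha hb)
    simp [psi, ha, hb', hab]
  · have ha' : ¬ ∃ c, c ^ 2 + c = a := fun h => hex a h ha
    have hab : ¬ ∃ c, c ^ 2 + c = a + b := fun h => hex _ h (by
      rw [add_assoc, add_comm b, ← add_assoc]; exact hadd _ _ ha hb)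
    simp [psi, hb, ha', hab]
  · have ha' : ¬ ∃ c, c ^ 2 + c = a := fun h => hex a h ha
    have hb' : ¬ ∃ c, c ^ 2 + c = b := fun h => hex b h hb
    have hab : ∃ c, c ^ 2 + c = a + b := by
      have h := hadd _ _ ha hb
      rwa [add_add_add_comm, CharTwo.add_self_eq_zero, add_zero] at h
    simp [psi, ha', hb', hab]

omit [Finite F] in
theorem psi_delta (h : IsNonWP δ₀) : psi δ₀ = -1 := by
  rw [psi, if_neg fun ⟨c, hc⟩ => h.2 c hc]

theorem sum_psi_linear (h : IsNonWP δ₀) {T : Type*} [AddCommGroup T] [Module F T] [Fintype T] (φ : T →ₗ[F] F) :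
    ((∀ t, φ t = 0) → ∑ t, psi (φ t) = Fintype.card T) ∧ ((∃ t, φ t ≠ 0) → ∑ t, psi (φ t) = 0) := by
  constructor
  · intro h0
    simp [h0, psi_zero]
  · rintro ⟨t, ht⟩
    obtain ⟨t₀, ht₀⟩ : ∃ t₀, φ t₀ = δ₀ := ⟨(δ₀ * (φ t)⁻¹) • t, by
      rw [map_smul, smul_eq_mul, mul_assoc, inv_mul_cancel₀ ht, mul_one]⟩
    have : ∑ t, psi (φ (t + t₀)) = ∑ t, psi (φ t) := Equiv.sum_comp (Equiv.addRight t₀) fun x => psi (φ x)
    simp only [map_add, psi_add h, ht₀, psi_delta h, mul_neg, mul_one, Finset.sum_neg_distrib] at this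
    omega

theorem sum_psi_mul (h : IsNonWP δ₀) [Fintype F] [DecidableEq F] (e : F) :
    ∑ a : F, psi (a * e) = if e = 0 then (Fintype.card F : ℤ) else 0 := by
  have hl := sum_psi_linear h ((LinearMap.id : F →ₗ[F] F).smulRight e)
  simp only [LinearMap.smulRight_apply, LinearMap.id_apply, smul_eq_mul] at hl
  split_ifs with he
  · exact hl.1 fun t => by rw [he, mul_zero]
  · exact hl.2 ⟨1, by rwa [one_mul]⟩

theorem sum_psi_sq_mul (h : IsNonWP δ₀) [Fintype F] {e : F} (he : e ≠ 0) : ∑ a : F, psi (a ^ 2 * e) = 0 := by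
  classical
  have hinj : Function.Injective fun a : F => a ^ 2 := CharTwo.sq_injective
  have := (Finite.injective_iff_bijective.1 hinj).sum_comp fun a => psi (a * e)
  rw [this, sum_psi_mul h, if_neg he]

theorem sum_plane_zero (h : IsNonWP δ₀) [Fintype F] (β : F) :
    ∑ a : F, ∑ b : F, psi (a ^ 2 * 0 + a * b + b ^ 2 * β) = Fintype.card F := by
  classical
  rw [Finset.sum_comm]
  simp only [mul_zero, zero_add, psi_add h, ← Finset.sum_mul, sum_psi_mul h, ite_mul, zero_mul]
  rw [Finset.sum_ite_eq' Finset.univ (0 : F) fun b => (Fintype.card F : ℤ) * psi (b ^ 2 * β)]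
  simp [psi_zero]

theorem sum_plane_aniso (h : IsNonWP δ₀) [Fintype F] :
    ∑ a : F, ∑ b : F, psi (a ^ 2 * 1 + a * b + b ^ 2 * δ₀) = -(Fintype.card F : ℤ) := by
  classical
  rw [Finset.sum_comm, ← Finset.sum_erase_add _ _ (Finset.mem_univ (0 : F))]
  have h0 : ∑ a : F, psi (a ^ 2 * 1 + a * 0 + (0 : F) ^ 2 * δ₀) = 0 := by
    simpa using sum_psi_sq_mul h (one_ne_zero (α := F))
  have hb : ∀ b ∈ (Finset.univ : Finset F).erase 0, ∑ a : F, psi (a ^ 2 * 1 + a * b + b ^ 2 * δ₀) =
      ∑ c : F, psi (b ^ 2 * (c ^ 2 + c + δ₀)) := fun b hb => by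
    have hb0 := Finset.ne_of_mem_erase hb
    have := Equiv.sum_comp (Equiv.mulRight₀ b hb0) fun a => psi (a ^ 2 * 1 + a * b + b ^ 2 * δ₀)
    rw [← this]
    refine Finset.sum_congr rfl fun c _ => ?_
    simp only [Equiv.mulRight₀_apply]
    congr 1
    ring
  rw [Finset.sum_congr rfl hb, h0, add_zero, Finset.sum_comm]
  have hc : ∀ c : F, ∑ b ∈ (Finset.univ : Finset F).erase 0, psi (b ^ 2 * (c ^ 2 + c + δ₀)) = -1 := fun c => by
    have he : c ^ 2 + c + δ₀ ≠ 0 := fun e => h.2 c (CharTwo.add_eq_zero.1 e)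
    have := Finset.sum_erase_add (f := fun b => psi (b ^ 2 * (c ^ 2 + c + δ₀))) _ (Finset.mem_univ (0 : F))
    rw [sum_psi_sq_mul h he, zero_pow two_ne_zero, zero_mul, psi_zero] at this
    linarith
  simp [hc]

variable {W : Type u} [AddCommGroup W] [Module F W] [Fintype W]

/-- The Gauss sum. -/
noncomputable def gauss (Q : W → F) : ℤ := ∑ v, psi (Q v)

/-- The Gauss sum is the sum over the orthogonal of a totally singular subspace. -/
theorem gauss_eq_orth (h : IsNonWP δ₀) (Q : W → F) (B : BilinForm F W)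
    (hQ : ∀ u v, Q (u + v) = Q u + Q v + B u v) (T : Submodule F W) [Fintype T] [Fintype ↥(B.orthogonal T)]
    (hsym : ∀ u v, B u v = B v u) (hT : ∀ t ∈ T, Q t = 0) : gauss Q = ∑ v : ↥(B.orthogonal T), psi (Q v) := by
  classical
  have e : ∀ t : T, gauss Q = ∑ v, psi (Q v) * psi (B v t) := fun t => by
    rw [gauss, ← Equiv.sum_comp (Equiv.addRight (t : W))]
    refine Finset.sum_congr rfl fun v _ => ?_
    show psi (Q (v + t)) = _
    rw [hQ, hT t t.2, add_zero, psi_add h]
  have key : (Fintype.card T : ℤ) * gauss Q =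
      (Fintype.card T : ℤ) * ∑ v : ↥(B.orthogonal T), psi (Q v) := by
    have e1 : (Fintype.card T : ℤ) * gauss Q = ∑ t : T, ∑ v, psi (Q v) * psi (B v t) := by
      rw [← Finset.sum_congr rfl fun t _ => e t, Finset.sum_const, Finset.card_univ, nsmul_eq_mul]
    rw [e1, Finset.sum_comm]
    have e2 : ∀ v : W, ∑ t : T, psi (Q v) * psi (B v t) =
        if v ∈ B.orthogonal T then (Fintype.card T : ℤ) * psi (Q v) else 0 := fun v => by
      rw [← Finset.mul_sum]
      have hl := sum_psi_linear h ((B v).comp T.subtype)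
      simp only [LinearMap.comp_apply, Submodule.coe_subtype] at hl
      split_ifs with hv
      · rw [hl.1 fun t => by rw [hsym]; exact hv _ t.2, mul_comm]
      · rw [hl.2 ?_, mul_zero]
        by_contra hc
        push_neg at hc
        exact hv fun t ht => (hsym t v).trans (hc ⟨t, ht⟩)
    rw [Finset.sum_congr rfl fun v _ => e2 v, ← Finset.sum_filter, Finset.mul_sum,
      Finset.sum_subtype (p := fun v => v ∈ B.orthogonal T) _ (fun v => by simp)]
  exact mul_left_cancel₀ (by exact_mod_cast Fintype.card_ne_zero) key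

/-- A totally singular subspace of dimension one less than half and a plane orthogonal to it. -/
theorem gauss_plane (h : IsNonWP δ₀) [Fintype F] (Q : W → F) (B : BilinForm F W)
    (hQ : ∀ u v, Q (u + v) = Q u + Q v + B u v) (hQs : ∀ (c : F) v, Q (c • v) = c ^ 2 * Q v)
    (halt : B.IsAlt) (hnd : B.Nondegenerate) (T : Submodule F W) [Fintype T] (e f : W) (hT : ∀ t ∈ T, Q t = 0)
    (he : ∀ t ∈ T, B t e = 0) (hf : ∀ t ∈ T, B t f = 0) (hef : B e f = 1)
    (hdim : finrank F W = 2 * finrank F T + 2) :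
    gauss Q = (Fintype.card T : ℤ) * ∑ a : F, ∑ b : F, psi (a ^ 2 * Q e + a * b + b ^ 2 * Q f) := by
  classical
  have hsym : ∀ u v, B u v = B v u := fun u v =>
    (CharTwo.neg_eq _).symm.trans (LinearMap.IsAlt.neg halt u v)
  have hTT : ∀ s ∈ T, ∀ t ∈ T, B s t = 0 := fun s hs t ht => by
    have := hQ s t
    rw [hT s hs, hT t ht, hT _ (add_mem hs ht), zero_add, zero_add] at this
    exact this.symm
  haveI : FiniteDimensional F W := Module.Finite.of_finite
  haveI : Fintype ↥(B.orthogonal T) := Fintype.ofFinite _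
  rw [gauss_eq_orth h Q B hQ T hsym hT]
  let Φ : T × F × F →ₗ[F] ↥(B.orthogonal T) :=
    LinearMap.codRestrict (B.orthogonal T)
      (T.subtype.coprod ((LinearMap.id.smulRight e).coprod (LinearMap.id.smulRight f))) fun x t ht => by
      show B t ((x.1 : W) + (x.2.1 • e + x.2.2 • f)) = 0
      simp [hTT t ht _ x.1.2, he t ht, hf t ht]
  have hinj : Function.Injective Φ := by
    rw [← LinearMap.ker_eq_bot, LinearMap.ker_eq_bot']
    rintro ⟨t, a, b⟩ hx
    have h0 : (t : W) + (a • e + b • f) = 0 := congrArg Subtype.val hx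
    have he0 : B e e = 0 := halt e
    have hf0 : B f f = 0 := halt f
    have ha := congrArg (fun v => B v f) h0
    have hb := congrArg (fun v => B v e) h0
    simp only [map_add, map_smul, LinearMap.add_apply, LinearMap.smul_apply, map_zero, LinearMap.zero_apply,
      hf t t.2, he t t.2, hef, hsym f e, he0, hf0, smul_eq_mul, mul_one, mul_zero, zero_add, add_zero] at ha hb
    subst ha hb
    simp only [zero_smul, add_zero] at h0
    simp [Subtype.ext_iff, Prod.ext_iff, h0]
  have hcard : finrank F (T × F × F) = finrank F ↥(B.orthogonal T) := by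
    rw [Module.finrank_prod, Module.finrank_prod, Module.finrank_self,
      LinearMap.BilinForm.finrank_orthogonal hnd]
    omega
  have hbij : Function.Bijective Φ :=
    ⟨hinj, (LinearMap.injective_iff_surjective_of_finrank_eq_finrank hcard).1 hinj⟩
  rw [← hbij.sum_comp fun v => psi (Q v)]
  simp only [Fintype.sum_prod_type]
  have hval : ∀ (t : T) (a b : F), Q (Φ (t, a, b) : W) = a ^ 2 * Q e + a * b + b ^ 2 * Q f := fun t a b => by
    show Q ((t : W) + (a • e + b • f)) = _
    rw [hQ, hQ (a • e), hQs, hQs, hT t t.2]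
    simp only [map_add, map_smul, LinearMap.smul_apply, smul_eq_mul, he t t.2, hf t t.2, hef, mul_zero, add_zero,
      zero_add, mul_one]
    ring
  simp only [hval, Finset.sum_const, Finset.card_univ, nsmul_eq_mul]

/-- The Gauss sum of a nondegenerate space is not zero. -/
theorem gauss_ne_zero (h : IsNonWP δ₀) (Q : W → F) (B : BilinForm F W)
    (hQ : ∀ u v, Q (u + v) = Q u + Q v + B u v) (halt : B.IsAlt) (hnd : B.Nondegenerate) : gauss Q ≠ 0 := by
  classical
  have hsym : ∀ u v, B u v = B v u := fun u v =>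
    (CharTwo.neg_eq _).symm.trans (LinearMap.IsAlt.neg halt u v)
  have hQ0 : Q 0 = 0 := by simpa using hQ 0 0
  have key : gauss Q * gauss Q = Fintype.card W := by
    have e : ∀ u, ∑ v, psi (Q u) * psi (Q v) = ∑ d, psi (Q d) * psi (B u d) := fun u => by
      rw [← Equiv.sum_comp (Equiv.addLeft u) fun v => psi (Q u) * psi (Q v)]
      refine Finset.sum_congr rfl fun d _ => ?_
      show psi (Q u) * psi (Q (u + d)) = _
      rw [hQ, psi_add h, psi_add h, ← mul_assoc, ← mul_assoc, ← psi_add h, CharTwo.add_self_eq_zero, psi_zero,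
        one_mul]
    rw [gauss, Finset.sum_mul_sum, Finset.sum_congr rfl fun u _ => e u, Finset.sum_comm]
    simp only [← Finset.mul_sum]
    rw [Finset.sum_eq_single (0 : W)]
    · simp [hQ0, psi_zero]
    · intro d _ hd
      have hl := (sum_psi_linear h (B d)).2 (by
        by_contra hc
        push_neg at hc
        exact hd (hnd.1 d hc))
      simp only [hsym d] at hl
      rw [hl, mul_zero]
    · exact fun hn => (hn (Finset.mem_univ _)).elim
  intro hg
  rw [hg, zero_mul] at key
  exact Fintype.card_ne_zero (by exact_mod_cast key.symm)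

end CfsgLib.ClassNumber.CharTwo
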