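import Cfsg.Agent.Lib.ClassCount.CharTwo.UnipPieces

/-!
# Normal forms of generators

Descending corrections bring generators of the top part to the standard values of a piece.
-/

set_option autoImplicit false

namespace CfsgLib.ClassNumber.CharTwo

open LinearMap (BilinForm)
open Module

universe u

variable {F : Type u} [Field F] [CharP F 2] {V : Type u} [AddCommGroup V] [Module F V] {ε : ℕ}

namespace Sys

variable (S : Sys F V ε)

theorem P_add_right (n : ℕ) (x y z : V) : S.P n x (y + z) = S.P n x y + S.P n x z := map_add _ _ _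

theorem R_add_right (n : ℕ) (x y z : V) : S.R n x (y + z) = S.R n x y + S.R n x z := map_add _ _ _

theorem P_smul_right (n : ℕ) (c : F) (x y : V) : S.P n x (c • y) = c * S.P n x y := map_smul _ _ _

theorem R_smul_right (n : ℕ) (c : F) (x y : V) : S.R n x (c • y) = c * S.R n x y := map_smul _ _ _

theorem P_add_left (n : ℕ) (x y z : V) : S.P n (x + y) z = S.P n x z + S.P n y z := by
  simp [P]

theorem R_add_left (n : ℕ) (x y z : V) : S.R n (x + y) z = S.R n x z + S.R n y z := by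
  simp [R]

theorem P_smul_left (n : ℕ) (c : F) (x y : V) : S.P n (c • x) y = c * S.P n x y := by
  simp [P]

theorem R_smul_left (n : ℕ) (c : F) (x y : V) : S.R n (c • x) y = c * S.R n x y := by
  simp [R]

theorem P_wpow (n l : ℕ) (x v : V) : S.P n x ((S.w ^ l) v) = S.P (n + l) x v :=
  S.B_mon_ff n l x v

theorem R_wpow (n l : ℕ) (x v : V) : S.R n x ((S.w ^ l) v) = S.R (n + l) x v :=
  S.B_mon_tf n l x v

theorem P_wpow_s (n l : ℕ) (x v : V) : S.P n x ((S.w ^ l) (S.s v)) = S.R (n + l) v x :=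
  S.B_mon_ft n l x v

theorem R_wpow_s (n l : ℕ) (x v : V) : S.R n x ((S.w ^ l) (S.s v)) = S.P (n + l + 1) x v :=
  S.B_mon_tt n l x v

theorem P_s (n : ℕ) (x v : V) : S.P n x (S.s v) = S.R n v x := S.P_wpow_s n 0 x v

theorem R_s (n : ℕ) (x v : V) : S.R n x (S.s v) = S.P (n + 1) x v := S.R_wpow_s n 0 x v

theorem P_w (n : ℕ) (x v : V) : S.P n x (S.w v) = S.P (n + 1) x v := by
  simpa using S.P_wpow n 1 x v

theorem R_w (n : ℕ) (x v : V) : S.R n x (S.w v) = S.R (n + 1) x v := by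
  simpa using S.R_wpow n 1 x v

theorem K_add_smul {i : ℕ} (hi : ε ≤ i) (x v : V) (c : F) :
    S.K i (x + c • v) = S.K i x + c ^ 2 * S.K i v + c * S.P i x v := by
  rw [S.Kadd i hi, S.Ksmul i hi]
  exact congrArg _ (S.P_smul_right i c x v)

theorem descend (Q : V → Prop) (T : ℕ)
    (step : ∀ i, ε ≤ i → i < T → ∀ x, Q x → (∀ j, i < j → j < T → S.K j x = 0) →
      ∃ x', Q x' ∧ ∀ j, i ≤ j → j < T → S.K j x' = 0)
    {x : V} (hx : Q x) : ∃ x', Q x' ∧ ∀ j, ε ≤ j → j < T → S.K j x' = 0 := by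
  have key : ∀ d, ∃ x', Q x' ∧ ∀ j, ε ≤ j → T ≤ j + d → j < T → S.K j x' = 0 := by
    intro d
    induction d with
    | zero => exact ⟨x, hx, fun j _ h h' => by omega⟩
    | succ d ih =>
      obtain ⟨x', hQ, hz⟩ := ih
      by_cases h : ε ≤ T - (d + 1) ∧ d + 1 ≤ T
      · obtain ⟨x'', hQ', hz'⟩ := step (T - (d + 1)) h.1 (by omega) x' hQ
          (fun j hj hj' => hz j (by omega) (by omega) hj')
        exact ⟨x'', hQ', fun j _ h1 h2 => hz' j (by omega) h2⟩
      · exact ⟨x', hQ, fun j hj h1 h2 => hz j hj (by omega) h2⟩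
  obtain ⟨x', hQ, hz⟩ := key T
  exact ⟨x', hQ, fun j hj hj' => hz j hj (by omega) hj'⟩

theorem tauNondeg_pair {m : ℕ} {x y : V} (hxx : S.tau m x x = 0) (hyy : S.tau m y y = 0)
    (hxy : S.tau m x y = 1) (hyx : S.tau m y x = 1) : S.TauNondeg (fun b : Bool => cond b y x) m := by
  intro c hc
  have h1 := hc false
  have h2 := hc true
  simp only [Fintype.sum_bool, cond_true, cond_false, hxx, hyy, hxy, hyx, mul_one, mul_zero, add_zero, zero_add]
    at h1 h2
  funext b
  cases b <;> assumption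

theorem tauNondeg_even {k : ℕ} (hm : S.s ^ (2 * k) = 0) (hk : 1 ≤ k) {x y : V} (hx : S.K k x = 0)
    (hy : S.K k y = 0) (h : S.R (k - 1) x y = 1) : S.TauNondeg (fun b : Bool => cond b y x) (2 * k) := by
  refine S.tauNondeg_pair ?_ ?_ ?_ ?_ <;> rw [S.tau_even hm hk]
  · rwa [R_self, show k - 1 + 1 = k by omega]
  · rwa [R_self, show k - 1 + 1 = k by omega]
  · exact h
  · rw [S.R_comm, h, S.P_eq_zero hm (by omega), add_zero]

theorem tauNondeg_odd {k : ℕ} (hm : S.s ^ (2 * k + 1) = 0) {x y : V} (h : S.P k x y = 1) :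
    S.TauNondeg (fun b : Bool => cond b y x) (2 * k + 1) := by
  refine S.tauNondeg_pair ?_ ?_ ?_ ?_ <;> rw [S.tau_odd hm]
  · exact S.P_self k x
  · exact S.P_self k y
  · exact h
  · rwa [S.P_comm]

theorem tauNondeg_single {k : ℕ} (hm : S.s ^ (2 * k) = 0) (hk : 1 ≤ k) {x : V} (h : S.K k x = 1) :
    S.TauNondeg (fun _ : Unit => x) (2 * k) := by
  intro c hc
  have h1 := hc ()
  simp only [Finset.univ_unique, Finset.sum_singleton, S.tau_even hm hk, R_self, show k - 1 + 1 = k by omega, h,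
    mul_one] at h1
  funext u
  exact h1

/-- The normal form of one vee generator. -/
theorem vee_normal (hε : ε ≤ 1) {k : ℕ} (hk : 1 ≤ k) (hm : S.s ^ (2 * k) = 0) {δ₀ : F} (δ : Bool) {x : V}
    (h1 : S.K k x = 1) (h2 : ε + 1 ≤ k → S.K (k - 1) x = if δ then δ₀ else 0) :
    ∃ x', S.Std δ₀ (.vee k δ) x' 0 := by
  obtain ⟨x', ⟨hk', hd'⟩, hz⟩ := S.descend
    (fun v => S.K k v = 1 ∧ (ε + 1 ≤ k → S.K (k - 1) v = if δ then δ₀ else 0)) (k - 1) (fun i hi hiT v hv hz => by
    obtain ⟨l, rfl⟩ : ∃ l, k = i + l + 1 := ⟨k - 1 - i, by omega⟩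
    refine ⟨v + S.K i v • (S.w ^ l) (S.s v), ?_, fun j hj hjT => ?_⟩
    · have hK : ∀ j, i < j → S.K j (v + S.K i v • (S.w ^ l) (S.s v)) = S.K j v := fun j hj => by
        rw [S.K_add_smul (by omega), S.K_wpow_s l (by omega), S.P_wpow_s, S.R_self,
          S.K_eq_zero hm (i := j + 2 * l + 1) (by omega), S.K_eq_zero hm (i := j + l + 1) (by omega)]
        ring
      exact ⟨by rw [hK _ (by omega)]; exact hv.1, fun h => by rw [hK _ (by omega)]; exact hv.2 h⟩
    · rw [S.K_add_smul (by omega), S.K_wpow_s l (by omega), S.P_wpow_s, S.R_self,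
        S.K_eq_zero hm (i := j + 2 * l + 1) (by omega)]
      rcases eq_or_lt_of_le hj with rfl | hlt
      · rw [hv.1, mul_zero, add_zero, mul_one, CharTwo.add_self_eq_zero]
      · rw [hz j hlt hjT, S.K_eq_zero hm (i := j + l + 1) (by omega)]
        ring) ⟨h1, h2⟩
  refine ⟨x', fun n => map_zero _, fun n => map_zero _, fun i hi => ⟨?_, S.K_zero hi⟩⟩
  simp only [Piece.kx]
  split_ifs with e1 e2
  · exact e1 ▸ hk'
  · rename_i hδ
    subst hδ
    have := hd' (by omega)
    rwa [if_pos rfl, show k - 1 = i by omega] at this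
  · rename_i hδ
    have := hd' (by omega)
    rwa [if_neg hδ, show k - 1 = i by omega] at this
  · rcases Nat.lt_or_ge i k with h | h
    · exact hz i hi (by omega)
    · exact S.K_eq_zero hm (by omega) _

/-- The normal form of a hyperbolic pair of even order. -/
theorem hyp_even_normal [FiniteDimensional F V] (hε : ε ≤ 1) {k : ℕ} (hk : 1 ≤ k) (hm : S.s ^ (2 * k) = 0)
    (δ₀ : F) {x y₀ : V} (hx : S.K k x = 0) (hy : S.K k y₀ = 0) (h : S.R (k - 1) x y₀ = 1) :
    ∃ x' y', S.Std δ₀ (.hyp (2 * k)) x' y' := by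
  obtain ⟨x, ⟨hxk, hxy⟩, hz⟩ := S.descend (fun v => S.K k v = 0 ∧ S.R (k - 1) v y₀ = 1) k
    (fun i hi hiT v hv hz => by
      obtain ⟨l, rfl⟩ : ∃ l, k = i + l + 1 := ⟨k - 1 - i, by omega⟩
      have hy' : ∀ j, i ≤ j → S.K (j + 2 * l + 1) y₀ = 0 := fun j hj => by
        rcases Nat.eq_zero_or_pos l with rfl | hl
        · rcases eq_or_lt_of_le hj with rfl | hlt
          · exact hy
          · exact S.K_eq_zero hm (by omega) _
        · exact S.K_eq_zero hm (by omega) _
      have hR : S.R (i + l) y₀ v = 1 := by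
        rw [S.R_comm, S.P_eq_zero hm (n := i + l + 1) (by omega), add_zero]
        exact hv.2
      refine ⟨v + S.K i v • (S.w ^ l) (S.s y₀), ⟨?_, ?_⟩, fun j hj hjT => ?_⟩
      · rw [S.K_add_smul (by omega), S.K_wpow_s l (by omega), S.P_wpow_s, hy' _ (by omega),
          S.R_eq_zero hm (by omega), hv.1]
        ring
      · rw [R_add_left, R_smul_left, S.R_comm _ y₀ ((S.w ^ l) (S.s y₀)), R_wpow_s, S.P_self,
          S.P_eq_zero hm (by omega), hv.2]
        ring
      · rw [S.K_add_smul (by omega), S.K_wpow_s l (by omega), S.P_wpow_s, hy' j hj]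
        rcases eq_or_lt_of_le hj with rfl | hlt
        · rw [hR, mul_zero, add_zero, mul_one, CharTwo.add_self_eq_zero]
        · rw [hz j hlt hjT, S.R_eq_zero hm (by omega)]
          ring) ⟨hx, h⟩
  have hxz : ∀ j, ε ≤ j → S.K j x = 0 := fun j hj => by
    rcases lt_trichotomy j k with hlt | rfl | hgt
    · exact hz j hj hlt
    · exact hxk
    · exact S.K_eq_zero hm (by omega) _
  obtain ⟨y, hyU, hyp⟩ := S.exists_pairing hm (S.tauNondeg_even hm hk hxk hy hxy) false (fun _ => 0)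
    (fun n => if 2 * n + 2 = 2 * k then 1 else 0) (fun _ _ => rfl) (fun n hn => if_neg (by omega))
  have hKU' : ∀ v ∈ S.gspan (fun b : Bool => cond b y₀ x), S.K k v = 0 := by
    intro v hv
    induction hv using Submodule.span_induction with
    | mem v hv =>
      obtain ⟨⟨b, n, e⟩, rfl⟩ := hv
      show S.K k (S.mon n e (cond b y₀ x)) = 0
      rw [S.K_mon (by omega)]
      rcases Nat.eq_zero_or_pos (2 * n + e.toNat) with h0 | h0
      · rw [show k + 2 * n + e.toNat = k by omega]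
        cases b <;> assumption
      · exact S.K_eq_zero hm (by omega) _
    | zero => exact S.K_zero (by omega)
    | add a b _ _ ha hb =>
      rw [S.Kadd k (by omega), ha, hb]
      simp only [zero_add]
      exact S.P_eq_zero hm (by omega) a b
    | smul c a _ ha => rw [S.Ksmul k (by omega), ha, mul_zero]
  have hKU : S.K k y = 0 := hKU' y hyU
  obtain ⟨y', ⟨hyk, hyq⟩, hz'⟩ := S.descend (fun v => S.K k v = 0 ∧
      ∀ n, S.P n x v = 0 ∧ S.R n x v = if 2 * n + 2 = 2 * k then 1 else 0) k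
    (fun i hi hiT v hv hzv => by
      obtain ⟨l, rfl⟩ : ∃ l, k = i + l + 1 := ⟨k - 1 - i, by omega⟩
      refine ⟨v + S.K i v • (S.w ^ l) (S.s x), ⟨?_, fun n => ⟨?_, ?_⟩⟩, fun j hj hjT => ?_⟩
      · rw [S.K_add_smul (by omega), S.K_wpow_s l (by omega), S.P_wpow_s, hxz _ (by omega),
          S.R_eq_zero hm (by omega), hv.1]
        ring
      · rw [P_add_right, P_smul_right, P_wpow_s, R_self, hxz _ (by omega), (hv.2 n).1]
        ring
      · rw [R_add_right, R_smul_right, R_wpow_s, P_self, (hv.2 n).2]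
        ring
      · rw [S.K_add_smul (by omega), S.K_wpow_s l (by omega), S.P_wpow_s, hxz _ (by omega), (hv.2 (j + l)).2]
        rcases eq_or_lt_of_le hj with rfl | hlt
        · rw [if_pos (by omega), mul_zero, add_zero, mul_one, CharTwo.add_self_eq_zero]
        · rw [hzv j hlt hjT, if_neg (by omega)]
          ring) ⟨hKU, hyp⟩
  refine ⟨x, y', fun n => ?_, fun n => (hyq n).2, fun j hj => ⟨hxz j hj, ?_⟩⟩
  · rw [(hyq n).1]
    simp only [Piece.pP]
    rw [if_neg (by omega)]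
  · rcases lt_trichotomy j k with hlt | rfl | hgt
    · exact hz' j hj hlt
    · exact hyk
    · exact S.K_eq_zero hm (by omega) _

/-- The first generator of a pair of odd order. -/
theorem odd_first {k : ℕ} (hm : S.s ^ (2 * k + 1) = 0) (d : F) {x y₀ : V} (h : S.P k x y₀ = 1)
    (hk : ε ≤ k → S.K k x = d) :
    ∃ x', S.P k x' y₀ = 1 ∧ ∀ i, ε ≤ i → S.K i x' = if i = k then d else 0 := by
  obtain ⟨x', ⟨hp, hd⟩, hz⟩ := S.descend (fun v => S.P k v y₀ = 1 ∧ (ε ≤ k → S.K k v = d)) k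
    (fun i hi hiT v hv hz => by
      obtain ⟨l, rfl⟩ : ∃ l, k = i + l := ⟨k - i, by omega⟩
      refine ⟨v + S.K i v • (S.w ^ l) y₀, ⟨?_, fun h => ?_⟩, fun j hj hjT => ?_⟩
      · rw [P_add_left, P_smul_left, S.P_comm _ ((S.w ^ l) y₀) y₀, P_wpow, P_self, hv.1]
        ring
      · rw [S.K_add_smul h, S.K_wpow l h, P_wpow, S.K_eq_zero hm (i := i + l + 2 * l) (by omega),
          S.P_eq_zero hm (n := i + l + l) (by omega), hv.2 h]
        ring
      · rw [S.K_add_smul (by omega), S.K_wpow l (by omega), P_wpow, S.K_eq_zero hm (i := j + 2 * l) (by omega)]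
        rcases eq_or_lt_of_le hj with rfl | hlt
        · rw [hv.1, mul_zero, add_zero, mul_one, CharTwo.add_self_eq_zero]
        · rw [hz j hlt hjT, S.P_eq_zero hm (n := j + l) (by omega)]
          ring) ⟨h, hk⟩
  refine ⟨x', hp, fun i hi => ?_⟩
  rcases lt_trichotomy i k with hlt | rfl | hgt
  · rw [if_neg (by omega)]
    exact hz i hi hlt
  · rw [if_pos rfl]
    exact hd hi
  · rw [if_neg (by omega)]
    exact S.K_eq_zero hm (by omega) _

/-- The normal form of a hyperbolic pair of odd order. -/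
theorem hyp_odd_normal [FiniteDimensional F V] (hε : ε ≤ 1) {k : ℕ} (hm : S.s ^ (2 * k + 1) = 0) (δ₀ : F)
    {x y₀ : V} (h : S.P k x y₀ = 1) (hk : ε ≤ k → S.K k x = 0) :
    ∃ x' y', S.Std δ₀ (.hyp (2 * k + 1)) x' y' := by
  obtain ⟨x, hxy, hxz'⟩ := S.odd_first hm 0 h hk
  have hxz : ∀ j, ε ≤ j → S.K j x = 0 := fun j hj => by rw [hxz' j hj, ite_self]
  obtain ⟨y, -, hyp⟩ := S.exists_pairing hm (S.tauNondeg_odd hm hxy) false
    (fun n => if 2 * n + 1 = 2 * k + 1 then 1 else 0) (fun _ => 0) (fun n hn => if_neg (by omega)) (fun _ _ => rfl)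
  obtain ⟨y', hyq, hz'⟩ := S.descend
    (fun v => ∀ n, S.P n x v = (if 2 * n + 1 = 2 * k + 1 then 1 else 0) ∧ S.R n x v = 0) (k + 1)
    (fun i hi hiT v hv hzv => by
      obtain ⟨l, rfl⟩ : ∃ l, k = i + l := ⟨k - i, by omega⟩
      refine ⟨v + S.K i v • (S.w ^ l) x, fun n => ⟨?_, ?_⟩, fun j hj hjT => ?_⟩
      · rw [P_add_right, P_smul_right, P_wpow, P_self, (hv n).1]
        ring
      · rw [R_add_right, R_smul_right, R_wpow, R_self, hxz _ (by omega), (hv n).2]
        ring
      · rw [S.K_add_smul (by omega), S.K_wpow l (by omega), P_wpow, hxz _ (by omega), S.P_comm, (hv (j + l)).1]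
        rcases eq_or_lt_of_le hj with rfl | hlt
        · rw [if_pos rfl, mul_zero, add_zero, mul_one, CharTwo.add_self_eq_zero]
        · rw [hzv j hlt hjT, if_neg (by omega)]
          ring) hyp
  refine ⟨x, y', fun n => (hyq n).1, fun n => ?_, fun j hj => ⟨hxz j hj, ?_⟩⟩
  · rw [(hyq n).2]
    simp only [Piece.pR]
    rw [if_neg (by omega)]
  · rcases Nat.lt_or_ge j (k + 1) with hlt | hge
    · exact hz' j hj hlt
    · exact S.K_eq_zero hm (by omega) _

/-- The normal form of an anisotropic pair. -/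
theorem ani_normal [FiniteDimensional F V] (hε : ε ≤ 1) {k : ℕ} (hεk : ε ≤ k) (hm : S.s ^ (2 * k + 1) = 0)
    {δ₀ : F} (hδ : ∀ a : F, ∃ c, a + (c ^ 2 + c) = 0 ∨ a + (c ^ 2 + c) = δ₀)
    (hno : ∀ u v, S.P k u v ≠ 0 → S.K k u ≠ 0) {x y₀ : V} (h : S.P k x y₀ = 1) (hk : S.K k x = 1) :
    ∃ x' y', S.Std δ₀ (.ani k) x' y' := by
  obtain ⟨x, hxy, hx⟩ := S.odd_first hm 1 h (fun _ => hk)
  obtain ⟨y, -, hyp⟩ := S.exists_pairing hm (S.tauNondeg_odd hm hxy) false
    (fun n => if n = k then 1 else 0) (fun _ => 0) (fun n hn => if_neg (by omega)) (fun _ _ => rfl)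
  let Q : V → Prop := fun v => ∀ n, S.P n x v = (if n = k then 1 else 0) ∧ S.R n x v = 0
  have hR : ∀ v, Q v → ∀ n, S.R n v x = if n + 1 = k then 1 else 0 := fun v hv n => by
    rw [S.R_comm, (hv n).2, (hv (n + 1)).1, zero_add]
  let z : V → V := fun v => x + (S.s v + S.w v)
  have hQ : ∀ v, Q v → ∀ (l : ℕ) (c : F), Q (v + c • (S.w ^ l) (z v)) := by
    intro v hv l c n
    constructor
    · rw [P_add_right, P_smul_right, P_wpow, P_add_right, P_add_right, P_self, P_s, P_w, hR v hv,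
        (hv (n + l + 1)).1, CharTwo.add_self_eq_zero, (hv n).1]
      ring
    · rw [R_add_right, R_smul_right, R_wpow, R_add_right, R_add_right, R_self, R_s, R_w, hx _ (by omega),
        (hv (n + l + 1)).1, (hv (n + l + 1)).2, add_zero, CharTwo.add_self_eq_zero, (hv n).2]
      ring
  have hKz : ∀ v, S.K k (z v) = 1 := by
    intro v
    rw [S.Kadd k hεk, S.Kadd k hεk, S.Ks k hεk, S.Kw k hεk, S.K_eq_zero hm (i := k + 1) (by omega),
      S.K_eq_zero hm (i := k + 2) (by omega), hx k hεk, if_pos rfl]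
    show 1 + (0 + 0 + S.P k (S.s v) (S.w v)) + S.P k x (S.s v + S.w v) = 1
    rw [P_w, S.P_comm, P_add_right, P_s, P_s, R_self, S.K_eq_zero hm (by omega), P_w,
      S.P_eq_zero hm (by omega), S.R_eq_zero hm (by omega)]
    simp only [add_zero]
  have hPz : ∀ v, Q v → ∀ n, k ≤ n → S.P n v (z v) = if n = k then 1 else 0 := by
    intro v hv n hn
    rw [P_add_right, P_add_right, S.P_comm, (hv n).1, P_s, P_w, P_self, R_self,
      S.K_eq_zero hm (i := n + 1) (by omega)]
    simp only [add_zero]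
  obtain ⟨c, hc⟩ := hδ (S.K k y)
  have hy1 : S.K k (y + c • z y) = S.K k y + (c ^ 2 + c) := by
    rw [S.K_add_smul hεk, hKz, hPz y hyp k le_rfl, if_pos rfl]
    ring
  have hQ1 : Q (y + c • z y) := by
    have := hQ y hyp 0 c
    rwa [pow_zero, Module.End.one_apply] at this
  have hy2 : S.K k (y + c • z y) = δ₀ := by
    rcases hc with hc | hc
    · refine (hno (y + c • z y) x ?_ (hy1.trans hc)).elim
      rw [S.P_comm, (hQ1 k).1, if_pos rfl]
      exact one_ne_zero
    · exact hy1.trans hc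
  obtain ⟨y', ⟨hyq, hyk⟩, hz'⟩ := S.descend (fun v => Q v ∧ S.K k v = δ₀) k
    (fun i hi hiT v hv hzv => by
      obtain ⟨l, rfl⟩ : ∃ l, k = i + l := ⟨k - i, by omega⟩
      refine ⟨v + S.K i v • (S.w ^ l) (z v), ⟨hQ v hv.1 l _, ?_⟩, fun j hj hjT => ?_⟩
      · rw [S.K_add_smul (by omega), S.K_wpow l (by omega), P_wpow, S.K_eq_zero hm (i := i + l + 2 * l) (by omega),
          hPz v hv.1 _ (by omega), if_neg (by omega), hv.2]
        ring
      · rw [S.K_add_smul (by omega), S.K_wpow l (by omega), P_wpow, S.K_eq_zero hm (i := j + 2 * l) (by omega),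
          hPz v hv.1 _ (by omega)]
        rcases eq_or_lt_of_le hj with rfl | hlt
        · rw [if_pos rfl, mul_zero, add_zero, mul_one, CharTwo.add_self_eq_zero]
        · rw [hzv j hlt hjT, if_neg (by omega)]
          ring) ⟨hQ1, hy2⟩
  refine ⟨x, y', fun n => (hyq n).1, fun n => (hyq n).2, fun j hj => ⟨hx j hj, ?_⟩⟩
  simp only [Piece.ky]
  rcases lt_trichotomy j k with hlt | rfl | hgt
  · rw [if_neg (by omega)]
    exact hz' j hj hlt
  · rw [if_pos rfl]
    exact hyk
  · rw [if_neg (by omega)]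
    exact S.K_eq_zero hm (by omega) _

end Sys

end CfsgLib.ClassNumber.CharTwo
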