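import Cfsg.Agent.Lib.ClassCount.CharTwo.UnipCodes
import Cfsg.Agent.Lib.ClassCount.CharTwo.UnipNormal
import Cfsg.Agent.Lib.ClassCount.CharTwo.UnipGauss

/-!
# Systems differing in one slot are not isometric as quadratic spaces

The Gauss sums of `ani k` and `hyp (2 k + 1)`, and of `vee k true` and `vee k false`, have opposite signs.
-/

set_option autoImplicit false

namespace CfsgLib.ClassNumber.CharTwo

open LinearMap (BilinForm)
open Module

universe u

variable {F : Type u} [Field F] [CharP F 2] {V : Type u} [AddCommGroup V] [Module F V]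

namespace Sys

section gen

variable {ε : ℕ} (S : Sys F V ε)

theorem B_mon_zero {ι : Type*} {g g' : ι → V} {a b : ι}
    (h : ∀ n, S.P n (g a) (g' b) = 0 ∧ S.R n (g a) (g' b) = 0) (n l : ℕ) (e e' : Bool) :
    S.B (S.mon n e (g a)) (S.mon l e' (g' b)) = 0 := by
  cases e <;> cases e'
  · rw [B_mon_ff]; exact (h _).1
  · rw [B_mon_ft, R_comm, (h _).2, (h _).1, add_zero]
  · rw [B_mon_tf]; exact (h _).2
  · rw [B_mon_tt]; exact (h _).1

/-- A power of `s` vanishes if the high pairings of generators vanish. -/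
theorem spow_of_gens {ι : Type*} (g : ι → V) (hg : S.gspan g = ⊤) (m : ℕ)
    (hP : ∀ n, m ≤ 2 * n → ∀ a b, S.P n (g a) (g b) = 0)
    (hR : ∀ n, m ≤ 2 * n + 1 → ∀ a b, S.R n (g a) (g b) = 0) : S.s ^ m = 0 := by
  have hmon : ∀ n e a, m ≤ 2 * n + Bool.toNat e → S.mon n e (g a) = 0 := by
    intro n e a h
    refine S.nondeg.1 _ fun v => ?_
    have hv : v ∈ S.gspan g := by rw [hg]; exact Submodule.mem_top
    induction hv using Submodule.span_induction with
    | mem y hy =>
      obtain ⟨⟨b, l, e'⟩, rfl⟩ := hy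
      cases e <;> cases e' <;> simp only [Bool.toNat_false, Bool.toNat_true, add_zero] at h
      · rw [B_mon_ff]; exact hP _ (by omega) _ _
      · rw [B_mon_ft]; exact hR _ (by omega) _ _
      · rw [B_mon_tf]; exact hR _ (by omega) _ _
      · rw [B_mon_tt]; exact hP _ (by omega) _ _
    | zero => exact map_zero _
    | add y z _ _ hy hz => rw [map_add, hy, hz, add_zero]
    | smul c y _ hy => rw [map_smul, hy, smul_zero]
  have hzero : ∀ n, m ≤ 2 * n → S.w ^ n = 0 := fun n hn => by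
    refine LinearMap.ext_on_range (v := fun a : ι × ℕ × Bool => S.mon a.2.1 a.2.2 (g a.1)) hg fun a => ?_
    obtain ⟨i, l, e⟩ := a
    show (S.w ^ n) (S.mon l e (g i)) = 0
    cases e
    · show (S.w ^ n) ((S.w ^ l) (g i)) = 0
      rw [w_add]
      exact hmon (n + l) false i (by simp only [Bool.toNat_false, add_zero]; omega)
    · show (S.w ^ n) ((S.w ^ l) (S.s (g i))) = 0
      rw [w_add]
      exact hmon (n + l) true i (by simp only [Bool.toNat_true]; omega)
  have hq : S.s * S.s = S.w * (S.s + 1) := by rw [S.sq, mul_add, mul_one]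
  have hpow : ∀ n, S.s ^ (2 * n) = S.w ^ n * (S.s + 1) ^ n := fun n => by
    rw [pow_mul, pow_two, hq, (Commute.add_right S.comm.symm (Commute.one_right _)).mul_pow]
  obtain ⟨n, rfl | rfl⟩ : ∃ n, m = 2 * n ∨ m = 2 * n + 1 := ⟨m / 2, by omega⟩
  · rw [hpow, hzero n le_rfl, zero_mul]
  · have hs : S.w ^ n * S.s = 0 := by
      refine LinearMap.ext_on_range (v := fun a : ι × ℕ × Bool => S.mon a.2.1 a.2.2 (g a.1)) hg fun a => ?_
      obtain ⟨i, l, e⟩ := a
      show (S.w ^ n) (S.s (S.mon l e (g i))) = 0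
      cases e
      · rw [s_mon]
        show (S.w ^ n) ((S.w ^ l) (S.s (g i))) = 0
        rw [w_add]
        exact hmon (n + l) true i (by simp only [Bool.toNat_true]; omega)
      · rw [s_mon_true, map_add]
        show (S.w ^ n) ((S.w ^ (l + 1)) (S.s (g i))) + (S.w ^ n) ((S.w ^ (l + 1)) (g i)) = 0
        rw [w_add, w_add]
        rw [show (S.w ^ (n + (l + 1))) (S.s (g i)) = 0 from hmon _ true i (by simp only [Bool.toNat_true]; omega),
          show (S.w ^ (n + (l + 1))) (g i) = 0 from hmon _ false i (by simp only [Bool.toNat_false, add_zero]; omega),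
          add_zero]
    rw [pow_succ', hpow, ← mul_assoc, (S.comm.pow_right n).eq, hs, zero_mul]

theorem K_dmon {i : ℕ} (hi : ε ≤ i) (j : ℕ) (x : V) : S.K i (S.dmon j x) = S.K (i + j) x := by
  rw [dmon, K_mon S hi]
  congr 1
  rcases Nat.mod_two_eq_zero_or_one j with h | h <;> simp [h] <;> omega

theorem B_dmon {m : ℕ} (hm : S.s ^ m = 0) {i j : ℕ} (h : m ≤ i + j) (a b : V) :
    S.B (S.dmon i a) (S.dmon j b) = 0 := by
  rcases Nat.mod_two_eq_zero_or_one i with hi | hi <;> rcases Nat.mod_two_eq_zero_or_one j with hj | hj <;>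
    simp only [dmon, hi, hj, zero_ne_one, decide_false, decide_true]
  · rw [B_mon_ff]; exact S.P_eq_zero hm (by omega) _ _
  · rw [B_mon_ft]; exact S.R_eq_zero hm (by omega) _ _
  · rw [B_mon_tf]; exact S.R_eq_zero hm (by omega) _ _
  · rw [B_mon_tt]; exact S.P_eq_zero hm (by omega) _ _

theorem B_dmon_odd (k : ℕ) (a b : V) : S.B (S.dmon k a) (S.dmon k b) = S.P k a b := by
  rcases Nat.mod_two_eq_zero_or_one k with hk | hk <;>
    simp only [dmon, hk, zero_ne_one, decide_false, decide_true]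
  · rw [B_mon_ff, show k / 2 + k / 2 = k by omega]
  · rw [B_mon_tt, show k / 2 + k / 2 + 1 = k by omega]

theorem B_dmon_self (k : ℕ) (a : V) : S.B (S.dmon k a) (S.dmon (k + 1) a) = S.R k a a := by
  rcases Nat.mod_two_eq_zero_or_one k with hk | hk
  · simp only [dmon, hk, show (k + 1) % 2 = 1 by omega, zero_ne_one, decide_false, decide_true]
    rw [B_mon_ft, show k / 2 + (k + 1) / 2 = k by omega]
  · simp only [dmon, hk, show (k + 1) % 2 = 0 by omega, zero_ne_one, decide_false, decide_true]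
    rw [B_mon_tf, show k / 2 + (k + 1) / 2 = k by omega]

end gen

variable (S : Sys F V 0) [Finite F] {δ₀ : F}

theorem K_span_eq_zero {κ : Type*} (v : κ → V) (hK : ∀ a, S.K 0 (v a) = 0) (hB : ∀ a b, S.B (v a) (v b) = 0)
    {t : V} (ht : t ∈ Submodule.span F (Set.range v)) : S.K 0 t = 0 := by
  induction ht using Submodule.span_induction with
  | mem y hy => obtain ⟨a, rfl⟩ := hy; exact hK a
  | zero => exact S.K_zero le_rfl
  | smul c y _ hy => rw [S.Ksmul 0 le_rfl, hy, mul_zero]
  | add y z hy hz iy iz =>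
    rw [S.Kadd 0 le_rfl, iy, iz, zero_add, pow_zero, Module.End.one_apply, zero_add]
    clear iy iz
    induction hy using Submodule.span_induction with
    | mem y hy =>
      obtain ⟨a, rfl⟩ := hy
      induction hz using Submodule.span_induction with
      | mem z hz => obtain ⟨b, rfl⟩ := hz; exact hB a b
      | zero => exact map_zero _
      | add z z' _ _ h h' => rw [map_add, h, h', add_zero]
      | smul c z _ h => rw [map_smul, h, smul_zero]
    | zero => rw [map_zero, LinearMap.zero_apply]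
    | add y y' _ _ h h' => rw [map_add, LinearMap.add_apply, h, h', add_zero]
    | smul c y _ h => rw [map_smul, LinearMap.smul_apply, h, smul_zero]

/-- The Gauss sum through the monomials of high degree and a plane. -/
theorem gauss_core [Fintype V] [Fintype F] (hδ : IsNonWP δ₀) {ι : Type} [Fintype ι] (g : ι → V) {m : ℕ}
    (hm : S.s ^ m = 0) (ht : S.TauNondeg g m) (hg : S.gspan g = ⊤) {κ : Type} [Fintype κ] (r : κ → Fin m × ι)
    (hr : Function.Injective r) (hcard : m * Fintype.card ι = 2 * Fintype.card κ + 2)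
    (hK : ∀ a, S.K 0 (S.dmon (r a).1 (g (r a).2)) = 0) (hdeg : ∀ a b, m ≤ ((r a).1 : ℕ) + (r b).1)
    (je jf : ℕ) (e f : ι) (he : ∀ a, m ≤ ((r a).1 : ℕ) + je) (hf : ∀ a, m ≤ ((r a).1 : ℕ) + jf)
    (hef : S.B (S.dmon je (g e)) (S.dmon jf (g f)) = 1) :
    ∃ N : ℕ, 0 < N ∧ gauss (S.K 0) =
      (N : ℤ) * ∑ a : F, ∑ b : F, psi (a ^ 2 * S.K je (g e) + a * b + b ^ 2 * S.K jf (g f)) := by
  classical
  let v : κ → V := fun a => S.dmon (r a).1 (g (r a).2)
  have hli0 : LinearIndependent F fun a : Fin m × ι => S.dmon a.1 (g a.2) :=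
    Fintype.linearIndependent_iff.2 fun c hc a => by
      have h0 : S.comb g m c = S.comb g m 0 := by rw [map_zero, comb_apply]; exact hc
      exact congrFun (S.comb_injective hm ht h0) a
  have hli : LinearIndependent F v := hli0.comp r hr
  let T := Submodule.span F (Set.range v)
  haveI : Fintype T := Fintype.ofFinite _
  haveI : FiniteDimensional F V := Module.Finite.of_finite
  have hperp : ∀ j (b : ι), (∀ a, m ≤ ((r a).1 : ℕ) + j) → ∀ t ∈ T, S.B t (S.dmon j (g b)) = 0 := by
    intro j b hj t ht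
    induction ht using Submodule.span_induction with
    | mem y hy => obtain ⟨a, rfl⟩ := hy; exact S.B_dmon hm (hj a) _ _
    | zero => rw [map_zero, LinearMap.zero_apply]
    | add y y' _ _ h h' => rw [map_add, LinearMap.add_apply, h, h', add_zero]
    | smul c y _ h => rw [map_smul, LinearMap.smul_apply, h, smul_zero]
  have hdim : finrank F V = 2 * finrank F T + 2 := by
    rw [finrank_span_eq_card hli, ← hcard, ← S.finrank_gspan hm ht, hg, finrank_top]
  have h := gauss_plane hδ (S.K 0) S.B (fun u v => by rw [S.Kadd 0 le_rfl, pow_zero, Module.End.one_apply])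
    (S.Ksmul 0 le_rfl) S.alt S.nondeg T (S.dmon je (g e)) (S.dmon jf (g f))
    (fun t ht => S.K_span_eq_zero v hK (fun a b => S.B_dmon hm (hdeg a b) _ _) ht)
    (hperp je e he) (hperp jf f hf) hef hdim
  rw [S.K_dmon le_rfl, S.K_dmon le_rfl, zero_add, zero_add] at h
  exact ⟨Fintype.card T, Fintype.card_pos, h⟩

/-- The sign of a single piece. -/
theorem gauss_sign [Fintype V] (hδ : IsNonWP δ₀) {p : Piece} (hp : p.ok 0) {x y : V}
    (hstd : S.Std δ₀ p x y) (hg : S.gspan (fun b : Bool => cond b y x) = ⊤) :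
    (∀ k, p = .hyp (2 * k + 1) → 0 < gauss (S.K 0)) ∧ (∀ k, p = .ani k → gauss (S.K 0) < 0) ∧
      (∀ k, p = .vee k false → 0 < gauss (S.K 0)) ∧ (∀ k, p = .vee k true → gauss (S.K 0) < 0) := by
  classical
  haveI : Fintype F := Fintype.ofFinite F
  have hq : (0 : ℤ) < Fintype.card F := by exact_mod_cast Fintype.card_pos (α := F)
  have hrs := hstd.R_self_x S (Nat.zero_le 1)
  have hpair : ∀ k, (p = .hyp (2 * k + 1) ∨ p = .ani k) → ∃ N : ℕ, 0 < N ∧ gauss (S.K 0) =
      (N : ℤ) * ∑ a : F, ∑ b : F, psi (a ^ 2 * p.kx δ₀ k + a * b + b ^ 2 * p.ky δ₀ k) := by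
    intro k hk
    have hP : ∀ n, p.pP (F := F) n = if n = k then 1 else 0 := fun n => by
      rcases hk with rfl | rfl <;> simp [Piece.pP]
    have hR : ∀ n, p.pR (F := F) n = 0 := fun n => by
      rcases hk with rfl | rfl
      · simp only [Piece.pR]; rw [if_neg (by omega)]
      · rfl
    have hz : ∀ n, k < n → p.kx δ₀ n = 0 ∧ p.ky δ₀ n = 0 := fun n hn => by
      rcases hk with rfl | rfl
      · exact ⟨rfl, rfl⟩
      · exact ⟨if_neg (by omega), if_neg (by omega)⟩
    have hm : S.s ^ (2 * k + 1) = 0 := by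
      refine S.spow_of_gens _ hg _ (fun n hn a b => ?_) (fun n hn a b => ?_)
      · cases a <;> cases b
        · exact S.P_self n x
        · exact (hstd.1 n).trans ((hP n).trans (if_neg (by omega)))
        · exact (S.P_comm n y x).trans ((hstd.1 n).trans ((hP n).trans (if_neg (by omega))))
        · exact S.P_self n y
      · cases a <;> cases b
        · exact (hrs n).1.trans (hz _ (by omega)).1
        · exact (hstd.2.1 n).trans (hR n)
        · show S.R n y x = 0
          rw [S.R_comm, hstd.2.1, hR, hstd.1, hP, if_neg (by omega), add_zero]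
        · exact (hrs n).2.trans (hz _ (by omega)).2
    have hxy : S.P k x y = 1 := by rw [hstd.1, hP, if_pos rfl]
    obtain ⟨N, hN, hG⟩ := S.gauss_core hδ (fun b : Bool => cond b y x) hm (S.tauNondeg_odd hm hxy) hg
      (κ := Fin k × Bool) (fun a => (⟨k + 1 + (a.1 : ℕ), by omega⟩, a.2))
      (fun a b h => by
        simp only [Prod.mk.injEq, Fin.mk.injEq] at h
        exact Prod.ext (Fin.ext (by omega)) h.2)
      (by simp; ring)
      (fun a => by
        rw [S.K_dmon le_rfl, zero_add]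
        rcases a with ⟨j, _ | _⟩
        · exact (hstd.2.2 _ (Nat.zero_le _)).1.trans (hz _ (by show k < k + 1 + (j : ℕ); omega)).1
        · exact (hstd.2.2 _ (Nat.zero_le _)).2.trans (hz _ (by show k < k + 1 + (j : ℕ); omega)).2)
      (fun a b => by show 2 * k + 1 ≤ k + 1 + (a.1 : ℕ) + (k + 1 + (b.1 : ℕ)); omega)
      k k false true (fun a => by show 2 * k + 1 ≤ k + 1 + (a.1 : ℕ) + k; omega)
      (fun a => by show 2 * k + 1 ≤ k + 1 + (a.1 : ℕ) + k; omega)
      ((S.B_dmon_odd k _ _).trans hxy)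
    refine ⟨N, hN, ?_⟩
    rw [hG]
    simp only [cond_true, cond_false, (hstd.2.2 k (Nat.zero_le _)).1, (hstd.2.2 k (Nat.zero_le _)).2]
  have hvee : ∀ k δ, p = .vee k δ → ∃ N : ℕ, 0 < N ∧ gauss (S.K 0) =
      (N : ℤ) * ∑ a : F, ∑ b : F, psi (a ^ 2 * (if δ then δ₀ else 0) + a * b + b ^ 2 * 1) := by
    rintro k δ rfl
    have hk : 1 ≤ k := hp.1
    have hy : y = 0 := by
      refine S.nondeg.1 y fun v => ?_
      have hv : v ∈ S.gspan (fun b : Bool => cond b y x) := by rw [hg]; exact Submodule.mem_top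
      induction hv using Submodule.span_induction with
      | mem z hz =>
        obtain ⟨⟨b, n, e⟩, rfl⟩ := hz
        show S.B (S.mon 0 false y) (S.mon n e (cond b y x)) = 0
        refine S.B_mon_zero (g := fun _ : Bool => y) (g' := fun b : Bool => cond b y x) (a := b) (b := b)
          (fun i => ?_) 0 n false e
        cases b
        · refine ⟨(S.P_comm i y x).trans (hstd.1 i), ?_⟩
          show S.R i y x = 0
          rw [S.R_comm, hstd.1, hstd.2.1]
          exact add_zero _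
        · exact ⟨S.P_self i y, (hrs i).2⟩
      | zero => exact map_zero _
      | add a b _ _ ha hb => rw [map_add, ha, hb, add_zero]
      | smul c a _ ha => rw [map_smul, ha, smul_zero]
    have hg' : S.gspan (fun _ : Unit => x) = ⊤ := by
      rw [eq_top_iff, ← hg]
      refine Submodule.span_le.2 ?_
      rintro _ ⟨⟨b, n, e⟩, rfl⟩
      cases b
      · exact S.mon_mem_gspan _ () n e
      · show S.mon n e y ∈ S.gspan fun _ : Unit => x
        subst hy
        cases e <;> simp [mon]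
    have hm : S.s ^ (2 * k) = 0 := by
      refine S.spow_of_gens _ hg' _ (fun n _ a b => S.P_self n x) (fun n hn a b => ?_)
      rw [(hrs n).1]
      simp only [Piece.kx]
      rw [if_neg (by omega), if_neg (by omega)]
    have hkx : S.K k x = 1 := by rw [(hstd.2.2 k (Nat.zero_le _)).1]; simp [Piece.kx]
    obtain ⟨N, hN, hG⟩ := S.gauss_core hδ (fun _ : Unit => x) hm (S.tauNondeg_single hm hk hkx) hg'
      (κ := Fin (k - 1)) (fun a => (⟨k + 1 + (a : ℕ), by omega⟩, ()))
      (fun a b h => by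
        simp only [Prod.mk.injEq, Fin.mk.injEq] at h
        exact Fin.ext (by omega))
      (by simp; omega)
      (fun a => by
        rw [S.K_dmon le_rfl, zero_add]
        show S.K (k + 1 + (a : ℕ)) x = 0
        exact S.K_eq_zero hm (by omega) x)
      (fun a b => by show 2 * k ≤ k + 1 + (a : ℕ) + (k + 1 + (b : ℕ)); omega)
      (k - 1) k () () (fun a => by show 2 * k ≤ k + 1 + (a : ℕ) + (k - 1); omega)
      (fun a => by show 2 * k ≤ k + 1 + (a : ℕ) + k; omega)
      (by
        obtain ⟨i, rfl⟩ : ∃ i, k = i + 1 := ⟨k - 1, by omega⟩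
        rw [Nat.add_sub_cancel, S.B_dmon_self, S.R_self, hkx])
    refine ⟨N, hN, ?_⟩
    rw [hG, hkx, (hstd.2.2 (k - 1) (Nat.zero_le _)).1]
    simp only [Piece.kx]
    rw [if_neg (by omega), if_pos (by omega)]
  refine ⟨fun k hk => ?_, fun k hk => ?_, fun k hk => ?_, fun k hk => ?_⟩
  · obtain ⟨N, hN, hG⟩ := hpair k (Or.inl hk)
    subst hk
    rw [hG]
    simp only [Piece.kx, Piece.ky]
    rw [sum_plane_zero hδ 0]
    positivity
  · obtain ⟨N, hN, hG⟩ := hpair k (Or.inr hk)
    subst hk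
    rw [hG]
    simp only [Piece.kx, Piece.ky, if_pos]
    rw [sum_plane_aniso hδ]
    have : (0 : ℤ) < N := by exact_mod_cast hN
    nlinarith
  · obtain ⟨N, hN, hG⟩ := hvee k false hk
    rw [hG]
    simp only [Bool.false_eq_true, if_false]
    rw [sum_plane_zero hδ 1]
    positivity
  · obtain ⟨N, hN, hG⟩ := hvee k true hk
    rw [hG]
    simp only [if_true]
    have e : ∑ a : F, ∑ b : F, psi (a ^ 2 * δ₀ + a * b + b ^ 2 * 1) = -(Fintype.card F : ℤ) := by
      rw [← sum_plane_aniso hδ, Finset.sum_comm]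
      exact Finset.sum_congr rfl fun a _ => Finset.sum_congr rfl fun b _ => congrArg psi (by ring)
    rw [e]
    have : (0 : ℤ) < N := by exact_mod_cast hN
    nlinarith

end Sys

/-- One piece and the rest. -/
theorem Sys.Real.split [Finite F] [Fintype V] {S : Sys F V 0} {δ₀ : F} (hδ : IsNonWP δ₀) {p : Piece}
    {M : Multiset Piece} (h : S.Real δ₀ (p ::ₘ M)) :
    ∃ (U R : Submodule F V) (_ : Fintype U) (_ : Fintype R) (S₁ : Sys F U 0) (S₂ : Sys F R 0) (x y : U),
      S₁.Std δ₀ p x y ∧ S₁.gspan (fun b : Bool => cond b y x) = ⊤ ∧ S₂.Real δ₀ M ∧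
      gauss (S.K 0) = gauss (S₁.K 0) * gauss (S₂.K 0) := by
  classical
  obtain ⟨ι, _, q, g, hq, hs, ho, hg⟩ := h
  obtain ⟨i₀, -, hi₀⟩ := Multiset.mem_map.1 (show p ∈ Finset.univ.val.map q by rw [hq]; exact Multiset.mem_cons_self _ _)
  let s : Finset ι := Finset.univ.erase i₀
  let g₁ : Bool → V := fun b => g (i₀, b)
  let g₂ : ↥s × Bool → V := fun a => g ((a.1 : ι), a.2)
  let U := S.gspan g₁
  let R := S.gspan g₂
  have horth : ∀ u ∈ U, ∀ r ∈ R, S.B u r = 0 := by
    intro u hu r hr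
    induction hu using Submodule.span_induction with
    | mem u hu =>
      obtain ⟨⟨b, n, e⟩, rfl⟩ := hu
      induction hr using Submodule.span_induction with
      | mem r hr =>
        obtain ⟨⟨⟨i, b'⟩, l, e'⟩, rfl⟩ := hr
        exact S.B_mon_zero (g := g) (g' := g) (a := (i₀, b)) (b := ((i : ι), b'))
          (ho (i₀, b) ((i : ι), b') (Ne.symm (Finset.ne_of_mem_erase i.2))) n l e e'
      | zero => exact map_zero _
      | add a c _ _ ha hc => rw [map_add, ha, hc, add_zero]
      | smul t a _ ha => rw [map_smul, ha, smul_zero]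
    | zero => rw [map_zero, LinearMap.zero_apply]
    | add a c _ _ ha hc => rw [map_add, LinearMap.add_apply, ha, hc, add_zero]
    | smul t a _ ha => rw [map_smul, LinearMap.smul_apply, ha, smul_zero]
  have hsup : U ⊔ R = ⊤ := by
    rw [eq_top_iff, ← hg]
    refine Submodule.span_le.2 ?_
    rintro _ ⟨⟨⟨i, b⟩, n, e⟩, rfl⟩
    by_cases hi : i = i₀
    · subst hi
      exact Submodule.mem_sup_left (S.mon_mem_gspan g₁ b n e)
    · exact Submodule.mem_sup_right (S.mon_mem_gspan g₂ (⟨i, Finset.mem_erase.2 ⟨hi, Finset.mem_univ _⟩⟩, b) n e)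
  have hzero : ∀ v, (∀ u ∈ U, S.B v u = 0) → (∀ r ∈ R, S.B v r = 0) → v = 0 := fun v h1 h2 =>
    S.nondeg.1 v fun z => by
      obtain ⟨u, hu, r, hr, rfl⟩ := Submodule.mem_sup.1 (hsup ▸ Submodule.mem_top (x := z))
      rw [map_add, h1 u hu, h2 r hr, add_zero]
  have hcompl : IsCompl U R := by
    refine ⟨Submodule.disjoint_def.2 fun v hv hv' => hzero v (fun u hu => ?_) (horth v hv),
      codisjoint_iff.2 hsup⟩
    rw [S.B_comm]
    exact horth u hu v hv'
  have hdU : (S.B.restrict U).Nondegenerate := by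
    refine LinearMap.BilinForm.nondegenerate_restrict_of_disjoint_orthogonal S.B S.alt.isRefl ?_
    rw [Submodule.disjoint_def]
    exact fun v hv hv' => hzero v (fun u hu => by rw [S.B_comm]; exact hv' u hu) (horth v hv)
  have hdR : (S.B.restrict R).Nondegenerate := by
    refine LinearMap.BilinForm.nondegenerate_restrict_of_disjoint_orthogonal S.B S.alt.isRefl ?_
    rw [Submodule.disjoint_def]
    exact fun v hv hv' => hzero v (fun u hu => by rw [S.B_comm]; exact horth u hu v hv)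
      (fun r hr => by rw [S.B_comm]; exact hv' r hr)
  let S₁ := S.sub U (fun v hv => S.s_mem_gspan g₁ hv) (fun v hv => S.w_mem_gspan g₁ hv) hdU
  let S₂ := S.sub R (fun v hv => S.s_mem_gspan g₂ hv) (fun v hv => S.w_mem_gspan g₂ hv) hdR
  let x : U := ⟨g₁ false, S.gen_mem_gspan g₁ false⟩
  let y : U := ⟨g₁ true, S.gen_mem_gspan g₁ true⟩
  haveI : Fintype U := Fintype.ofFinite _
  haveI : Fintype R := Fintype.ofFinite _
  refine ⟨U, R, inferInstance, inferInstance, S₁, S₂, x, y, ?_, ?_, ?_, ?_⟩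
  · obtain ⟨h1, h2, h3⟩ := hs i₀
    rw [hi₀] at h1 h2 h3
    exact ⟨fun n => (S.sub_P _ _ _ hdU n x y).trans (h1 n), fun n => (S.sub_R _ _ _ hdU n x y).trans (h2 n), h3⟩
  · rw [eq_top_iff]
    rintro v -
    have hle : U ≤ (S₁.gspan fun b : Bool => cond b y x).map U.subtype := by
      refine Submodule.span_le.2 ?_
      rintro _ ⟨⟨b, n, e⟩, rfl⟩
      refine ⟨S₁.mon n e (cond b y x), S₁.mon_mem_gspan _ b n e, ?_⟩
      show (S₁.mon n e (cond b y x) : V) = _
      rw [S.sub_mon]
      cases b <;> rfl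
    obtain ⟨v', hv', he⟩ := hle v.2
    rwa [Subtype.ext he] at hv'
  · refine ⟨↥s, inferInstance, fun i => q i, fun a => ⟨g₂ a, S.gen_mem_gspan g₂ a⟩, ?_, fun i => ?_, ?_, ?_⟩
    · have e1 : (Finset.univ : Finset ι).val = i₀ ::ₘ s.val := by
        rw [Finset.erase_val, Multiset.cons_erase (Finset.mem_univ i₀)]
      rw [e1, Multiset.map_cons, hi₀] at hq
      rw [← (Multiset.cons_inj_right p).1 hq, Finset.univ_eq_attach, Finset.attach_val]
      exact Multiset.attach_map_val' _ q
    · obtain ⟨h1, h2, h3⟩ := hs i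
      exact ⟨fun n => (S.sub_P _ _ _ hdR n _ _).trans (h1 n), fun n => (S.sub_R _ _ _ hdR n _ _).trans (h2 n), h3⟩
    · intro a b hab n
      obtain ⟨h1, h2⟩ := ho ((a.1 : ι), a.2) ((b.1 : ι), b.2) (fun h => hab (Subtype.ext h)) n
      exact ⟨(S.sub_P _ _ _ hdR n _ _).trans h1, (S.sub_R _ _ _ hdR n _ _).trans h2⟩
    · rw [eq_top_iff]
      rintro v -
      have hle : R ≤ (S₂.gspan fun a => (⟨g₂ a, S.gen_mem_gspan g₂ a⟩ : R)).map R.subtype := by
        refine Submodule.span_le.2 ?_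
        rintro _ ⟨⟨a, n, e⟩, rfl⟩
        refine ⟨S₂.mon n e ⟨g₂ a, S.gen_mem_gspan g₂ a⟩, S₂.mon_mem_gspan _ a n e, ?_⟩
        show (S₂.mon n e _ : V) = _
        rw [S.sub_mon]
      obtain ⟨v', hv', he⟩ := hle v.2
      rwa [Subtype.ext he] at hv'
  · have e : ∀ z : U × R, psi (S.K 0 (Submodule.prodEquivOfIsCompl U R hcompl z)) =
        psi (S.K 0 (z.1 : V)) * psi (S.K 0 (z.2 : V)) := fun z => by
      rw [Submodule.coe_prodEquivOfIsCompl', S.Kadd 0 le_rfl, pow_zero, Module.End.one_apply,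
        horth _ z.1.2 _ z.2.2, add_zero, psi_add hδ]
    rw [gauss, ← (Submodule.prodEquivOfIsCompl U R hcompl).toEquiv.sum_comp]
    simp only [LinearEquiv.coe_toEquiv, e, Fintype.sum_prod_type, gauss, Finset.sum_mul_sum]
    rfl

/-- Systems differing in one slot are not isometric quadratic spaces. -/
theorem not_isometric_of_swap [Finite F] [Fintype V] {V' : Type u} [AddCommGroup V'] [Module F V'] [Fintype V']
    {δ₀ : F} (hδ : IsNonWP δ₀) {S : Sys F V 0} {S' : Sys F V' 0} {M M' : Multiset Piece} (hM : Valid 0 M)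
    (hM' : Valid 0 M') (h : S.Real δ₀ M) (h' : S'.Real δ₀ M') (hsw : Swap M M') (e : V ≃ₗ[F] V')
    (he : ∀ v, S'.K 0 (e v) = S.K 0 v) : False := by
  classical
  have hgauss : gauss (S.K 0) = gauss (S'.K 0) := by
    rw [gauss, gauss, ← e.toEquiv.sum_comp fun v => psi (S'.K 0 v)]
    exact Finset.sum_congr rfl fun v _ => by rw [LinearEquiv.coe_toEquiv, he]
  obtain ⟨R, k, hcase⟩ := hsw
  have key : ∀ p p', M = p ::ₘ R → M' = p' ::ₘ R →
      ((∃ k, p = .ani k) ∨ ∃ k, p = .vee k true) → ((∃ k, p' = .hyp (2 * k + 1)) ∨ ∃ k, p' = .vee k false) →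
      False := by
    rintro p p' rfl rfl hp hp'
    obtain ⟨U, W, _, _, T₁, T₂, x, y, hstd, hg, hR, hG⟩ := h.split hδ
    obtain ⟨U', W', _, _, T₁', T₂', x', y', hstd', hg', hR', hG'⟩ := h'.split hδ
    have hneg : gauss (T₁.K 0) < 0 := by
      obtain ⟨-, s2, -, s4⟩ := T₁.gauss_sign hδ (hM.ok _ (Multiset.mem_cons_self _ _)) hstd hg
      rcases hp with ⟨j, hj⟩ | ⟨j, hj⟩
      · exact s2 j hj
      · exact s4 j hj
    have hpos : 0 < gauss (T₁'.K 0) := by
      obtain ⟨s1, -, s3, -⟩ := T₁'.gauss_sign hδ (hM'.ok _ (Multiset.mem_cons_self _ _)) hstd' hg'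
      rcases hp' with ⟨j, hj⟩ | ⟨j, hj⟩
      · exact s1 j hj
      · exact s3 j hj
    obtain ⟨f, -, -, -, hfK⟩ := Sys.Real.iso (Nat.zero_le 1) hR hR'
    have hW : gauss (T₂.K 0) = gauss (T₂'.K 0) := by
      rw [gauss, gauss, ← f.toEquiv.sum_comp fun v => psi (T₂'.K 0 v)]
      exact Finset.sum_congr rfl fun v _ => by rw [LinearEquiv.coe_toEquiv, hfK 0 le_rfl]
    have hne : gauss (T₂.K 0) ≠ 0 := gauss_ne_zero hδ (T₂.K 0) T₂.B
      (fun u v => by rw [T₂.Kadd 0 le_rfl, pow_zero, Module.End.one_apply]) T₂.alt T₂.nondeg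
    rw [hG, hG', ← hW] at hgauss
    have := mul_right_cancel₀ hne hgauss
    omega
  rcases hcase with ⟨h1, h2⟩ | ⟨h1, h2⟩
  · exact key _ _ h1 h2 (Or.inl ⟨_, rfl⟩) (Or.inl ⟨_, rfl⟩)
  · exact key _ _ h1 h2 (Or.inr ⟨_, rfl⟩) (Or.inr ⟨_, rfl⟩)

end CfsgLib.ClassNumber.CharTwo
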