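import Cfsg.Agent.Lib.ClassCount.CharTwo.UnipSys
import Cfsg.Agent.Lib.ClassCount.Symplectic.Split

/-!
# The system of a unipotent isometry in characteristic two
-/

set_option autoImplicit false

namespace CfsgLib.ClassNumber.CharTwo

open LinearMap (BilinForm)
open Module

universe u

variable {F : Type u} [Field F] [CharP F 2] {V : Type u} [AddCommGroup V] [Module F V]

/-- A unipotent isometry of a nondegenerate alternating form. -/
def IsUnip (B : BilinForm F V) (a : V ≃ₗ[F] V) : Prop :=
  B.IsAlt ∧ B.Nondegenerate ∧ (∀ u v, B (a u) (a v) = B u v) ∧ IsNilpotent ((a : V →ₗ[F] V) + 1)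

/-- The element `a + 1`. -/
def sOf (a : V ≃ₗ[F] V) : Module.End F V := (a : V →ₗ[F] V) + 1

/-- The element `a + a⁻¹`. -/
def wOf (a : V ≃ₗ[F] V) : Module.End F V := (a : V →ₗ[F] V) + (a.symm : V →ₗ[F] V)

theorem vec_add_self {K : Type u} [Field K] [CharP K 2] {W : Type u} [AddCommGroup W] [Module K W] (v : W) :
    v + v = 0 := by
  rw [← two_smul K, CharTwo.two_eq_zero, zero_smul]

omit [CharP F 2] in
theorem sOf_apply (a : V ≃ₗ[F] V) (v : V) : sOf a v = a v + v := rfl

omit [CharP F 2] in
theorem wOf_apply (a : V ≃ₗ[F] V) (v : V) : wOf a v = a v + a.symm v := rfl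

theorem comm_sOf_wOf (a : V ≃ₗ[F] V) : Commute (sOf a) (wOf a) := by
  refine LinearMap.ext fun v => ?_
  show sOf a (wOf a v) = wOf a (sOf a v)
  simp only [sOf_apply, wOf_apply, map_add, LinearEquiv.apply_symm_apply, LinearEquiv.symm_apply_apply]
  abel

theorem sq_sOf (a : V ≃ₗ[F] V) : sOf a * sOf a = wOf a * sOf a + wOf a := by
  refine LinearMap.ext fun v => ?_
  show sOf a (sOf a v) = wOf a (sOf a v) + wOf a v
  simp only [sOf_apply, wOf_apply, map_add, LinearEquiv.symm_apply_apply]
  have h1 : a (a v) + a v + (a v + v) = a (a v) + v := by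
    rw [add_assoc, ← add_assoc (a v), vec_add_self (K := F), zero_add]
  have h2 : a (a v) + v + (a v + a.symm v) + (a v + a.symm v) =
      a (a v) + v + (a v + a v) + (a.symm v + a.symm v) := by abel
  rw [h1, h2, vec_add_self (K := F), vec_add_self (K := F), add_zero, add_zero]

/-- The forms of an isometry. -/
def kOf (B : BilinForm F V) (a : V ≃ₗ[F] V) (Q : V → F) : ℕ → V → F
  | 0, x => Q x
  | n + 1, x => B ((wOf a ^ n) (sOf a x)) x

/-- The system of a unipotent isometry; below level one it uses the quadratic form. -/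
def sysOf (ε : ℕ) {B : BilinForm F V} {a : V ≃ₗ[F] V} (h : IsUnip B a) (Q : V → F)
    (hadd : ε = 0 → ∀ x y, Q (x + y) = Q x + Q y + B x y) (hsmul : ε = 0 → ∀ (c : F) x, Q (c • x) = c ^ 2 * Q x)
    (hinv : ε = 0 → ∀ x, Q (a x) = Q x) : Sys F V ε :=
  have hBc : ∀ u v, B u v = B v u := fun u v =>
    (CharTwo.neg_eq _).symm.trans (LinearMap.IsAlt.neg h.1 u v)
  have hsy : ∀ x y, B (a x) y = B x (a.symm y) := fun x y => by
    conv_lhs => rw [← a.apply_symm_apply y]
    rw [h.2.2.1]
  have hsy' : ∀ x y, B (a.symm x) y = B x (a y) := fun x y => by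
    rw [hBc, ← hsy, hBc]
  have hadjw : ∀ x y, B (wOf a x) y = B x (wOf a y) := fun x y => by
    simp only [wOf_apply, map_add, LinearMap.add_apply, hsy, hsy']
    ring
  have hadjwp : ∀ (n : ℕ) (x y : V), B ((wOf a ^ n) x) y = B x ((wOf a ^ n) y) := fun n => by
    induction n with
    | zero => exact fun x y => rfl
    | succ n ih =>
      intro x y
      rw [pow_succ, Module.End.mul_apply, ih, hadjw, ← Module.End.mul_apply, ← pow_succ', pow_succ]
  have hadjs : ∀ x y, B (sOf a x) y = B x (sOf a y + wOf a y) := fun x y => by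
    have e : sOf a y + wOf a y = a.symm y + y := by
      simp only [sOf_apply, wOf_apply]
      rw [show a y + y + (a y + a.symm y) = a.symm y + y + (a y + a y) by abel, vec_add_self (K := F), add_zero]
    rw [e, sOf_apply, map_add, LinearMap.add_apply, hsy, map_add]
  have hc : ∀ (n : ℕ) v, sOf a ((wOf a ^ n) v) = (wOf a ^ n) (sOf a v) := fun n v => by
    rw [← Module.End.mul_apply, ((comm_sOf_wOf a).pow_right n).eq, Module.End.mul_apply]
  { B := B
    s := sOf a
    w := wOf a
    K := kOf B a Q
    alt := h.1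
    nondeg := h.2.1
    comm := comm_sOf_wOf a
    sq := sq_sOf a
    adjw := hadjw
    adjs := hadjs
    nil := h.2.2.2
    Kadd := fun i hi x y => by
      cases i with
      | zero => exact hadd (by omega) x y
      | succ n =>
        have e : B ((wOf a ^ n) (sOf a y)) x = B ((wOf a ^ n) (sOf a x)) y + B ((wOf a ^ (n + 1)) x) y := by
          rw [hadjwp, hadjs, map_add, hc, hBc y, hBc y, ← Module.End.mul_apply (wOf a), ← pow_succ']
        simp only [kOf, map_add, LinearMap.add_apply]
        rw [e]
        linear_combination (CharTwo.add_self_eq_zero (B ((wOf a ^ n) (sOf a x)) y))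
    Ksmul := fun i hi c x => by
      cases i with
      | zero => exact hsmul (by omega) c x
      | succ n =>
        simp only [kOf, map_smul, LinearMap.smul_apply, smul_eq_mul]
        ring
    Kw := fun i hi x => by
      cases i with
      | zero =>
        show Q (wOf a x) = B ((wOf a ^ 1) (sOf a x)) x
        have h0 := hinv (by omega)
        rw [wOf_apply, hadd (by omega), h0]
        have hi' : Q (a.symm x) = Q x := by rw [← h0 (a.symm x), LinearEquiv.apply_symm_apply]
        rw [hi', CharTwo.add_self_eq_zero, zero_add, pow_one, wOf_apply, sOf_apply]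
        simp only [map_add, LinearMap.add_apply, LinearEquiv.symm_apply_apply]
        rw [hsy (a x) x, h.1 x, hsy' x x, hBc x (a x)]
        linear_combination -(CharTwo.add_self_eq_zero (B (a x) x))
      | succ n =>
        show B ((wOf a ^ n) (sOf a (wOf a x))) (wOf a x) = B ((wOf a ^ (n + 2)) (sOf a x)) x
        rw [← hadjw, ← Module.End.mul_apply (sOf a), (comm_sOf_wOf a).eq, Module.End.mul_apply,
          ← Module.End.mul_apply (wOf a ^ n), ← pow_succ, ← Module.End.mul_apply (wOf a), ← pow_succ']
    Ks := fun i hi x => by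
      cases i with
      | zero =>
        show Q (sOf a x) = B ((wOf a ^ 0) (sOf a x)) x
        rw [sOf_apply, hadd (by omega), hinv (by omega), CharTwo.add_self_eq_zero, zero_add, pow_zero,
          Module.End.one_apply, map_add, LinearMap.add_apply, h.1 x, add_zero]
      | succ n =>
        show B ((wOf a ^ n) (sOf a (sOf a x))) (sOf a x) = B ((wOf a ^ (n + 1)) (sOf a x)) x
        rw [hBc ((wOf a ^ n) _), hadjs, hc, ← Module.End.mul_apply (wOf a), ← pow_succ', pow_succ,
          Module.End.mul_apply, ← map_add, hBc x]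
        have e : sOf a (sOf a (sOf a x)) + wOf a (sOf a (sOf a x)) = wOf a (sOf a x) := by
          rw [show sOf a (sOf a (sOf a x)) = (sOf a * sOf a) (sOf a x) from rfl, sq_sOf, LinearMap.add_apply,
            Module.End.mul_apply, add_right_comm, vec_add_self (K := F), zero_add]
        rw [e, Module.End.mul_apply]
    Ksucc := fun i x => rfl }

variable {V' : Type u} [AddCommGroup V'] [Module F V']

/-- An isometry of the systems commutes with the isometries. -/
theorem exists_conj_of_iso {ε : ℕ} {B : BilinForm F V} {a : V ≃ₗ[F] V} {h : IsUnip B a} {Q : V → F} {hq hq' hq''}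
    {B' : BilinForm F V'} {a' : V' ≃ₗ[F] V'} {h' : IsUnip B' a'} {Q' : V' → F} {hr hr' hr''}
    (hiso : Iso (sysOf ε h Q hq hq' hq'') (sysOf ε h' Q' hr hr' hr'')) :
    ∃ f : V ≃ₗ[F] V', (∀ v, f (a v) = a' (f v)) ∧ (∀ x y, B' (f x) (f y) = B x y) ∧
      (ε = 0 → ∀ v, Q' (f v) = Q v) := by
  obtain ⟨f, hs, -, hB, hK⟩ := hiso
  refine ⟨f, fun v => ?_, hB, fun h0 v => hK 0 (by omega) v⟩
  have h1 : f (a v + v) = a' (f v) + f v := hs v
  rw [map_add] at h1
  exact add_right_cancel h1

omit [CharP F 2] in
theorem shiftEnd_one (a : V ≃ₗ[F] V) : shiftEnd a (1 : F) = (a : V →ₗ[F] V) - 1 := by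
  rw [shiftEnd, one_smul]

theorem isNilpotent_sOf (a : V ≃ₗ[F] V) (h : IsNilpotent (shiftEnd a (1 : F))) :
    IsNilpotent ((a : V →ₗ[F] V) + 1) := by
  rw [shiftEnd_one, sub_eq_add_neg] at h
  have : (-1 : Module.End F V) = 1 := LinearMap.ext fun v =>
    neg_eq_of_add_eq_zero_right (vec_add_self (K := F) v)
  rwa [this] at h

end CfsgLib.ClassNumber.CharTwo
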