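import Cfsg.Agent.Lib.ClassCount.CharTwo.UnipExists
import Cfsg.Agent.Lib.ClassCount.CharTwo.UnipArf
import Cfsg.Agent.Lib.ClassCount.CharTwo.UnipGlue
import Cfsg.Agent.Lib.ClassCount.CharTwo.ReduceOrth

/-!
# Upper bounds for the class numbers of `Sp(2n, q)` and `O±(2n, q)`, `q` even
-/

set_option autoImplicit false

namespace CfsgLib.ClassNumber.CharTwo

open LinearMap (BilinForm)
open Module QuadraticMap
open CfsgLib.Classical CfsgLib.ClassNumber.CharTwoReduce

universe u

variable {F : Type u} [Field F] [Fintype F] [CharP F 2]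

omit [Fintype F] in
theorem exists_sq [Finite F] (a : F) : ∃ c : F, c ^ 2 = a := by
  obtain ⟨c, hc⟩ := (Finite.injective_iff_surjective.1 (CharTwo.sq_injective (R := F))) a
  exact ⟨c, hc⟩

/-- A unipotent symplectic isometry has the code `c`. -/
def HasSp (δ₀ : F) (W : Type u) [AddCommGroup W] [Module F W] [FiniteDimensional F W] (B : BilinForm F W)
    (a : W ≃ₗ[F] W) (m : ℕ) (c : CodeTy 1 true m) : Prop :=
  ∃ (h : IsUnip B a) (M : Multiset Piece), Valid 1 M ∧ (M.map Piece.wt).sum = m ∧ c.1 = enc M m ∧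
    (sysOf 1 h (fun _ => 0) (fun e => absurd e one_ne_zero) (fun e => absurd e one_ne_zero)
      (fun e => absurd e one_ne_zero)).Real δ₀ M

/-- `5 k(Sp(2n, q)) ≤ 76 q ^ n`. -/
theorem sp2_classes_upper (n : ℕ) :
    5 * Nat.card (ConjClasses (Matrix.symplecticGroup (Fin n) F)) ≤ 76 * Fintype.card F ^ n := by
  obtain ⟨δ₀, hδ⟩ := exists_isNonWP (F := F)
  have h : Nat.card (ConjClasses (Matrix.symplecticGroup (Fin n) F)) ≤
      ∑ m ∈ Finset.range (n + 1), Nat.card (CodeTy 1 true m) * Fintype.card F ^ (n - m) := by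
    refine sp2_classes_le (C := CodeTy 1 true) (HasSp δ₀) ?_ ?_ n
    · intro W _ _ _ B a m hA hB ha hnil hdim
      obtain ⟨M, hM, hcode⟩ := exists_code (le_refl 1) hδ.1 exists_sq W
        (sysOf 1 (⟨hA, hB, ha, isNilpotent_sOf a hnil⟩ : IsUnip B a) (fun _ => 0)
          (fun e => absurd e one_ne_zero) (fun e => absurd e one_ne_zero) (fun e => absurd e one_ne_zero))
      have hsum : (M.map Piece.wt).sum = m := by
        have := hcode.2
        omega
      exact ⟨⟨enc M m, mem_codeSet (length_enc M m) (adm_enc hM m)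
        ((lwt_enc_eq hM.ok hsum.le).trans hsum)⟩, _, M, hM, hsum, rfl, hcode.1⟩
    · intro W W' _ _ _ _ _ _ B a B' a' m c _ _ _ _ _ _ _ _ _ _ hc hc'
      obtain ⟨h, M, hM, hs, hcM, hR⟩ := hc
      obtain ⟨h', M', hM', hs', hcM', hR'⟩ := hc'
      obtain rfl := enc_inj hM hM' hs.le hs'.le (hcM.symm.trans hcM')
      obtain ⟨f, hf, hfB, -⟩ := exists_conj_of_iso (Sys.Real.iso le_rfl hR hR')
      exact ⟨f, hf, hfB⟩
  have hsum := sum_codes_le closed_tableSp (by norm_num) (q := Fintype.card F) Fintype.one_lt_card n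
  exact le_trans (Nat.mul_le_mul_left 5 h) hsum

/-- A unipotent orthogonal isometry has the code `c`, the bit of the first slot forgotten. -/
def HasO (δ₀ : F) (W : Type u) [AddCommGroup W] [Module F W] [FiniteDimensional F W] (Q : QuadraticForm F W)
    (a : W ≃ₗ[F] W) (m : ℕ) (c : CodeTy 0 false m) : Prop :=
  ∃ (h : IsUnip (polarBilin Q) a) (hadd : 0 = 0 → ∀ x y, Q (x + y) = Q x + Q y + polarBilin Q x y)
    (hsmul : 0 = 0 → ∀ (t : F) x, Q (t • x) = t ^ 2 * Q x) (hinv : 0 = 0 → ∀ x, Q (a x) = Q x)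
    (M : Multiset Piece), Valid 0 M ∧ (M.map Piece.wt).sum = m ∧ c.1 = canon 0 (enc M m) ∧
      (sysOf 0 h (fun x => Q x) hadd hsmul hinv).Real δ₀ M

/-- `k(O(Q)) ≤ 15 q ^ n` for nondegenerate `Q` in dimension `2 n`. -/
theorem orth2_classes_upper {ι : Type} [Fintype ι] [DecidableEq ι] (Q : QuadraticForm F (ι → F))
    (hQ : (polarBilin Q).Nondegenerate) {n : ℕ} (hι : Fintype.card ι = 2 * n) :
    Nat.card (ConjClasses ↥(Cfsg.isometryGroup F (⇑Q))) ≤ 15 * Fintype.card F ^ n := by
  obtain ⟨δ₀, hδ⟩ := exists_isNonWP (F := F)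
  have h : Nat.card (ConjClasses ↥(Cfsg.isometryGroup F (⇑Q))) ≤
      ∑ m ∈ Finset.range (n + 1), Nat.card (CodeTy 0 false m) * Fintype.card F ^ (n - m) := by
    refine orth2_classes_le (C := CodeTy 0 false) (HasO δ₀) ?_ ?_ Q hQ hι
    · intro W _ _ _ R a m hR ha hnil hdim
      have hadd : 0 = 0 → ∀ x y, R (x + y) = R x + R y + polarBilin R x y := fun _ x y => by
        simp only [polarBilin_apply_apply, polar]
        ring
      have hsmul : 0 = 0 → ∀ (t : F) x, R (t • x) = t ^ 2 * R x := fun _ t x => by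
        rw [QuadraticMap.map_smul, smul_eq_mul, pow_two]
      have hu : IsUnip (polarBilin R) a :=
        ⟨polarBilin_alt R, hR, polar_preserved R a ha, isNilpotent_sOf a hnil⟩
      obtain ⟨M, hM, hcode⟩ := exists_code (Nat.zero_le 1) hδ.1 exists_sq W
        (sysOf 0 hu (fun x => R x) hadd hsmul (fun _ => ha))
      have hsum : (M.map Piece.wt).sum = m := by
        have := hcode.2
        omega
      exact ⟨⟨canon 0 (enc M m), mem_codeSet ((length_canon _).trans (length_enc M m)) (adm_canon (adm_enc hM m))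
        ((lwt_canon _).trans ((lwt_enc_eq hM.ok hsum.le).trans hsum))⟩,
        hu, hadd, hsmul, fun _ => ha, M, hM, hsum, rfl, hcode.1⟩
    · intro W W' _ _ _ _ _ _ R a R' a' m c _ _ _ _ _ _ _ _ he hc hc'
      obtain ⟨e, he⟩ := he
      obtain ⟨h, hadd, hsmul, hinv, M, hM, hs, hcM, hR⟩ := hc
      obtain ⟨h', hadd', hsmul', hinv', M', hM', hs', hcM', hR'⟩ := hc'
      haveI : Finite W := Module.finite_of_finite F
      haveI : Finite W' := Module.finite_of_finite F
      haveI : Fintype W := Fintype.ofFinite W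
      haveI : Fintype W' := Fintype.ofFinite W'
      rcases canon_enc_inj hM hM' hs.le hs'.le (hcM.symm.trans hcM') with rfl | hsw | hsw
      · obtain ⟨f, hf, -, hfQ⟩ := exists_conj_of_iso (Sys.Real.iso (Nat.zero_le 1) hR hR')
        exact ⟨f, hf, hfQ rfl⟩
      · exact (not_isometric_of_swap hδ hM hM' hR hR' hsw e he).elim
      · refine (not_isometric_of_swap hδ hM' hM hR' hR hsw e.symm fun v => ?_).elim
        show R (e.symm v) = R' v
        rw [← he, LinearEquiv.apply_symm_apply]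
  have hsum := sum_codes_le closed_tableO (by norm_num) (q := Fintype.card F) Fintype.one_lt_card n
  rw [one_mul] at hsum
  exact le_trans h hsum

end CfsgLib.ClassNumber.CharTwo
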