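import Mathlib

/-!
# Counting the level data of unipotent classes

A code lists, from the top level down, the numbers of pieces of odd and even size, of one-generator pieces, and
a bit. With `t = 1 / 2` the sum of `t ^ weight` over admissible codes is below `76 / 5` (symplectic) and below
`15` (orthogonal, first bit forgotten).
-/

set_option autoImplicit false

namespace CfsgLib.ClassNumber.CharTwo

/-- The data at one level. -/
structure Lev where
  /-- Pieces of the odd size. -/
  odd : ℕ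
  /-- Hyperbolic pieces of the even size. -/
  even : ℕ
  /-- Pieces with one generator. -/
  vs : ℕ
  /-- The invariant bit. -/
  bit : Bool
deriving DecidableEq

/-- The weight at level `k`. -/
def Lev.wt (k : ℕ) (d : Lev) : ℕ := d.odd * (2 * k - 1) + d.even * (2 * k) + d.vs * k

/-- The existence of a bit. -/
def slotB (ε k : ℕ) (prev po pv : Bool) : Bool := (po || pv) && !prev && decide (ε < k)

/-- The state after a code: one-generator pieces at the top level, and a bit has occurred. -/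
def st (ε : ℕ) (s₀ : Bool) : List Lev → Bool × Bool
  | [] => (false, s₀)
  | d :: l => (decide (0 < d.vs), (st ε s₀ l).2 ||
      slotB ε (l.length + 1) (st ε s₀ l).1 (decide (0 < d.odd)) (decide (0 < d.vs)))

/-- The weight of a code. -/
def lwt : List Lev → ℕ
  | [] => 0
  | d :: l => d.wt (l.length + 1) + lwt l

/-- Admissible codes. -/
def Adm (ε : ℕ) (s₀ : Bool) : List Lev → Prop
  | [] => True
  | d :: l => Adm ε s₀ l ∧ d.vs ≤ 2 ∧ (d.bit = true →
      slotB ε (l.length + 1) (st ε s₀ l).1 (decide (0 < d.odd)) (decide (0 < d.vs)) = true ∧ (st ε s₀ l).2 = true)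

instance decidableAdm (ε : ℕ) (s₀ : Bool) : ∀ l, Decidable (Adm ε s₀ l)
  | [] => inferInstanceAs (Decidable True)
  | d :: l => by
    have := decidableAdm ε s₀ l
    unfold Adm
    infer_instance

/-- The levels with bounded entries. -/
def levs (N : ℕ) : Finset Lev :=
  (Finset.range N ×ˢ (Finset.range N ×ˢ (Finset.range 3 ×ˢ (Finset.univ : Finset Bool)))).image
    fun a => ⟨a.1, a.2.1, a.2.2.1, a.2.2.2⟩

/-- The codes of length `K` with bounded entries. -/
def box (N : ℕ) : ℕ → Finset (List Lev)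
  | 0 => {[]}
  | K + 1 => (levs N ×ˢ box N K).image fun a => a.1 :: a.2

theorem length_of_mem_box {N : ℕ} : ∀ {K : ℕ} {l : List Lev}, l ∈ box N K → l.length = K
  | 0, l, h => by simp [box] at h; simp [h]
  | K + 1, l, h => by
    simp only [box, Finset.mem_image, Finset.mem_product] at h
    obtain ⟨⟨d, l'⟩, ⟨-, h'⟩, rfl⟩ := h
    simp [length_of_mem_box h']

theorem mem_box {N : ℕ} : ∀ (l : List Lev), (∀ d ∈ l, d.odd < N ∧ d.even < N ∧ d.vs < 3) → l ∈ box N l.length
  | [], _ => by simp [box]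
  | d :: l, h => by
    simp only [box, List.length_cons, Finset.mem_image, Finset.mem_product]
    refine ⟨(d, l), ⟨?_, mem_box l fun e he => h e (List.mem_cons_of_mem _ he)⟩, rfl⟩
    have := h d List.mem_cons_self
    simp only [levs, Finset.mem_image, Finset.mem_product, Finset.mem_range, Finset.mem_univ, and_true]
    exact ⟨(d.odd, d.even, d.vs, d.bit), this, rfl⟩

/-- Codes in a given state, weighted. -/
def codeSum (ε : ℕ) (s₀ : Bool) (N K : ℕ) (σ : Bool × Bool) : ℚ :=
  ∑ l ∈ (box N K).filter (fun l => Adm ε s₀ l ∧ st ε s₀ l = σ), (1 / 2) ^ lwt l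

/-- The number of choices of the bit leading to `σ'`. -/
def nbit (ε k : ℕ) (σ σ' : Bool × Bool) (po pv : Bool) : ℕ :=
  if (pv, σ.2 || slotB ε k σ.1 po pv) = σ' then (if slotB ε k σ.1 po pv && σ.2 then 2 else 1) else 0

/-- The scaled transfer coefficient. -/
def coef (ε k : ℕ) (σ σ' : Bool × Bool) : ℕ :=
  4 ^ k * (4 ^ k - 2) * nbit ε k σ σ' false false + 2 * 4 ^ k * nbit ε k σ σ' true false +
    (2 ^ k + 1) * (4 ^ k - 2) * nbit ε k σ σ' false true + 2 * (2 ^ k + 1) * nbit ε k σ σ' true true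

theorem geom_sum_le {x : ℚ} (h0 : 0 ≤ x) (h1 : x < 1) (N : ℕ) : ∑ i ∈ Finset.range N, x ^ i ≤ (1 - x)⁻¹ := by
  rw [← one_div, le_div_iff₀ (by linarith), geom_sum_mul_neg]
  linarith [pow_nonneg h0 N]

theorem sum_levs_le (ε k N : ℕ) (hk : 1 ≤ k) (σ σ' : Bool × Bool) :
    (∑ d ∈ (levs N).filter (fun d => (d.bit = true →
        slotB ε k σ.1 (decide (0 < d.odd)) (decide (0 < d.vs)) = true ∧ σ.2 = true) ∧
      (decide (0 < d.vs), σ.2 || slotB ε k σ.1 (decide (0 < d.odd)) (decide (0 < d.vs))) = σ'),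
      (1 / 2 : ℚ) ^ d.wt k) * (((4 ^ k - 1) * (4 ^ k - 2) : ℕ) : ℚ) ≤ (coef ε k σ σ' : ℚ) := by
  set x : ℚ := (1 / 2) ^ (2 * k - 1) with hx
  set y : ℚ := (1 / 2) ^ (2 * k) with hy
  set z : ℚ := (1 / 2) ^ k with hz
  have hP4 : (4 : ℕ) ≤ 4 ^ k := by
    calc (4 : ℕ) = 4 ^ 1 := (pow_one 4).symm
      _ ≤ 4 ^ k := Nat.pow_le_pow_right (by norm_num) hk
  let n : Bool → Bool → ℚ := fun po pv => (nbit ε k σ σ' po pv : ℚ)
  have hn0 : ∀ po pv, 0 ≤ n po pv := fun po pv => Nat.cast_nonneg _
  let f : ℕ → ℕ → ℚ := fun a v => x ^ a * z ^ v * n (decide (0 < a)) (decide (0 < v))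
  have hbit : ∀ a h v, (∑ b : Bool, if (b = true → slotB ε k σ.1 (decide (0 < a)) (decide (0 < v)) = true ∧
        σ.2 = true) ∧ (decide (0 < v), σ.2 || slotB ε k σ.1 (decide (0 < a)) (decide (0 < v))) = σ'
      then (1 / 2 : ℚ) ^ (Lev.mk a h v b).wt k else 0) = y ^ h * f a v := by
    intro a h v
    simp only [Lev.wt, f, n, nbit, Fintype.sum_bool, pow_add, pow_mul', hx, hy, hz]
    by_cases h1 : (decide (0 < v), σ.2 || slotB ε k σ.1 (decide (0 < a)) (decide (0 < v))) = σ' <;>
      by_cases h2 : slotB ε k σ.1 (decide (0 < a)) (decide (0 < v)) = true <;>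
      by_cases h3 : σ.2 = true <;>
      simp_all [mul_comm, mul_left_comm] <;> ring
  have hinj : Function.Injective fun a : ℕ × ℕ × ℕ × Bool => (⟨a.1, a.2.1, a.2.2.1, a.2.2.2⟩ : Lev) :=
    fun a b h => by
      simp only [Lev.mk.injEq] at h
      obtain ⟨h1, h2, h3, h4⟩ := h
      exact Prod.ext h1 (Prod.ext h2 (Prod.ext h3 h4))
  rw [Finset.sum_filter, levs, Finset.sum_image fun _ _ _ _ h => hinj h, Finset.sum_product]
  simp only [Finset.sum_product, hbit]
  have hsplit : (∑ a ∈ Finset.range N, ∑ h ∈ Finset.range N, ∑ v ∈ Finset.range 3, y ^ h * f a v) =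
      (∑ h ∈ Finset.range N, y ^ h) * ∑ a ∈ Finset.range N, ∑ v ∈ Finset.range 3, f a v := by
    rw [Finset.sum_comm, Finset.sum_mul]
    simp only [Finset.mul_sum]
  rw [hsplit]
  have hy0 : 0 ≤ y := by positivity
  have hx0 : 0 ≤ x := by positivity
  have hP : (4 : ℚ) ≤ 4 ^ k := by exact_mod_cast hP4
  have hyv : y = ((4 : ℚ) ^ k)⁻¹ := by
    rw [hy, one_div, inv_pow, pow_mul]
    norm_num
  have hxv : x = 2 * ((4 : ℚ) ^ k)⁻¹ := by
    rw [← hyv, hx, hy, show 2 * k = 2 * k - 1 + 1 by omega, pow_succ, Nat.add_sub_cancel]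
    ring
  have hzv : z * z = ((4 : ℚ) ^ k)⁻¹ := by rw [← hyv, hy, hz, ← pow_add, two_mul]
  have hz2 : ((2 : ℚ) ^ k + 1) * y = z + z ^ 2 := by
    have : (2 : ℚ) ^ k * z = 1 := by rw [hz, ← mul_pow]; norm_num
    rw [pow_two z, hzv, ← hyv, add_mul, one_mul]
    congr 1
    calc (2 : ℚ) ^ k * y = 2 ^ k * (z * z) := by rw [hzv, hyv]
      _ = z := by rw [← mul_assoc, this, one_mul]
  have hinner : ∀ a, ∑ v ∈ Finset.range 3, f a v =
      x ^ a * (n (decide (0 < a)) false + (z + z ^ 2) * n (decide (0 < a)) true) := by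
    intro a
    simp [Finset.sum_range_succ, f]
    ring
  simp only [hinner]
  set C : Bool → ℚ := fun po => n po false + (z + z ^ 2) * n po true with hC
  have hC0 : ∀ po, 0 ≤ C po := fun po => by
    have := hn0 po false
    have := hn0 po true
    positivity
  have hodd : ∑ a ∈ Finset.range N, x ^ a * C (decide (0 < a)) ≤ C false + x * (1 - x)⁻¹ * C true := by
    have hxN := geom_sum_le hx0 (by rw [hxv, ← lt_div_iff₀' (by norm_num), inv_lt_comm₀ (by positivity) (by norm_num)]; linarith) (N := N)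
    have hinv : 0 ≤ (1 - x)⁻¹ := le_trans (Finset.sum_nonneg fun i _ => pow_nonneg hx0 i) hxN
    cases N with
    | zero =>
      simp only [Finset.range_zero, Finset.sum_empty]
      have := hC0 false
      have := hC0 true
      positivity
    | succ M =>
      rw [Finset.sum_range_succ']
      simp only [pow_zero, one_mul, pow_succ', lt_irrefl, decide_false, Nat.succ_pos, decide_true]
      rw [← Finset.sum_mul, ← Finset.mul_sum, add_comm]
      refine add_le_add le_rfl (mul_le_mul_of_nonneg_right (mul_le_mul_of_nonneg_left ?_ hx0) (hC0 true))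
      refine le_trans ?_ hxN
      exact Finset.sum_le_sum_of_subset_of_nonneg (Finset.range_mono (Nat.le_succ M))
        (fun i _ _ => pow_nonneg hx0 i)
  have hoddnn : 0 ≤ ∑ a ∈ Finset.range N, x ^ a * C (decide (0 < a)) :=
    Finset.sum_nonneg fun a _ => mul_nonneg (pow_nonneg hx0 a) (hC0 _)
  have hy1 : y < 1 := by rw [hyv]; exact inv_lt_one_of_one_lt₀ (by linarith)
  have hH := geom_sum_le hy0 hy1 N
  calc _ ≤ (1 - y)⁻¹ * (C false + x * (1 - x)⁻¹ * C true) * (((4 ^ k - 1) * (4 ^ k - 2) : ℕ) : ℚ) := by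
        refine mul_le_mul_of_nonneg_right ?_ (Nat.cast_nonneg _)
        exact mul_le_mul hH hodd hoddnn (inv_nonneg.2 (by linarith))
    _ = _ := by
        rw [hC]
        simp only [← hz2]
        rw [hxv, hyv]
        unfold coef
        push_cast [Nat.cast_sub (by omega : 1 ≤ 4 ^ k), Nat.cast_sub (by omega : 2 ≤ 4 ^ k)]
        have h1 : (4 : ℚ) ^ k - 1 ≠ 0 := by linarith
        have h2 : (4 : ℚ) ^ k - 2 ≠ 0 := by linarith
        have h3 : (4 : ℚ) ^ k ≠ 0 := by linarith
        simp only [n]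
        field_simp
        ring

/-- Comparing tables along the transfer. -/
theorem codeSum_succ_le (ε : ℕ) (s₀ : Bool) (N K : ℕ) (σ' : Bool × Bool) :
    codeSum ε s₀ N (K + 1) σ' * (((4 ^ (K + 1) - 1) * (4 ^ (K + 1) - 2) : ℕ) : ℚ) ≤
      ∑ σ : Bool × Bool, codeSum ε s₀ N K σ * (coef ε (K + 1) σ σ' : ℚ) := by
  classical
  have hinj : Function.Injective fun a : Lev × List Lev => a.1 :: a.2 := fun a b h => by
    simp only [List.cons.injEq] at h
    exact Prod.ext h.1 h.2
  have e : codeSum ε s₀ N (K + 1) σ' = ∑ σ : Bool × Bool, ∑ l ∈ (box N K).filter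
      (fun l => Adm ε s₀ l ∧ st ε s₀ l = σ), (1 / 2 : ℚ) ^ lwt l *
      ∑ d ∈ (levs N).filter (fun d => (d.bit = true →
          slotB ε (K + 1) σ.1 (decide (0 < d.odd)) (decide (0 < d.vs)) = true ∧ σ.2 = true) ∧
        (decide (0 < d.vs), σ.2 || slotB ε (K + 1) σ.1 (decide (0 < d.odd)) (decide (0 < d.vs))) = σ'),
        (1 / 2 : ℚ) ^ d.wt (K + 1) := by
    unfold codeSum
    rw [Finset.sum_filter, box, Finset.sum_image fun _ _ _ _ h => hinj h, Finset.sum_product, Finset.sum_comm,
      ← Finset.sum_fiberwise (box N K) (st ε s₀)]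
    refine Finset.sum_congr rfl fun σ _ => ?_
    rw [Finset.sum_filter, Finset.sum_filter]
    refine Finset.sum_congr rfl fun l hl => ?_
    by_cases hσ : st ε s₀ l = σ
    · rw [if_pos hσ]
      by_cases hA : Adm ε s₀ l
      · rw [if_pos ⟨hA, hσ⟩, Finset.sum_filter, Finset.mul_sum]
        refine Finset.sum_congr rfl fun d hd => ?_
        have hv : d.vs ≤ 2 := by
          simp only [levs, Finset.mem_image, Finset.mem_product, Finset.mem_range] at hd
          obtain ⟨a, ha, rfl⟩ := hd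
          exact Nat.le_of_lt_succ ha.2.2.1
        simp only [Adm, st, length_of_mem_box hl, hσ, hA, hv, true_and, lwt, mul_ite, mul_zero, pow_add]
        split_ifs <;> ring
      · rw [if_neg fun h => hA h.1]
        simp [Adm, hA]
    · rw [if_neg hσ, if_neg fun h => hσ h.2]
  rw [e, Finset.sum_mul]
  refine Finset.sum_le_sum fun σ _ => ?_
  rw [Finset.sum_mul, codeSum, Finset.sum_mul]
  refine Finset.sum_le_sum fun l _ => ?_
  rw [mul_assoc]
  exact mul_le_mul_of_nonneg_left (sum_levs_le ε (K + 1) N (by omega) σ σ') (by positivity)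

/-- An entry of a table. -/
def ent (T : List (ℕ × ℕ × ℕ × ℕ)) (k : ℕ) : Bool × Bool → ℕ
  | (false, false) => (T.getD k (0, 0, 0, 0)).1
  | (false, true) => (T.getD k (0, 0, 0, 0)).2.1
  | (true, false) => (T.getD k (0, 0, 0, 0)).2.2.1
  | (true, true) => (T.getD k (0, 0, 0, 0)).2.2.2

/-- A table is closed under the transfer and small at level thirty. -/
def Closed (ε : ℕ) (s₀ : Bool) (num den : ℕ) (T : List (ℕ × ℕ × ℕ × ℕ)) : Prop :=
  (∀ σ : Bool × Bool, (if σ = (false, s₀) then 10 ^ 8 else 0) ≤ ent T 0 σ) ∧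
    (∀ k ∈ List.range 30, ∀ σ' : Bool × Bool, ∑ σ : Bool × Bool, ent T k σ * coef ε (k + 1) σ σ' ≤
      (4 ^ (k + 1) - 1) * (4 ^ (k + 1) - 2) * ent T (k + 1) σ') ∧
    den * (∑ σ : Bool × Bool, ent T 30 σ) * 2 ^ 30 ≤ num * 10 ^ 8 * (2 ^ 30 - 8)

/-- The table for the symplectic groups. -/
def tableSp : List (ℕ × ℕ × ℕ × ℕ) := [
  (0, 100000000, 0, 0),
  (0, 266666667, 0, 200000000),
  (0, 609523810, 0, 279365080),
  (0, 952101368, 0, 220964085),
  (0, 1194464929, 0, 142793362),
  (0, 1343524776, 0, 81828312),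
  (0, 1427054142, 0, 43971913),
  (0, 1471469680, 0, 22822316),
  (0, 1494405310, 0, 11630793),
  (0, 1506064740, 0, 5871751),
  (0, 1511943690, 0, 2950154),
  (0, 1514895649, 0, 1478671),
  (0, 1516374772, 0, 740237),
  (0, 1517115123, 0, 370345),
  (0, 1517485497, 0, 185229),
  (0, 1517670734, 0, 92629),
  (0, 1517763365, 0, 46318),
  (0, 1517809684, 0, 23160),
  (0, 1517832845, 0, 11581),
  (0, 1517844427, 0, 5791),
  (0, 1517850219, 0, 2896),
  (0, 1517853116, 0, 1448),
  (0, 1517854565, 0, 724),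
  (0, 1517855290, 0, 362),
  (0, 1517855653, 0, 181),
  (0, 1517855835, 0, 91),
  (0, 1517855927, 0, 46),
  (0, 1517855974, 0, 23),
  (0, 1517855998, 0, 12),
  (0, 1517856011, 0, 6),
  (0, 1517856018, 0, 3)]

/-- The table for the orthogonal groups. -/
def tableO : List (ℕ × ℕ × ℕ × ℕ) := [
  (100000000, 0, 0, 0),
  (133333334, 133333334, 0, 200000000),
  (142222223, 446984128, 0, 228571430),
  (144479719, 727725033, 0, 186508669),
  (145046307, 931940540, 0, 120033660),
  (145188093, 1057172860, 0, 68810559),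
  (145223548, 1127396105, 0, 36975902),
  (145232413, 1164740618, 0, 19191254),
  (145234630, 1184026050, 0, 9780318),
  (145235185, 1193830172, 0, 4937547),
  (145235324, 1198773703, 0, 2480780),
  (145235359, 1201255984, 0, 1243413),
  (145235368, 1202499773, 0, 622465),
  (145235371, 1203122332, 0, 311422),
  (145235372, 1203433778, 0, 155759),
  (145235373, 1203589543, 0, 77892),
  (145235374, 1203667437, 0, 38949),
  (145235375, 1203706387, 0, 19476),
  (145235376, 1203725864, 0, 9738),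
  (145235377, 1203735603, 0, 4869),
  (145235378, 1203740473, 0, 2435),
  (145235379, 1203742909, 0, 1218),
  (145235380, 1203744128, 0, 609),
  (145235381, 1203744738, 0, 305),
  (145235382, 1203745044, 0, 153),
  (145235383, 1203745198, 0, 77),
  (145235384, 1203745276, 0, 39),
  (145235385, 1203745316, 0, 20),
  (145235386, 1203745337, 0, 10),
  (145235387, 1203745348, 0, 5),
  (145235388, 1203745354, 0, 3)]

set_option maxHeartbeats 4000000 in
theorem closed_tableSp : Closed 1 true 76 5 tableSp := by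
  unfold Closed
  decide +kernel

set_option maxHeartbeats 4000000 in
theorem closed_tableO : Closed 0 false 15 1 tableO := by
  unfold Closed
  decide +kernel

theorem coef_total_le (ε : ℕ) (σ : Bool × Bool) {k : ℕ} (hk : 2 ≤ k) :
    2 ^ k * (∑ σ' : Bool × Bool, coef ε k σ σ') ≤ (2 ^ k + 8) * ((4 ^ k - 1) * (4 ^ k - 2)) := by
  have hn : ∀ po pv, ∑ σ' : Bool × Bool, nbit ε k σ σ' po pv =
      if slotB ε k σ.1 po pv && σ.2 then 2 else 1 := fun po pv => by
    simp [nbit, Finset.sum_ite_eq]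
  have h0 : slotB ε k σ.1 false false = false := rfl
  have hle : ∀ po pv, ∑ σ' : Bool × Bool, nbit ε k σ σ' po pv ≤ 2 := fun po pv => by
    rw [hn]; split_ifs <;> omega
  simp only [coef, Finset.sum_add_distrib, ← Finset.mul_sum]
  rw [hn false false, h0]
  simp only [Bool.false_and, Bool.false_eq_true, if_false, mul_one]
  obtain ⟨P, hP, hP2⟩ : ∃ P, 2 ^ k = P ∧ 4 ≤ P := ⟨_, rfl, by
    calc 4 = 2 ^ 2 := (by norm_num)
      _ ≤ 2 ^ k := Nat.pow_le_pow_right (by norm_num) hk⟩
  have h4 : 4 ^ k = P * P := by rw [← hP, ← mul_pow]; norm_num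
  obtain ⟨a, ha⟩ : ∃ a, P * P = a + 2 := ⟨P * P - 2, by have := Nat.mul_le_mul hP2 hP2; omega⟩
  rw [hP, h4, ha, Nat.add_sub_cancel, show a + 2 - 1 = a + 1 by omega]
  have e1 := Nat.mul_le_mul_left (2 * (a + 2)) (hle true false)
  have e2 := Nat.mul_le_mul_left ((P + 1) * a) (hle false true)
  have e3 := Nat.mul_le_mul_left (2 * (P + 1)) (hle true true)
  calc _ ≤ P * ((a + 2) * a + 2 * (a + 2) * 2 + (P + 1) * a * 2 + 2 * (P + 1) * 2) := by gcongr
    _ ≤ _ := by
      have hx : 14 ≤ a := by nlinarith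
      have h3 : 3 * P ≤ a := by nlinarith
      nlinarith [Nat.mul_le_mul_right a h3, Nat.mul_le_mul_left P hx, Nat.mul_le_mul hx hx]

/-- The sum over all codes is bounded. -/
theorem codeSum_total_le {ε : ℕ} {s₀ : Bool} {num den : ℕ} {T : List (ℕ × ℕ × ℕ × ℕ)}
    (hT : Closed ε s₀ num den T) (hden : 0 < den) {N : ℕ} (hN : 0 < N) (K : ℕ) :
    ∑ σ : Bool × Bool, codeSum ε s₀ N K σ ≤ (num : ℚ) / den := by
  obtain ⟨h0, hs, he⟩ := hT
  have hbase : ∀ k ≤ 30, ∀ σ, codeSum ε s₀ N k σ * 10 ^ 8 ≤ (ent T k σ : ℚ) := by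
    intro k
    induction k with
    | zero =>
      intro _ σ
      have := h0 σ
      have hbox : codeSum ε s₀ N 0 σ = if σ = (false, s₀) then 1 else 0 := by
        simp [codeSum, box, Finset.sum_filter, Adm, st, lwt, eq_comm]
      rw [hbox]
      split_ifs at this ⊢
      · have h' := (Nat.cast_le (α := ℚ)).2 this
        norm_num at h' ⊢
        exact h'
      · simp
    | succ k ih =>
      intro hk σ'
      have hD : (0 : ℚ) < (((4 ^ (k + 1) - 1) * (4 ^ (k + 1) - 2) : ℕ) : ℚ) := by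
        have : (4 : ℕ) ≤ 4 ^ (k + 1) := by
          calc (4 : ℕ) = 4 ^ 1 := (pow_one 4).symm
            _ ≤ _ := Nat.pow_le_pow_right (by norm_num) (by omega)
        exact Nat.cast_pos.2 (Nat.mul_pos (by omega) (by omega))
      refine le_of_mul_le_mul_right ?_ hD
      calc _ = codeSum ε s₀ N (k + 1) σ' * (((4 ^ (k + 1) - 1) * (4 ^ (k + 1) - 2) : ℕ) : ℚ) * 10 ^ 8 := by ring
        _ ≤ (∑ σ : Bool × Bool, codeSum ε s₀ N k σ * (coef ε (k + 1) σ σ' : ℚ)) * 10 ^ 8 :=
          mul_le_mul_of_nonneg_right (codeSum_succ_le ε s₀ N k σ') (by norm_num)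
        _ = ∑ σ : Bool × Bool, codeSum ε s₀ N k σ * 10 ^ 8 * (coef ε (k + 1) σ σ' : ℚ) := by
          rw [Finset.sum_mul]; exact Finset.sum_congr rfl fun σ _ => by ring
        _ ≤ ∑ σ : Bool × Bool, (ent T k σ : ℚ) * (coef ε (k + 1) σ σ' : ℚ) :=
          Finset.sum_le_sum fun σ _ => mul_le_mul_of_nonneg_right (ih (by omega) σ) (Nat.cast_nonneg _)
        _ ≤ _ := by
          have h := (Nat.cast_le (α := ℚ)).2 (hs k (List.mem_range.2 (by omega)) σ')
          rw [Nat.cast_sum] at h
          simp only [Nat.cast_mul] at h ⊢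
          linarith
  have hnn : ∀ K σ, 0 ≤ codeSum ε s₀ N K σ := fun K σ => Finset.sum_nonneg fun l _ => by positivity
  have hsmall : ∀ K, ∑ σ : Bool × Bool, codeSum ε s₀ N (K + 30) σ ≤
      (num : ℚ) / den * (1 - 8 / 2 ^ (K + 30)) := by
    intro K
    induction K with
    | zero =>
      rw [zero_add]
      have h1 := Finset.sum_le_sum fun σ (_ : σ ∈ (Finset.univ : Finset (Bool × Bool))) => hbase 30 le_rfl σ
      rw [← Finset.sum_mul] at h1
      have h2 := (Nat.cast_le (α := ℚ)).2 he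
      rw [Nat.cast_mul, Nat.cast_mul, Nat.cast_mul, Nat.cast_mul, Nat.cast_sum, Nat.cast_pow, Nat.cast_pow,
        Nat.cast_sub (by norm_num : 8 ≤ 2 ^ 30), Nat.cast_pow] at h2
      norm_num at h2
      have hdq : (0 : ℚ) < den := Nat.cast_pos.2 hden
      rw [div_mul_eq_mul_div, le_div_iff₀ hdq]
      norm_num at h1 h2 ⊢
      nlinarith
    | succ K ih =>
      have hk : 1 ≤ K + 30 + 1 := by omega
      rw [show K + 1 + 30 = K + 30 + 1 by omega]
      set k := K + 30 + 1
      have hD : (0 : ℚ) < (((4 ^ k - 1) * (4 ^ k - 2) : ℕ) : ℚ) := by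
        have : (4 : ℕ) ≤ 4 ^ k := by
          calc (4 : ℕ) = 4 ^ 1 := (pow_one 4).symm
            _ ≤ _ := Nat.pow_le_pow_right (by norm_num) hk
        exact Nat.cast_pos.2 (Nat.mul_pos (by omega) (by omega))
      have hE : 0 ≤ ∑ σ : Bool × Bool, codeSum ε s₀ N (K + 30) σ := Finset.sum_nonneg fun σ _ => hnn _ σ
      have step : (∑ σ : Bool × Bool, codeSum ε s₀ N k σ) * 2 ^ k ≤
          (∑ σ : Bool × Bool, codeSum ε s₀ N (K + 30) σ) * (2 ^ k + 8) := by
        refine le_of_mul_le_mul_right ?_ hD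
        calc _ = (2 : ℚ) ^ k * ∑ σ' : Bool × Bool,
              codeSum ε s₀ N k σ' * (((4 ^ k - 1) * (4 ^ k - 2) : ℕ) : ℚ) := by rw [← Finset.sum_mul]; ring
          _ ≤ (2 : ℚ) ^ k * ∑ σ' : Bool × Bool, ∑ σ : Bool × Bool,
              codeSum ε s₀ N (K + 30) σ * (coef ε k σ σ' : ℚ) :=
            mul_le_mul_of_nonneg_left (Finset.sum_le_sum fun σ' _ => codeSum_succ_le ε s₀ N (K + 30) σ')
              (by positivity)
          _ = ∑ σ : Bool × Bool, codeSum ε s₀ N (K + 30) σ *
              ((2 : ℚ) ^ k * ∑ σ' : Bool × Bool, (coef ε k σ σ' : ℚ)) := by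
            rw [Finset.sum_comm, Finset.mul_sum]
            refine Finset.sum_congr rfl fun σ _ => ?_
            rw [← Finset.mul_sum]; ring
          _ ≤ ∑ σ : Bool × Bool, codeSum ε s₀ N (K + 30) σ *
              ((2 ^ k + 8) * (((4 ^ k - 1) * (4 ^ k - 2) : ℕ) : ℚ)) :=
            Finset.sum_le_sum fun σ _ => mul_le_mul_of_nonneg_left
              (by exact_mod_cast coef_total_le ε σ (by omega)) (hnn _ σ)
          _ = _ := by rw [← Finset.sum_mul]; ring
      have hP : (0 : ℚ) < 2 ^ k := by positivity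
      have h8 : (8 : ℚ) / 2 ^ (K + 30) = 16 / 2 ^ k := by
        rw [show k = K + 30 + 1 from rfl, pow_succ]
        field_simp
        ring
      rw [h8] at ih
      clear_value k
      generalize (∑ σ : Bool × Bool, codeSum ε s₀ N (K + 30) σ) = E at step ih hE
      generalize (∑ σ : Bool × Bool, codeSum ε s₀ N k σ) = E' at step ⊢
      generalize (2 : ℚ) ^ k = P at *
      have hB : (0 : ℚ) ≤ (num : ℚ) / den := by positivity
      refine le_of_mul_le_mul_right ?_ hP
      calc _ ≤ E * (P + 8) := step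
        _ ≤ (num : ℚ) / den * (1 - 16 / P) * (P + 8) := mul_le_mul_of_nonneg_right ih (by positivity)
        _ ≤ _ := by
          rw [mul_assoc, mul_assoc]
          refine mul_le_mul_of_nonneg_left ?_ hB
          have : (0 : ℚ) < 16 / P := by positivity
          have e : (16 : ℚ) / P * P = 16 := div_mul_cancel₀ _ hP.ne'
          have e' : (8 : ℚ) / P * P = 8 := div_mul_cancel₀ _ hP.ne'
          nlinarith
  have hle : ∀ K, ∑ σ : Bool × Bool, codeSum ε s₀ N (K + 30) σ ≤ (num : ℚ) / den := fun K =>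
    (hsmall K).trans (mul_le_of_le_one_right (by positivity) (by
      have : (0 : ℚ) < 8 / 2 ^ (K + 30) := by positivity
      linarith))
  obtain ⟨j, hj⟩ : ∃ j, max K 30 = j + 30 := ⟨max K 30 - 30, by omega⟩
  have hmono : ∀ i, ∑ σ : Bool × Bool, codeSum ε s₀ N K σ ≤ ∑ σ : Bool × Bool, codeSum ε s₀ N (K + i) σ := by
    intro i
    induction i with
    | zero => exact le_rfl
    | succ i ih =>
      refine ih.trans ?_
      classical
      simp only [codeSum, ← Finset.filter_filter]
      rw [Finset.sum_fiberwise, Finset.sum_fiberwise]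
      refine le_of_eq_of_le ?_ (Finset.sum_le_sum_of_subset_of_nonneg
        (s := ((box N (K + i)).filter (Adm ε s₀)).image fun l => (⟨0, 0, 0, false⟩ : Lev) :: l) ?_
        fun l _ _ => by positivity)
      · rw [Finset.sum_image fun a _ b _ h => (List.cons.inj h).2]
        exact Finset.sum_congr rfl fun l _ => by simp [lwt, Lev.wt]
      · intro l hl
        simp only [Finset.mem_image, Finset.mem_filter] at hl
        obtain ⟨l', ⟨hl', hA⟩, rfl⟩ := hl
        simp only [Finset.mem_filter, ← add_assoc, box, Finset.mem_image, Finset.mem_product]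
        exact ⟨⟨(_, l'), ⟨by simp [levs, hN], hl'⟩, rfl⟩, hA, by simp, by simp⟩
  have h := hmono (j + 30 - K)
  rw [show K + (j + 30 - K) = j + 30 by omega] at h
  exact h.trans (hle j)

end CfsgLib.ClassNumber.CharTwo
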