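import Cfsg.Agent.Lib.ClassCount.CharTwo.UnipPieces
import Cfsg.Agent.Lib.ClassCount.CharTwo.UnipCount

/-!
# The codes of valid multisets of pieces

A valid multiset of pieces is determined by its level data. Forgetting the bit of the first slot identifies two
multisets only if they differ in one pair `ani k`, `hyp (2 k + 1)` or `vee k true`, `vee k false`.
-/

set_option autoImplicit false

namespace CfsgLib.ClassNumber.CharTwo

namespace Piece

/-- The level of a piece. -/
def lvl : Piece → ℕ
  | hyp m => (m + 1) / 2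
  | ani k => k + 1
  | vee k _ => k

theorem lvl_le_wt (p : Piece) : p.lvl ≤ p.wt := by
  cases p <;> simp only [lvl, wt] <;> omega

end Piece

/-- The data of a multiset of pieces at a level. -/
def lev (M : Multiset Piece) (k : ℕ) : Lev where
  odd := M.count (.hyp (2 * k - 1)) + M.count (.ani (k - 1))
  even := M.count (.hyp (2 * k))
  vs := M.count (.vee k true) + M.count (.vee k false)
  bit := decide (Piece.ani (k - 1) ∈ M ∨ Piece.vee k true ∈ M)

/-- The level data from the top down. -/
def enc (M : Multiset Piece) : ℕ → List Lev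
  | 0 => []
  | K + 1 => lev M (K + 1) :: enc M K

theorem length_enc (M : Multiset Piece) : ∀ K, (enc M K).length = K
  | 0 => rfl
  | K + 1 => by rw [enc, List.length_cons, length_enc M K]

theorem lev_wt_cons {ε : ℕ} {p : Piece} (hp : p.ok ε) (M : Multiset Piece) {k : ℕ} (hk : 1 ≤ k) :
    (lev (p ::ₘ M) k).wt k = (lev M k).wt k + if p.lvl = k then p.wt else 0 := by
  cases p with
  | hyp m =>
    have hm : 1 ≤ m := hp
    show _ = _ + if (m + 1) / 2 = k then m else 0
    simp only [lev, Lev.wt, Multiset.count_cons, Piece.hyp.injEq, reduceCtorEq, if_false, add_zero]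
    by_cases h1 : 2 * k - 1 = m
    · rw [if_pos h1, if_neg (by omega), if_pos (by omega), ← h1]
      ring
    · by_cases h2 : 2 * k = m
      · rw [if_neg h1, if_pos h2, if_pos (by omega), ← h2]
        ring
      · rw [if_neg h1, if_neg h2, if_neg (by omega)]
        ring
  | ani j =>
    show _ = _ + if j + 1 = k then 2 * j + 1 else 0
    simp only [lev, Lev.wt, Multiset.count_cons, Piece.ani.injEq, reduceCtorEq, if_false, add_zero]
    by_cases h1 : k - 1 = j
    · rw [if_pos h1, if_pos (by omega), show 2 * j + 1 = 2 * k - 1 by omega]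
      ring
    · rw [if_neg h1, if_neg (by omega)]
      ring
  | vee j δ =>
    simp only [lev, Lev.wt, Multiset.count_cons, Piece.vee.injEq, reduceCtorEq, if_false, add_zero, Piece.lvl,
      Piece.wt]
    by_cases h1 : k = j
    · subst h1
      cases δ <;> simp <;> ring
    · simp [h1, Ne.symm h1]

theorem lwt_enc {ε : ℕ} (K : ℕ) : ∀ M : Multiset Piece, (∀ p ∈ M, p.ok ε) →
    lwt (enc M K) = ((M.filter fun p => p.lvl ≤ K).map Piece.wt).sum := by
  intro M
  induction M using Multiset.induction with
  | empty =>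
    intro _
    induction K with
    | zero => rfl
    | succ K ih => simp_all [enc, lwt, lev, Lev.wt]
  | cons p M ih =>
    intro h
    have hp := h p (Multiset.mem_cons_self _ _)
    have h0 : 1 ≤ p.lvl := by
      cases p <;> simp only [Piece.ok] at hp <;> simp only [Piece.lvl] <;> omega
    have key : ∀ J, lwt (enc (p ::ₘ M) J) = lwt (enc M J) + if p.lvl ≤ J then p.wt else 0 := by
      intro J
      induction J with
      | zero => simp [enc, lwt, show ¬ p.lvl ≤ 0 by omega]
      | succ J ihJ =>
        simp only [enc, lwt, length_enc, lev_wt_cons hp M (Nat.le_add_left 1 J), ihJ]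
        split_ifs <;> omega
    rw [key, ih fun q hq => h q (Multiset.mem_cons_of_mem hq), Multiset.filter_cons]
    split_ifs <;> simp [add_comm]

theorem lwt_enc_eq {ε : ℕ} {M : Multiset Piece} (h : ∀ p ∈ M, p.ok ε) {K : ℕ} (hK : (M.map Piece.wt).sum ≤ K) :
    lwt (enc M K) = (M.map Piece.wt).sum := by
  rw [lwt_enc K M h, Multiset.filter_eq_self.2 fun p hp => ?_]
  exact (Piece.lvl_le_wt p).trans ((Multiset.le_sum_of_mem (Multiset.mem_map_of_mem _ hp)).trans hK)

variable {ε : ℕ}

theorem st_one (s₀ s₁ : Bool) : ∀ l : List Lev, (st ε s₀ l).1 = (st ε s₁ l).1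
  | [] => rfl
  | _ :: _ => rfl

theorem adm_enc {M : Multiset Piece} (hM : Valid ε M) : ∀ K, Adm ε true (enc M K)
  | 0 => trivial
  | K + 1 => by
    have hseen : ∀ l : List Lev, (st ε true l).2 = true := by
      intro l
      induction l with
      | nil => rfl
      | cons d l ih => simp [st, ih]
    refine ⟨adm_enc hM K, hM.vee_le _, fun hb => ⟨?_, hseen _⟩⟩
    have hprev : (st ε true (enc M K)).1 = decide (0 < K ∧ 0 < (lev M K).vs) := by
      cases K <;> simp [enc, st]
    simp only [lev, Nat.add_sub_cancel, decide_eq_true_eq] at hb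
    rw [length_enc, slotB, hprev]
    rcases hb with hb | hb
    · have h1 := Multiset.count_eq_zero.2 (hM.ani_vee K true hb)
      have h2 := Multiset.count_eq_zero.2 (hM.ani_vee K false hb)
      have h3 : ε ≤ K := hM.ok _ hb
      have h4 := Multiset.count_pos.2 hb
      simp [lev, h1, h2, h4, show ε < K + 1 by omega]
    · have h1 := Multiset.count_eq_zero.2 (hM.true_vee K true hb)
      have h2 := Multiset.count_eq_zero.2 (hM.true_vee K false hb)
      have h3 : ε + 1 ≤ K + 1 := (hM.ok _ hb).2 rfl
      have h4 := Multiset.count_pos.2 hb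
      simp [lev, h1, h2, h4, show ε < K + 1 by omega]

/-- The count of a piece read from the data of its level. -/
def cntOf (d : Lev) : Piece → ℕ
  | .hyp m => if m = 0 then 0 else if m % 2 = 0 then d.even else
      d.odd - if d.bit && decide (0 < d.odd) then 1 else 0
  | .ani _ => if d.bit && decide (0 < d.odd) then 1 else 0
  | .vee k δ => if k = 0 then 0 else
      if δ then (if d.bit && decide (d.odd = 0) then 1 else 0)
      else d.vs - if d.bit && decide (d.odd = 0) then 1 else 0

theorem count_eq_cntOf {M : Multiset Piece} (hM : Valid ε M) (p : Piece) :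
    M.count p = cntOf (lev M p.lvl) p := by
  have hA : ∀ k, (if (lev M k).bit && decide (0 < (lev M k).odd) then 1 else 0) = M.count (.ani (k - 1)) ∨ k = 0 := by
    intro k
    rcases Nat.eq_zero_or_pos k with hk | hk
    · exact Or.inr hk
    refine Or.inl ?_
    by_cases ha : Piece.ani (k - 1) ∈ M
    · have h1 := Multiset.count_pos.2 ha
      have h2 := hM.ani_le (k - 1)
      simp [lev, ha]
      split_ifs <;> omega
    · rw [Multiset.count_eq_zero.2 ha]
      by_cases hT : Piece.vee k true ∈ M
      · have h1 := hM.true_hyp (k - 1) (by rwa [Nat.sub_add_cancel hk])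
        rw [show 2 * (k - 1) + 1 = 2 * k - 1 by omega] at h1
        simp [lev, Multiset.count_eq_zero.2 h1, Multiset.count_eq_zero.2 ha]
      · simp [lev, ha, hT]
  have hT : ∀ k, 1 ≤ k → (if (lev M k).bit && decide ((lev M k).odd = 0) then 1 else 0) = M.count (.vee k true) := by
    intro k hk
    by_cases ht : Piece.vee k true ∈ M
    · have h1 := hM.true_hyp (k - 1) (by rwa [Nat.sub_add_cancel hk])
      have h2 := hM.true_ani (k - 1) (by rwa [Nat.sub_add_cancel hk])
      rw [show 2 * (k - 1) + 1 = 2 * k - 1 by omega] at h1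
      have h3 := Multiset.count_pos.2 ht
      have h4 := hM.true_le k
      simp [lev, ht, Multiset.count_eq_zero.2 h1, Multiset.count_eq_zero.2 h2]
      omega
    · rw [Multiset.count_eq_zero.2 ht]
      by_cases ha : Piece.ani (k - 1) ∈ M
      · have h1 := Multiset.count_pos.2 ha
        simp [lev, ha]
      · simp [lev, ha, ht]
  cases p with
  | hyp m =>
    rcases Nat.eq_zero_or_pos m with rfl | hm
    · exact (Multiset.count_eq_zero.2 fun h => by have : 1 ≤ 0 := hM.ok _ h; omega).trans (by simp [cntOf])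
    · show _ = cntOf (lev M ((m + 1) / 2)) _
      simp only [cntOf, if_neg (Nat.ne_of_gt hm)]
      by_cases he : m % 2 = 0
      · simp only [he, if_true, lev, show 2 * ((m + 1) / 2) = m by omega]
      · rw [if_neg he, (hA ((m + 1) / 2)).resolve_right (by omega)]
        simp only [lev, show 2 * ((m + 1) / 2) - 1 = m by omega]
        omega
  | ani k =>
    show _ = cntOf (lev M (k + 1)) _
    simp only [cntOf]
    rw [(hA (k + 1)).resolve_right (by omega), Nat.add_sub_cancel]
  | vee k δ =>
    rcases Nat.eq_zero_or_pos k with rfl | hk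
    · exact (Multiset.count_eq_zero.2 fun h => by have : 1 ≤ 0 := (hM.ok _ h).1; omega).trans (by simp [cntOf])
    · show _ = cntOf (lev M k) _
      simp only [cntOf, if_neg (Nat.ne_of_gt hk)]
      rw [hT k hk]
      cases δ
      · simp only [Bool.false_eq_true, if_false, lev]
        omega
      · simp

/-- Forgetting the bit of the first slot. -/
def canon (ε : ℕ) : List Lev → List Lev
  | [] => []
  | d :: l => (if (st ε false l).2 then d else { d with bit := false }) :: canon ε l

theorem length_canon : ∀ l : List Lev, (canon ε l).length = l.length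
  | [] => rfl
  | d :: l => by simp [canon, length_canon l]

theorem lwt_canon : ∀ l : List Lev, lwt (canon ε l) = lwt l
  | [] => rfl
  | d :: l => by
    simp only [canon, lwt, length_canon, lwt_canon l]
    split_ifs <;> rfl

theorem st_canon (s₀ : Bool) : ∀ l : List Lev, st ε s₀ (canon ε l) = st ε s₀ l
  | [] => rfl
  | d :: l => by
    simp only [canon, st, length_canon, st_canon s₀ l]
    split_ifs <;> rfl

theorem adm_canon : ∀ {l : List Lev}, Adm ε true l → Adm ε false (canon ε l)
  | [], _ => trivial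
  | d :: l, h => by
    obtain ⟨h1, h2, h3⟩ := h
    by_cases hs : (st ε false l).2
    · simp only [canon, hs, if_true]
      refine ⟨adm_canon h1, h2, fun hb => ?_⟩
      rw [length_canon, st_canon, st_one false true l]
      exact ⟨(h3 hb).1, hs⟩
    · simp only [canon, hs, if_false, Bool.false_eq_true]
      exact ⟨adm_canon h1, h2, fun hb => Bool.noConfusion hb⟩

theorem bit_false_of_unseen {M : Multiset Piece} (hM : Valid ε M) :
    ∀ {K : ℕ}, (st ε false (enc M K)).2 = false → ∀ j, 1 ≤ j → j ≤ K → (lev M j).bit = false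
  | 0, _, j, h1, h2 => by omega
  | K + 1, h, j, h1, h2 => by
    simp only [enc, st, Bool.or_eq_false_iff, length_enc] at h
    rcases eq_or_lt_of_le h2 with rfl | hlt
    · by_contra hb
      have h3 := ((adm_enc hM (K + 1)).2.2 (by simpa using hb)).1
      rw [length_enc, st_one true false] at h3
      rw [h3] at h
      exact Bool.noConfusion h.2
    · exact bit_false_of_unseen hM h.1 j h1 (by omega)

theorem lev_ext {d d' : Lev} (h : { d with bit := false } = { d' with bit := false }) (hb : d.bit = d'.bit) :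
    d = d' := by
  cases d
  cases d'
  simp_all

/-- Equal forgetful codes: all levels equal, or exactly one bit differs. -/
theorem lev_of_canon {M M' : Multiset Piece} (hM : Valid ε M) (hM' : Valid ε M') :
    ∀ {K : ℕ}, canon ε (enc M K) = canon ε (enc M' K) →
      st ε false (enc M K) = st ε false (enc M' K) ∧
      ((∀ j, 1 ≤ j → j ≤ K → lev M j = lev M' j) ∨ ∃ k, 1 ≤ k ∧ k ≤ K ∧ (lev M k).bit ≠ (lev M' k).bit ∧
        { lev M k with bit := false } = { lev M' k with bit := false } ∧
        ∀ j, 1 ≤ j → j ≤ K → j ≠ k → lev M j = lev M' j) := by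
  intro K
  induction K with
  | zero => exact fun _ => ⟨rfl, Or.inl fun j h1 h2 => by omega⟩
  | succ K ih =>
    intro h
    simp only [enc, canon, List.cons.injEq] at h
    obtain ⟨hst, hcase⟩ := ih h.2
    have hf : { lev M (K + 1) with bit := false } = { lev M' (K + 1) with bit := false } := by
      have h1 := h.1
      rw [← hst] at h1
      split_ifs at h1 with hs
      · rw [h1]
      · exact h1
    have hst' : st ε false (enc M (K + 1)) = st ε false (enc M' (K + 1)) := by
      have e1 := congrArg Lev.odd hf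
      have e2 := congrArg Lev.vs hf
      simp only at e1 e2
      simp only [enc, st, length_enc, hst, e1, e2]
    refine ⟨hst', ?_⟩
    by_cases hs : (st ε false (enc M K)).2 = true
    · have h1 := h.1
      rw [← hst, if_pos hs, if_pos hs] at h1
      rcases hcase with hall | ⟨k, hk1, hk2, hk3, hk4, hk5⟩
      · refine Or.inl fun j h2 h3 => ?_
        rcases eq_or_lt_of_le h3 with rfl | hlt
        · exact h1
        · exact hall j h2 (by omega)
      · refine Or.inr ⟨k, hk1, by omega, hk3, hk4, fun j h2 h3 h4 => ?_⟩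
        rcases eq_or_lt_of_le h3 with rfl | hlt
        · exact h1
        · exact hk5 j h2 (by omega) h4
    · have hb := bit_false_of_unseen hM (Bool.not_eq_true _ ▸ hs)
      have hb' := bit_false_of_unseen hM' (by rw [← hst]; exact Bool.not_eq_true _ ▸ hs)
      have hall : ∀ j, 1 ≤ j → j ≤ K → lev M j = lev M' j := by
        rcases hcase with hall | ⟨k, hk1, hk2, hk3, -⟩
        · exact hall
        · exact (hk3 ((hb k hk1 hk2).trans (hb' k hk1 hk2).symm)).elim
      by_cases hbit : (lev M (K + 1)).bit = (lev M' (K + 1)).bit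
      · refine Or.inl fun j h2 h3 => ?_
        rcases eq_or_lt_of_le h3 with rfl | hlt
        · exact lev_ext hf hbit
        · exact hall j h2 (by omega)
      · exact Or.inr ⟨K + 1, by omega, le_rfl, hbit, hf, fun j h2 h3 h4 => hall j h2 (by omega)⟩

theorem lev_eq_of_enc {M M' : Multiset Piece} : ∀ {K : ℕ}, enc M K = enc M' K →
    ∀ j, 1 ≤ j → j ≤ K → lev M j = lev M' j
  | 0, _, j, h1, h2 => by omega
  | K + 1, h, j, h1, h2 => by
    simp only [enc, List.cons.injEq] at h
    rcases eq_or_lt_of_le h2 with rfl | hlt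
    · exact h.1
    · exact lev_eq_of_enc h.2 j h1 (by omega)

theorem count_eq_zero_of_lvl {M : Multiset Piece} {K : ℕ} (hK : (M.map Piece.wt).sum ≤ K) {p : Piece}
    (hp : K < p.lvl) : M.count p = 0 :=
  Multiset.count_eq_zero.2 fun h => absurd ((p.lvl_le_wt).trans
    ((Multiset.le_sum_of_mem (Multiset.mem_map_of_mem _ h)).trans hK)) (by omega)

theorem count_congr {M M' : Multiset Piece} (hM : Valid ε M) (hM' : Valid ε M') {K : ℕ}
    (hK : (M.map Piece.wt).sum ≤ K) (hK' : (M'.map Piece.wt).sum ≤ K) (p : Piece)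
    (h : 1 ≤ p.lvl → p.lvl ≤ K → lev M p.lvl = lev M' p.lvl) : M.count p = M'.count p := by
  rcases Nat.lt_or_ge K p.lvl with hlt | hge
  · rw [count_eq_zero_of_lvl hK hlt, count_eq_zero_of_lvl hK' hlt]
  rcases Nat.eq_zero_or_pos p.lvl with h0 | h0
  · rw [count_eq_cntOf hM, count_eq_cntOf hM']
    cases p with
    | hyp m => simp only [Piece.lvl] at h0; simp [cntOf, show m = 0 by omega]
    | ani k => simp only [Piece.lvl] at h0; omega
    | vee k δ => simp only [Piece.lvl] at h0; simp [cntOf, h0]
  · rw [count_eq_cntOf hM, count_eq_cntOf hM', h h0 hge]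

/-- Codes determine valid multisets. -/
theorem enc_inj {M M' : Multiset Piece} (hM : Valid ε M) (hM' : Valid ε M') {K : ℕ}
    (hK : (M.map Piece.wt).sum ≤ K) (hK' : (M'.map Piece.wt).sum ≤ K) (h : enc M K = enc M' K) : M = M' :=
  Multiset.ext.2 fun p => count_congr hM hM' hK hK' p fun h1 h2 => lev_eq_of_enc h _ h1 h2

/-- Two multisets differing in one slot. -/
def Swap (M M' : Multiset Piece) : Prop :=
  ∃ R k, (M = Piece.ani k ::ₘ R ∧ M' = Piece.hyp (2 * k + 1) ::ₘ R) ∨
    (M = Piece.vee (k + 1) true ::ₘ R ∧ M' = Piece.vee (k + 1) false ::ₘ R)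

theorem swap_of_bit {M M' : Multiset Piece} (hM : Valid ε M) (hM' : Valid ε M') {K k : ℕ}
    (hK : (M.map Piece.wt).sum ≤ K) (hK' : (M'.map Piece.wt).sum ≤ K) (hb : (lev M k).bit = true)
    (hb' : (lev M' k).bit = false) (hf : { lev M k with bit := false } = { lev M' k with bit := false })
    (hoff : ∀ j, 1 ≤ j → j ≤ K → j ≠ k → lev M j = lev M' j) (hk : 1 ≤ k) : Swap M M' := by
  obtain ⟨i, rfl⟩ : ∃ i, k = i + 1 := ⟨k - 1, by omega⟩
  have e1 : (lev M (i + 1)).odd = (lev M' (i + 1)).odd := by have := congrArg Lev.odd hf; exact this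
  have e2 : (lev M (i + 1)).vs = (lev M' (i + 1)).vs := by have := congrArg Lev.vs hf; exact this
  have e3 : (lev M (i + 1)).even = (lev M' (i + 1)).even := by have := congrArg Lev.even hf; exact this
  have hsame : ∀ p : Piece, p.lvl ≠ i + 1 → M.count p = M'.count p := fun p hp =>
    count_congr hM hM' hK hK' p fun h1 h2 => hoff _ h1 h2 hp
  by_cases ho : 0 < (lev M (i + 1)).odd
  · have ha : Piece.ani i ∈ M := by
      rw [← Multiset.count_pos, count_eq_cntOf hM]
      simp [cntOf, Piece.lvl, hb, ho]
    refine ⟨M.erase (.ani i), i, Or.inl ⟨(Multiset.cons_erase ha).symm, Multiset.ext.2 fun p => ?_⟩⟩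
    rw [Multiset.count_cons]
    by_cases hp : p.lvl = i + 1
    · cases p with
      | hyp m =>
        rw [Multiset.count_erase_of_ne (by simp), count_eq_cntOf hM', count_eq_cntOf hM, hp]
        simp only [Piece.lvl] at hp
        simp only [cntOf, hb, hb', ho, Piece.hyp.injEq, Bool.true_and, Bool.false_and, decide_true]
        split_ifs <;> simp_all <;> omega
      | ani j =>
        obtain rfl : j = i := by simpa [Piece.lvl] using hp
        rw [Multiset.count_erase_self, count_eq_cntOf hM', count_eq_cntOf hM]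
        simp [cntOf, Piece.lvl, hb, hb', ho]
      | vee j δ =>
        rw [Multiset.count_erase_of_ne (by simp), count_eq_cntOf hM', count_eq_cntOf hM, hp]
        have hno : (lev M (i + 1)).odd ≠ 0 := Nat.ne_of_gt ho
        simp [cntOf, hb, hb', hno, e2]
    · have hp1 : p ≠ Piece.hyp (2 * i + 1) := fun e => hp (by rw [e]; simp only [Piece.lvl]; omega)
      have hp2 : p ≠ Piece.ani i := fun e => hp (by rw [e]; rfl)
      rw [if_neg hp1, add_zero, Multiset.count_erase_of_ne hp2]
      exact (hsame p hp).symm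
  · have ho0 : (lev M (i + 1)).odd = 0 := by omega
    have ha : Piece.vee (i + 1) true ∈ M := by
      rw [← Multiset.count_pos, count_eq_cntOf hM]
      simp [cntOf, Piece.lvl, hb, ho0]
    refine ⟨M.erase (.vee (i + 1) true), i,
      Or.inr ⟨(Multiset.cons_erase ha).symm, Multiset.ext.2 fun p => ?_⟩⟩
    rw [Multiset.count_cons]
    by_cases hp : p.lvl = i + 1
    · cases p with
      | hyp m =>
        rw [Multiset.count_erase_of_ne (by simp), count_eq_cntOf hM', count_eq_cntOf hM, hp]
        simp [cntOf, hb, hb', ho0, ← e1, e3]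
      | ani j =>
        rw [Multiset.count_erase_of_ne (by simp), count_eq_cntOf hM', count_eq_cntOf hM, hp]
        simp [cntOf, hb, hb', ho0]
      | vee j δ =>
        obtain rfl : j = i + 1 := hp
        have hvs : 0 < (lev M (i + 1)).vs := by
          have := Multiset.count_pos.2 ha
          simp only [lev]
          omega
        cases δ
        · rw [Multiset.count_erase_of_ne (by simp), count_eq_cntOf hM', count_eq_cntOf hM]
          simp [cntOf, Piece.lvl, hb, hb', ho0, ← e2]
          omega
        · rw [Multiset.count_erase_self, count_eq_cntOf hM', count_eq_cntOf hM]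
          simp [cntOf, Piece.lvl, hb, hb', ho0]
    · have hp1 : p ≠ Piece.vee (i + 1) false := fun e => hp (by rw [e]; rfl)
      have hp2 : p ≠ Piece.vee (i + 1) true := fun e => hp (by rw [e]; rfl)
      rw [if_neg hp1, add_zero, Multiset.count_erase_of_ne hp2]
      exact (hsame p hp).symm

/-- Equal forgetful codes come from equal multisets or from a swap. -/
theorem canon_enc_inj {M M' : Multiset Piece} (hM : Valid ε M) (hM' : Valid ε M') {K : ℕ}
    (hK : (M.map Piece.wt).sum ≤ K) (hK' : (M'.map Piece.wt).sum ≤ K)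
    (h : canon ε (enc M K) = canon ε (enc M' K)) : M = M' ∨ Swap M M' ∨ Swap M' M := by
  obtain ⟨-, hall | ⟨k, hk1, hk2, hk3, hk4, hk5⟩⟩ := lev_of_canon hM hM' h
  · exact Or.inl (Multiset.ext.2 fun p => count_congr hM hM' hK hK' p (hall _))
  · rcases hb : (lev M k).bit
    · refine Or.inr (Or.inr (swap_of_bit hM' hM hK' hK ?_ hb hk4.symm (fun j a b c => (hk5 j a b c).symm) hk1))
      rw [hb] at hk3
      exact (Bool.eq_false_or_eq_true _).resolve_right (Ne.symm hk3)
    · refine Or.inr (Or.inl (swap_of_bit hM hM' hK hK' hb ?_ hk4 hk5 hk1))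
      rw [hb] at hk3
      exact (Bool.eq_false_or_eq_true _).resolve_left (Ne.symm hk3)

/-- The finite set of codes of weight `m`. -/
def codeSet (ε : ℕ) (s₀ : Bool) (m : ℕ) : Finset (List Lev) :=
  (box (m + 1) m).filter fun l => Adm ε s₀ l ∧ lwt l = m

/-- The codes of weight `m`. -/
abbrev CodeTy (ε : ℕ) (s₀ : Bool) (m : ℕ) : Type := ↥(codeSet ε s₀ m)

theorem entries_le {s₀ : Bool} : ∀ {l : List Lev}, Adm ε s₀ l → ∀ d ∈ l, d.odd ≤ lwt l ∧ d.even ≤ lwt l ∧ d.vs < 3
  | [], _, d, hd => absurd hd List.not_mem_nil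
  | e :: l, h, d, hd => by
    obtain ⟨h1, h2, -⟩ := h
    have hwt : e.odd ≤ e.wt (l.length + 1) ∧ e.even ≤ e.wt (l.length + 1) := by
      have a1 := Nat.le_mul_of_pos_right e.odd (show 0 < 2 * (l.length + 1) - 1 by omega)
      have a2 := Nat.le_mul_of_pos_right e.even (show 0 < 2 * (l.length + 1) by omega)
      simp only [Lev.wt]
      omega
    rcases List.mem_cons.1 hd with rfl | hd
    · simp only [lwt]
      omega
    · have := entries_le h1 d hd
      simp only [lwt]
      omega

theorem mem_codeSet {s₀ : Bool} {m : ℕ} {l : List Lev} (h1 : l.length = m) (h2 : Adm ε s₀ l) (h3 : lwt l = m) :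
    l ∈ codeSet ε s₀ m := by
  refine Finset.mem_filter.2 ⟨?_, h2, h3⟩
  have := mem_box (N := m + 1) l fun d hd => by
    have := entries_le h2 d hd
    omega
  rwa [h1] at this

/-- Padding by empty levels. -/
def pad : ℕ → List Lev → List Lev
  | 0, l => l
  | i + 1, l => ⟨0, 0, 0, false⟩ :: pad i l

theorem pad_spec {s₀ : Bool} : ∀ (i : ℕ) {l : List Lev}, Adm ε s₀ l →
    Adm ε s₀ (pad i l) ∧ lwt (pad i l) = lwt l ∧ (pad i l).length = l.length + i
  | 0, l, h => ⟨h, rfl, rfl⟩
  | i + 1, l, h => by
    obtain ⟨h1, h2, h3⟩ := pad_spec i h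
    refine ⟨⟨h1, by simp, by simp⟩, ?_, ?_⟩
    · simp [pad, lwt, Lev.wt, h2]
    · simp [pad, h3]
      omega

theorem pad_inj : ∀ (i : ℕ) {l l' : List Lev}, pad i l = pad i l' → l = l'
  | 0, _, _, h => h
  | i + 1, _, _, h => pad_inj i (List.cons.inj h).2

/-- The bound on the weighted numbers of codes. -/
theorem sum_codes_le {s₀ : Bool} {num den : ℕ} {T : List (ℕ × ℕ × ℕ × ℕ)} (hT : Closed ε s₀ num den T)
    (hden : 0 < den) {q : ℕ} (hq : 2 ≤ q) (n : ℕ) :
    den * (∑ m ∈ Finset.range (n + 1), Nat.card (CodeTy ε s₀ m) * q ^ (n - m)) ≤ num * q ^ n := by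
  classical
  have hmem : ∀ m ∈ Finset.range (n + 1), ∀ l ∈ codeSet ε s₀ m,
      pad (n - m) l ∈ (box (n + 1) n).filter (Adm ε s₀) ∧ lwt (pad (n - m) l) = m := by
    intro m hm l hl
    obtain ⟨hb, hA, hw⟩ := Finset.mem_filter.1 hl
    have hmn : m ≤ n := Nat.le_of_lt_succ (Finset.mem_range.1 hm)
    obtain ⟨h1, h2, h3⟩ := pad_spec (n - m) hA
    refine ⟨Finset.mem_filter.2 ⟨?_, h1⟩, h2.trans hw⟩
    have h4 := mem_box (N := n + 1) (pad (n - m) l) fun d hd => by
      have := entries_le h1 d hd
      omega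
    rwa [h3, length_of_mem_box hb, Nat.add_sub_cancel' hmn] at h4
  have hsum : ∑ m ∈ Finset.range (n + 1), (Nat.card (CodeTy ε s₀ m) : ℚ) * (1 / 2) ^ m ≤
      ∑ σ : Bool × Bool, codeSum ε s₀ (n + 1) n σ := by
    simp only [codeSum, ← Finset.filter_filter]
    rw [Finset.sum_fiberwise]
    calc ∑ m ∈ Finset.range (n + 1), (Nat.card (CodeTy ε s₀ m) : ℚ) * (1 / 2) ^ m
        = ∑ m ∈ Finset.range (n + 1), ∑ l ∈ codeSet ε s₀ m, (1 / 2 : ℚ) ^ lwt (pad (n - m) l) :=
          Finset.sum_congr rfl fun m hm => by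
            rw [Finset.sum_congr rfl fun l hl => by rw [(hmem m hm l hl).2], Finset.sum_const, nsmul_eq_mul,
              Nat.card_eq_fintype_card, Fintype.card_coe]
      _ = ∑ x ∈ (Finset.range (n + 1)).sigma (codeSet ε s₀), (1 / 2 : ℚ) ^ lwt (pad (n - x.1) x.2) := by
          rw [Finset.sum_sigma]
      _ ≤ _ := by
          rw [← Finset.sum_image (g := fun x : (_ : ℕ) × List Lev => pad (n - x.1) x.2)
            (f := fun l => (1 / 2 : ℚ) ^ lwt l) ?_]
          · refine Finset.sum_le_sum_of_subset_of_nonneg ?_ fun _ _ _ => by positivity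
            intro l hl
            obtain ⟨⟨m, l'⟩, hx, rfl⟩ := Finset.mem_image.1 hl
            obtain ⟨hm, hl'⟩ := Finset.mem_sigma.1 hx
            exact (hmem m hm l' hl').1
          · rintro ⟨m, l⟩ hx ⟨m', l'⟩ hx' he
            obtain ⟨hm, hl⟩ := Finset.mem_sigma.1 hx
            obtain ⟨hm', hl'⟩ := Finset.mem_sigma.1 hx'
            obtain rfl : m = m' := by rw [← (hmem m hm l hl).2, ← (hmem m' hm' l' hl').2]; exact congrArg lwt he
            exact congrArg (Sigma.mk m) (pad_inj _ he)
  have hB := hsum.trans (codeSum_total_le hT hden (Nat.succ_pos n) n)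
  have hq0 : (0 : ℚ) < q := Nat.cast_pos.2 (by omega)
  have hscale : (∑ m ∈ Finset.range (n + 1), (Nat.card (CodeTy ε s₀ m) : ℚ) * (q : ℚ) ^ (n - m)) ≤
      (∑ m ∈ Finset.range (n + 1), (Nat.card (CodeTy ε s₀ m) : ℚ) * (1 / 2) ^ m) * (q : ℚ) ^ n := by
    rw [Finset.sum_mul]
    refine Finset.sum_le_sum fun m hm => ?_
    have hmn : m ≤ n := Nat.le_of_lt_succ (Finset.mem_range.1 hm)
    have h1 : (1 : ℚ) ≤ (1 / 2) ^ m * (q : ℚ) ^ m := by
      rw [← mul_pow]
      exact one_le_pow₀ (by have : (2 : ℚ) ≤ q := by exact_mod_cast hq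
                            linarith)
    calc _ ≤ (Nat.card (CodeTy ε s₀ m) : ℚ) * (q : ℚ) ^ (n - m) * ((1 / 2) ^ m * (q : ℚ) ^ m) :=
          le_mul_of_one_le_right (by positivity) h1
      _ = _ := by rw [show (q : ℚ) ^ n = q ^ (n - m) * q ^ m by rw [← pow_add, Nat.sub_add_cancel hmn]]; ring
  have hfin := hscale.trans (mul_le_mul_of_nonneg_right hB (by positivity))
  rw [div_mul_eq_mul_div, le_div_iff₀ (Nat.cast_pos.2 hden), mul_comm] at hfin
  exact_mod_cast hfin

end CfsgLib.ClassNumber.CharTwo
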