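import Cfsg.Agent.Lib.ClassCount.CharTwo.UnipNormal

/-!
# Every system is an orthogonal sum of standard pieces

The choices at the top part (hyperbolic before anisotropic, the flag `false` before `true`) force the conditions
`Valid` on the pieces of the orthogonal complement.
-/

set_option autoImplicit false

namespace CfsgLib.ClassNumber.CharTwo

open LinearMap (BilinForm)
open Module

universe u

variable {F : Type u} [Field F] [CharP F 2] {V : Type u} [AddCommGroup V] [Module F V] {ε : ℕ}

namespace Sys

variable (S : Sys F V ε)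

/-- Two vectors with orthogonal monomials. -/
def Perp (a b : V) : Prop := ∀ n, S.P n a b = 0 ∧ S.R n a b = 0

variable {S}

theorem Perp.symm {a b : V} (h : S.Perp a b) : S.Perp b a :=
  fun n => ⟨by rw [S.P_comm]; exact (h n).1, by rw [S.R_comm, (h n).2, (h (n + 1)).1, add_zero]⟩

theorem Std.bound {m : ℕ} (hm : S.s ^ m = 0) (hε : ε ≤ 1) {δ₀ : F} {p : Piece} {x y : V}
    (h : S.Std δ₀ p x y) :
    match p with | .hyp m' => m' ≤ m | .ani k => 2 * k + 1 ≤ m | .vee k _ => 2 * k ≤ m := by
  cases p with
  | hyp m' =>
    refine not_lt.1 fun hlt => ?_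
    obtain ⟨j, rfl | rfl⟩ : ∃ j, m' = 2 * j + 1 ∨ m' = 2 * j + 2 := ⟨(m' - 1) / 2, by omega⟩
    · have h1 := h.1 j
      simp only [Piece.pP, if_pos, S.P_eq_zero hm (by omega : m ≤ 2 * j)] at h1
      exact zero_ne_one h1
    · have h1 := h.2.1 j
      simp only [Piece.pR, if_pos, S.R_eq_zero hm (by omega : m ≤ 2 * j + 1)] at h1
      exact zero_ne_one h1
  | ani k =>
    refine not_lt.1 fun hlt => ?_
    have h1 := h.1 k
    simp only [Piece.pP, if_pos, S.P_eq_zero hm (by omega : m ≤ 2 * k)] at h1
    exact zero_ne_one h1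
  | vee k δ =>
    refine not_lt.1 fun hlt => ?_
    have h1 := (h.2.2 k (by omega)).1
    simp only [Piece.kx, if_pos, S.K_eq_zero hm (by omega : m < 2 * k)] at h1
    exact zero_ne_one h1

variable (S)

/-- The conditions inherited by a complement of a piece whose monomials span `U`. -/
def Inherit (δ₀ : F) (x y : V) (M : Multiset Piece) : Prop :=
  (∀ q ∈ M, ∃ a b, S.Std δ₀ q a b ∧ S.Perp x a ∧ S.Perp x b ∧ S.Perp y a ∧ S.Perp y b) ∧
    ∀ P : Piece → Prop, ∀ _ : DecidablePred P, 1 < M.countP P → ∃ q q' : Piece, ∃ a b a' b', P q ∧ P q' ∧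
      S.Std δ₀ q a b ∧ S.Std δ₀ q' a' b' ∧ S.Perp a a' ∧ S.Perp x a ∧ S.Perp x a'

theorem code_step [FiniteDimensional F V] {δ₀ : F}
    (ih : ∀ (W : Type u) [AddCommGroup W] [Module F W] [FiniteDimensional F W] (S' : Sys F W ε),
      finrank F W < finrank F V → ∃ M, Valid ε M ∧ S'.Code δ₀ M)
    {ι : Type} [Fintype ι] (g : ι → V) {m : ℕ} (hm : S.s ^ m = 0) (ht : S.TauNondeg g m) {p : Piece} {x y : V}
    (hx : x ∈ S.gspan g) (hy : y ∈ S.gspan g) (hstd : S.Std δ₀ p x y)
    (hle : S.gspan g ≤ S.gspan fun b : Bool => cond b y x) (hcard : m * Fintype.card ι = 2 * p.wt)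
    (hpos : 0 < p.wt) : ∃ M, Valid ε M ∧ S.Code δ₀ (p ::ₘ M) ∧ S.Inherit δ₀ x y M := by
  classical
  set U := S.gspan g with hUdef
  have hU : (S.B.restrict U).Nondegenerate := S.gspan_nondeg hm ht
  have hc := LinearMap.BilinForm.isCompl_orthogonal_of_restrict_nondegenerate S.alt.isRefl hU
  have hUw : ∀ v ∈ U, S.w v ∈ U := fun v hv => S.w_mem_gspan g hv
  have hUs : ∀ v ∈ U, S.s v ∈ U := fun v hv => S.s_mem_gspan g hv
  have hw : ∀ v ∈ S.B.orthogonal U, S.w v ∈ S.B.orthogonal U := fun v hv u hu => by
    show S.B u (S.w v) = 0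
    rw [← S.adjw]
    exact hv _ (hUw u hu)
  have hs : ∀ v ∈ S.B.orthogonal U, S.s v ∈ S.B.orthogonal U := fun v hv u hu => by
    show S.B u (S.s v) = 0
    rw [S.B_comm, S.adjs, S.B_comm]
    exact hv _ (add_mem (hUs u hu) (hUw u hu))
  have hd : (S.B.restrict (S.B.orthogonal U)).Nondegenerate := by
    refine LinearMap.BilinForm.nondegenerate_restrict_of_disjoint_orthogonal S.B S.alt.isRefl ?_
    rw [LinearMap.BilinForm.orthogonal_orthogonal S.nondeg S.alt.isRefl]
    exact hc.disjoint.symm
  have hdim : finrank F U = 2 * p.wt := by rw [← hcard]; exact S.finrank_gspan hm ht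
  have hadd := Submodule.finrank_add_eq_of_isCompl hc
  obtain ⟨M, hM, hcode⟩ := ih _ (S.sub (S.B.orthogonal U) hs hw hd) (by omega)
  refine ⟨M, hM, S.code_cons U hU hs hw hd hUw hUs hx hy hstd hle hdim hcode, ?_⟩
  have hwp : ∀ (n : ℕ) (v : V), v ∈ U → (S.w ^ n) v ∈ U := by
    intro n
    induction n with
    | zero => exact fun v hv => hv
    | succ n ihn =>
      intro v hv
      rw [pow_succ', Module.End.mul_apply]
      exact hUw _ (ihn v hv)
  have hperp : ∀ u ∈ U, ∀ a : S.B.orthogonal U, S.Perp u a :=
    fun u hu a n => ⟨a.2 _ (hwp n u hu), a.2 _ (hwp n _ (hUs u hu))⟩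
  have hstd' : ∀ {q : Piece} {a b : S.B.orthogonal U}, (S.sub _ hs hw hd).Std δ₀ q a b → S.Std δ₀ q a b :=
    fun {q a b} h => ⟨fun n => (S.sub_P _ hs hw hd n a b).symm.trans (h.1 n),
      fun n => (S.sub_R _ hs hw hd n a b).symm.trans (h.2.1 n), h.2.2⟩
  refine ⟨fun q hq => ?_, fun P _ hP => ?_⟩
  · obtain ⟨a, b, hab⟩ := hcode.1.exists_std _ hq
    exact ⟨a, b, hstd' hab, hperp x hx a, hperp x hx b, hperp y hy a, hperp y hy b⟩
  · obtain ⟨κ, _, q, f, hq, hst, ho, -⟩ := hcode.1
    rw [← hq, Multiset.countP_map] at hP
    obtain ⟨i, hi, j, hj, hij⟩ := Finset.one_lt_card.1 (show 1 < (Finset.univ.filter fun i => P (q i)).card from hP)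
    simp only [Finset.mem_filter] at hi hj
    refine ⟨q i, q j, _, _, _, _, hi.2, hj.2, hstd' (hst i), hstd' (hst j), fun n => ?_, hperp x hx _, hperp x hx _⟩
    have := ho (i, false) (j, false) hij n
    exact ⟨(S.sub_P _ hs hw hd n _ _).symm.trans this.1, (S.sub_R _ hs hw hd n _ _).symm.trans this.2⟩

end Sys

theorem countP_pair (M : Multiset Piece) (a b : Piece) (hab : a ≠ b) :
    M.countP (fun q => q = a ∨ q = b) = M.count a + M.count b := by
  induction M using Multiset.induction with
  | empty => simp
  | cons c M ih =>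
    simp only [Multiset.countP_cons, Multiset.count_cons, ih]
    by_cases ha : c = a
    · subst ha
      simp [hab, Ne.symm hab]
      omega
    · by_cases hb : c = b
      · subst hb
        simp [hab, Ne.symm hab]
        omega
      · simp [ha, hb, Ne.symm ha, Ne.symm hb]

/-- Every system is a valid orthogonal sum of pieces. -/
theorem exists_code (hε : ε ≤ 1) {δ₀ : F} (hδ : ∀ a : F, ∃ c, a + (c ^ 2 + c) = 0 ∨ a + (c ^ 2 + c) = δ₀)
    (hsq : ∀ a : F, ∃ c, c ^ 2 = a) (V : Type u) [AddCommGroup V] [Module F V] [FiniteDimensional F V]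
    (S : Sys F V ε) : ∃ M, Valid ε M ∧ S.Code δ₀ M := by
  suffices ∀ (n : ℕ) (V : Type u) [AddCommGroup V] [Module F V] [FiniteDimensional F V] (S : Sys F V ε),
      finrank F V = n → ∃ M, Valid ε M ∧ S.Code δ₀ M from this _ V S rfl
  intro n
  induction n using Nat.strong_induction_on with
  | _ n ih =>
  intro V _ _ _ S hn
  subst hn
  classical
  rcases Nat.eq_zero_or_pos (finrank F V) with h0 | hpos
  · exact ⟨0, ⟨by simp, by simp, by simp, by simp, by simp, by simp, by simp, by simp⟩, S.code_zero δ₀ h0⟩
  have hrec : ∀ (W : Type u) [AddCommGroup W] [Module F W] [FiniteDimensional F W] (S' : Sys F W ε),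
      finrank F W < finrank F V → ∃ M, Valid ε M ∧ S'.Code δ₀ M := fun W _ _ _ S' h => ih _ h W S' rfl
  have hex : ∃ m, S.s ^ m = 0 := S.nil
  have hm : S.s ^ Nat.find hex = 0 := Nat.find_spec hex
  have hmin : ∀ j < Nat.find hex, S.s ^ j ≠ 0 := fun j hj => Nat.find_min hex hj
  generalize Nat.find hex = m at hm hmin
  have hm1 : 1 ≤ m := by
    refine Nat.one_le_iff_ne_zero.2 fun h => ?_
    subst h
    obtain ⟨v, hv⟩ := Module.finrank_pos_iff_exists_ne_zero.1 hpos
    exact hv (by simpa using LinearMap.congr_fun hm v)
  obtain ⟨v₀, hv₀⟩ : ∃ v, (S.s ^ (m - 1)) v ≠ 0 := by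
    by_contra h
    exact hmin (m - 1) (by omega) (LinearMap.ext fun v => not_not.1 fun hv => h ⟨v, hv⟩)
  obtain ⟨u₀, hu₀⟩ : ∃ u, S.tau m v₀ u ≠ 0 := by
    by_contra h
    exact hv₀ (S.nondeg.1 _ fun u => not_not.1 fun hu => h ⟨u, hu⟩)
  obtain ⟨k, rfl | rfl⟩ : ∃ k, m = 2 * k ∨ m = 2 * k + 1 := ⟨m / 2, by omega⟩
  · have hk : 1 ≤ k := by omega
    rw [S.tau_even hm hk] at hu₀
    have hP : ∀ a b, S.P k a b = 0 := fun a b => S.P_eq_zero hm (by omega) a b
    by_cases hH : ∃ a b, S.K k a = 0 ∧ S.K k b = 0 ∧ S.R (k - 1) a b ≠ 0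
    · obtain ⟨a, b, ha, hb, hab⟩ := hH
      obtain ⟨x, y, hxy⟩ := S.hyp_even_normal hε hk hm δ₀ ha (y₀ := (S.R (k - 1) a b)⁻¹ • b)
        (by rw [S.Ksmul k (by omega), hb, mul_zero]) (by rw [S.R_smul_right, inv_mul_cancel₀ hab])
      obtain ⟨M, hM, hc, hin⟩ := S.code_step hrec (fun b : Bool => cond b y x) (x := x) (y := y) hm
        (S.tauNondeg_even hm hk (hxy.2.2 k (by omega)).1 (hxy.2.2 k (by omega)).2
          (by rw [hxy.2.1]; simp only [Piece.pR]; rw [if_pos (by omega)]))
        (S.gen_mem_gspan _ false) (S.gen_mem_gspan _ true) hxy le_rfl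
        (by simp [Piece.wt]; ring) (by simp [Piece.wt]; omega)
      refine ⟨_, ?_, hc⟩
      refine ⟨?_, ?_, ?_, ?_, ?_, ?_, ?_, ?_⟩
      · intro q hq
        rcases Multiset.mem_cons.1 hq with rfl | hq
        · show 1 ≤ 2 * k
          omega
        · exact hM.ok q hq
      · intro j; simpa using hM.ani_le j
      · intro j δ; simpa using hM.ani_vee j δ
      · intro j; simpa using hM.vee_le j
      · intro j; simpa using hM.true_le j
      · intro j δ; simpa using hM.true_vee j δ
      · intro j h1 h2
        rcases Multiset.mem_cons.1 h2 with h3 | h3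
        · injection h3
          omega
        · exact hM.true_hyp j (by simpa using h1) h3
      · intro j; simpa using hM.true_ani j
    · push_neg at hH
      obtain ⟨x₀, hx₀⟩ : ∃ x, S.K k x ≠ 0 := by
        by_contra h
        push_neg at h
        exact hu₀ (hH _ _ (h _) (h _))
      obtain ⟨c, hc⟩ := hsq (S.K k x₀)⁻¹
      have hx1 : S.K k (c • x₀) = 1 := by rw [S.Ksmul k (by omega), hc, inv_mul_cancel₀ hx₀]
      generalize c • x₀ = x₁ at hx1
      by_cases hFp : ∃ u, S.K k u = 1 ∧ (ε + 1 ≤ k → S.K (k - 1) u = 0)
      · obtain ⟨u, hu1, hu2⟩ := hFp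
        obtain ⟨x, hxy⟩ := S.vee_normal hε hk hm (δ₀ := δ₀) false hu1 (fun h => by rw [hu2 h]; rfl)
        obtain ⟨M, hM, hc, hin⟩ := S.code_step hrec (fun _ : Unit => x) hm
          (S.tauNondeg_single hm hk (by rw [(hxy.2.2 k (by omega)).1]; simp [Piece.kx]))
          (S.gen_mem_gspan _ ()) (zero_mem _) hxy
          (Submodule.span_le.2 (by rintro _ ⟨⟨i, n, e⟩, rfl⟩; exact S.mon_mem_gspan _ false n e))
          (by simp [Piece.wt]) (by simp [Piece.wt]; omega)
        refine ⟨_, ?_, hc⟩
        have hkx : S.K k x = 1 := by rw [(hxy.2.2 k (by omega)).1]; simp [Piece.kx]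
        have hcnt : M.count (.vee k true) + M.count (.vee k false) ≤ 1 := by
          by_contra h
          rw [← countP_pair _ _ _ (by simp)] at h
          obtain ⟨q, q', a, b, a', b', hq, hq', hs, hs', haa, hxa, hxa'⟩ := hin.2 _ _ (not_le.1 h)
          have ha : S.K k a = 1 := by
            rcases hq with rfl | rfl <;> simp [(hs.2.2 k (by omega)).1, Piece.kx]
          have ha' : S.K k a' = 1 := by
            rcases hq' with rfl | rfl <;> simp [(hs'.2.2 k (by omega)).1, Piece.kx]
          have h1 : S.K k (x + a) = 0 := by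
            rw [S.Kadd k (by omega), hkx, ha, CharTwo.add_self_eq_zero, zero_add]
            exact hP x a
          have h2 : S.K k (x + a') = 0 := by
            rw [S.Kadd k (by omega), hkx, ha', CharTwo.add_self_eq_zero, zero_add]
            exact hP x a'
          have h3 := hH _ _ h1 h2
          rw [S.R_add_left, S.R_add_right, S.R_add_right, (hxa' (k - 1)).2, (hxa.symm (k - 1)).2, (haa (k - 1)).2,
            S.R_self, show k - 1 + 1 = k by omega, hkx] at h3
          simp at h3
        refine ⟨?_, ?_, ?_, ?_, ?_, ?_, ?_, ?_⟩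
        · intro q hq
          rcases Multiset.mem_cons.1 hq with rfl | hq
          · exact ⟨hk, fun h => by simp at h⟩
          · exact hM.ok q hq
        · intro j; simpa using hM.ani_le j
        · intro j δ h1 h2
          rcases Multiset.mem_cons.1 h2 with h3 | h3
          · injection h3 with h4
            obtain ⟨a, b, hs, -⟩ := hin.1 (.ani j) (by simpa using h1)
            have := hs.bound hm hε
            simp only at this
            omega
          · exact hM.ani_vee j δ (by simpa using h1) h3
        · intro j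
          have hj := hM.vee_le j
          simp only [Multiset.count_cons, Piece.vee.injEq, Bool.true_eq_false, and_false, if_false, add_zero,
            and_true]
          split_ifs with e
          · subst e; omega
          · omega
        · intro j; simpa using hM.true_le j
        · intro j δ h1 h2
          rcases Multiset.mem_cons.1 h2 with h3 | h3
          · injection h3 with h4
            obtain ⟨a, b, hs, -⟩ := hin.1 (.vee (j + 1) true) (by simpa using h1)
            have := hs.bound hm hε
            simp only at this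
            omega
          · exact hM.true_vee j δ (by simpa using h1) h3
        · intro j; simpa using hM.true_hyp j
        · intro j; simpa using hM.true_ani j
      · push_neg at hFp
        have hεk : ε + 1 ≤ k := (hFp x₁ hx1).1
        have hadj : ∀ c, S.K k (x₁ + c • S.s x₁) = 1 ∧
            S.K (k - 1) (x₁ + c • S.s x₁) = S.K (k - 1) x₁ + (c ^ 2 + c) := fun c => by
          refine ⟨?_, ?_⟩
          · rw [S.K_add_smul (by omega), S.Ks k (by omega), hx1, hP, S.K_eq_zero hm (i := k + 1) (by omega)]
            ring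
          · rw [S.K_add_smul (by omega), S.Ks _ (by omega), S.P_s, S.R_self, show k - 1 + 1 = k by omega, hx1]
            ring
        obtain ⟨c, hc⟩ := hδ (S.K (k - 1) x₁)
        have hc' : S.K (k - 1) (x₁ + c • S.s x₁) = δ₀ := by
          rcases hc with hc | hc
          · exact ((hFp _ (hadj c).1).2 ((hadj c).2.trans hc)).elim
          · exact (hadj c).2.trans hc
        obtain ⟨x, hxy⟩ := S.vee_normal hε hk hm (δ₀ := δ₀) true (hadj c).1 (fun _ => by rw [hc']; rfl)
        obtain ⟨M, hM, hc, hin⟩ := S.code_step hrec (fun _ : Unit => x) hm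
          (S.tauNondeg_single hm hk (by rw [(hxy.2.2 k (by omega)).1]; simp [Piece.kx]))
          (S.gen_mem_gspan _ ()) (zero_mem _) hxy
          (Submodule.span_le.2 (by rintro _ ⟨⟨i, n, e⟩, rfl⟩; exact S.mon_mem_gspan _ false n e))
          (by simp [Piece.wt]) (by simp [Piece.wt]; omega)
        refine ⟨_, ?_, hc⟩
        have hkx : S.K k x = 1 := by rw [(hxy.2.2 k (by omega)).1]; simp [Piece.kx]
        have hkx' : S.K (k - 1) x = δ₀ := by
          rw [(hxy.2.2 (k - 1) (by omega)).1]
          simp only [Piece.kx]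
          rw [if_neg (by omega), if_pos (by omega)]
          simp
        have hwit : ∀ y, S.Perp x y → S.K k y = 0 → S.K (k - 1) y ≠ 0 → False := by
          intro y hy h1 h2
          obtain ⟨d, hd⟩ := hsq (δ₀ * (S.K (k - 1) y)⁻¹)
          refine (hFp (x + d • y) ?_).2 ?_
          · rw [S.K_add_smul (by omega), hkx, h1, hP]
            ring
          · rw [S.K_add_smul (by omega), hkx', hd, (hy (k - 1)).1, mul_assoc, inv_mul_cancel₀ h2, mul_one,
              mul_zero, add_zero, CharTwo.add_self_eq_zero]
        have hnoV : ∀ δ, Piece.vee k δ ∉ M := by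
          intro δ hq
          obtain ⟨a, b, hs, hxa, -⟩ := hin.1 _ hq
          have ha : S.K k a = 1 := by rw [(hs.2.2 k (by omega)).1]; simp [Piece.kx]
          refine hwit (S.s a) (fun n => ⟨?_, ?_⟩) ?_ ?_
          · rw [S.P_s]
            exact ((hxa.symm) n).2
          · rw [S.R_s]
            exact (hxa (n + 1)).1
          · rw [S.Ks k (by omega)]
            exact S.K_eq_zero hm (by omega) _
          · rw [S.Ks _ (by omega), show k - 1 + 1 = k by omega, ha]
            exact one_ne_zero
        refine ⟨?_, ?_, ?_, ?_, ?_, ?_, ?_, ?_⟩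
        · intro q hq
          rcases Multiset.mem_cons.1 hq with rfl | hq
          · exact ⟨hk, fun _ => hεk⟩
          · exact hM.ok q hq
        · intro j; simpa using hM.ani_le j
        · intro j δ h1 h2
          rcases Multiset.mem_cons.1 h2 with h3 | h3
          · injection h3 with h4
            obtain ⟨a, b, hs, -⟩ := hin.1 (.ani j) (by simpa using h1)
            have := hs.bound hm hε
            simp only at this
            omega
          · exact hM.ani_vee j δ (by simpa using h1) h3
        · intro j
          have hj := hM.vee_le j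
          by_cases e : j = k
          · subst e
            simp [Multiset.count_eq_zero.2 (hnoV true), Multiset.count_eq_zero.2 (hnoV false)]
          · simpa [e] using hj
        · intro j
          by_cases e : j = k
          · subst e
            simp [Multiset.count_eq_zero.2 (hnoV true)]
          · simpa [e] using hM.true_le j
        · intro j δ h1 h2
          rcases Multiset.mem_cons.1 h1 with h1 | h1
          · injection h1 with h4
            rcases Multiset.mem_cons.1 h2 with h2 | h2
            · injection h2 with h5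
              omega
            · obtain ⟨a, b, hs, hxa, -⟩ := hin.1 _ h2
              refine hwit a hxa ?_ ?_
              · rw [(hs.2.2 k (by omega)).1]
                simp only [Piece.kx]
                rw [if_neg (by omega), if_neg (by omega)]
              · rw [(hs.2.2 _ (by omega)).1]
                simp only [Piece.kx]
                rw [if_pos (by omega)]
                exact one_ne_zero
          · rcases Multiset.mem_cons.1 h2 with h2 | h2
            · injection h2 with h5
              obtain ⟨a, b, hs, -⟩ := hin.1 _ h1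
              have := hs.bound hm hε
              simp only at this
              omega
            · exact hM.true_vee j δ h1 h2
        · intro j h1 h2
          have h2' : Piece.hyp (2 * j + 1) ∈ M := by simpa using h2
          rcases Multiset.mem_cons.1 h1 with h1 | h1
          · injection h1 with h4
            obtain ⟨a, b, hs, hxa, hxb, -⟩ := hin.1 _ h2'
            refine hwit (a + b) (fun n => ⟨?_, ?_⟩) ?_ ?_
            · rw [S.P_add_right, (hxa n).1, (hxb n).1, add_zero]
            · rw [S.R_add_right, (hxa n).2, (hxb n).2, add_zero]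
            · rw [S.Kadd k (by omega), (hs.2.2 k (by omega)).1, (hs.2.2 k (by omega)).2]
              simp only [Piece.kx, Piece.ky, zero_add]
              exact hP a b
            · rw [S.Kadd _ (by omega), (hs.2.2 _ (by omega)).1, (hs.2.2 _ (by omega)).2]
              simp only [Piece.kx, Piece.ky, zero_add]
              show S.P (k - 1) a b ≠ 0
              rw [hs.1]
              simp only [Piece.pP]
              rw [if_pos (by omega)]
              exact one_ne_zero
          · exact hM.true_hyp j h1 h2'
        · intro j h1 h2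
          have h2' : Piece.ani j ∈ M := by simpa using h2
          rcases Multiset.mem_cons.1 h1 with h1 | h1
          · injection h1 with h4
            obtain ⟨a, b, hs, hxa, -⟩ := hin.1 _ h2'
            refine hwit a hxa ?_ ?_
            · rw [(hs.2.2 k (by omega)).1]
              simp only [Piece.kx]
              rw [if_neg (by omega)]
            · rw [(hs.2.2 _ (by omega)).1]
              simp only [Piece.kx]
              rw [if_pos (by omega)]
              exact one_ne_zero
          · exact hM.true_ani j h1 h2'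
  · rw [S.tau_odd hm] at hu₀
    by_cases hI : ∃ a b, S.P k a b ≠ 0 ∧ (ε ≤ k → S.K k a = 0)
    · obtain ⟨a, b, hab, ha⟩ := hI
      obtain ⟨x, y, hxy⟩ := S.hyp_odd_normal hε hm δ₀ (x := a) (y₀ := (S.P k a b)⁻¹ • b)
        (by rw [S.P_smul_right, inv_mul_cancel₀ hab]) ha
      obtain ⟨M, hM, hc, hin⟩ := S.code_step hrec (fun b : Bool => cond b y x) (x := x) (y := y) hm
        (S.tauNondeg_odd hm (by rw [hxy.1]; simp [Piece.pP]))
        (S.gen_mem_gspan _ false) (S.gen_mem_gspan _ true) hxy le_rfl
        (by simp [Piece.wt]; ring) (by simp [Piece.wt])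
      refine ⟨_, ?_, hc⟩
      refine ⟨?_, ?_, ?_, ?_, ?_, ?_, ?_, ?_⟩
      · intro q hq
        rcases Multiset.mem_cons.1 hq with rfl | hq
        · show 1 ≤ 2 * k + 1
          omega
        · exact hM.ok q hq
      · intro j; simpa using hM.ani_le j
      · intro j δ; simpa using hM.ani_vee j δ
      · intro j; simpa using hM.vee_le j
      · intro j; simpa using hM.true_le j
      · intro j δ; simpa using hM.true_vee j δ
      · intro j h1 h2
        rcases Multiset.mem_cons.1 h2 with h3 | h3
        · injection h3 with h4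
          obtain ⟨a, b, hs, -⟩ := hin.1 _ (show Piece.vee (j + 1) true ∈ M by simpa using h1)
          have := hs.bound hm hε
          simp only at this
          omega
        · exact hM.true_hyp j (by simpa using h1) h3
      · intro j; simpa using hM.true_ani j
    · push_neg at hI
      have hεk : ε ≤ k := (hI _ _ hu₀).1
      have hne : ∀ a b, S.P k a b ≠ 0 → S.K k a ≠ 0 := fun a b h => (hI a b h).2
      obtain ⟨c, hc⟩ := hsq (S.K k v₀)⁻¹
      have hc0 : c ≠ 0 := by
        rintro rfl
        rw [zero_pow two_ne_zero, eq_comm, inv_eq_zero] at hc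
        exact hne _ _ hu₀ hc
      obtain ⟨x, y, hxy⟩ := S.ani_normal hε hεk hm hδ hne (x := c • v₀)
        (y₀ := (c * S.P k v₀ u₀)⁻¹ • u₀)
        (by rw [S.P_smul_right, S.P_smul_left, inv_mul_cancel₀ (mul_ne_zero hc0 hu₀)])
        (by rw [S.Ksmul k hεk, hc, inv_mul_cancel₀ (hne _ _ hu₀)])
      obtain ⟨M, hM, hcode, hin⟩ := S.code_step hrec (fun b : Bool => cond b y x) (x := x) (y := y) hm
        (S.tauNondeg_odd hm (by rw [hxy.1]; simp [Piece.pP]))
        (S.gen_mem_gspan _ false) (S.gen_mem_gspan _ true) hxy le_rfl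
        (by simp [Piece.wt]; ring) (by simp [Piece.wt])
      refine ⟨_, ?_, hcode⟩
      have hkx : S.K k x = 1 := by rw [(hxy.2.2 k hεk).1]; simp [Piece.kx]
      have hnoA : Piece.ani k ∉ M := by
        intro hq
        obtain ⟨a, b, hs, hxa, hxb, -⟩ := hin.1 _ hq
        refine hne (x + a) b ?_ ?_
        · rw [S.P_add_left, (hxb k).1, hs.1]
          simp [Piece.pP]
        · rw [S.Kadd k hεk, hkx, (hs.2.2 k hεk).1]
          simp only [Piece.kx, if_pos, CharTwo.add_self_eq_zero, zero_add]
          exact (hxa k).1
      refine ⟨?_, ?_, ?_, ?_, ?_, ?_, ?_, ?_⟩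
      · intro q hq
        rcases Multiset.mem_cons.1 hq with rfl | hq
        · exact hεk
        · exact hM.ok q hq
      · intro j
        by_cases e : j = k
        · subst e
          simp [Multiset.count_eq_zero.2 hnoA]
        · simpa [e] using hM.ani_le j
      · intro j δ h1 h2
        have h2' : Piece.vee j δ ∈ M := by simpa using h2
        rcases Multiset.mem_cons.1 h1 with h3 | h3
        · injection h3 with h4
          subst h4
          obtain ⟨z, b, hs, hxz, -, hyz, -⟩ := hin.1 _ h2'
          refine hne (x + z) y ?_ ?_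
          · rw [S.P_add_left, (hyz.symm j).1, add_zero, hxy.1]
            simp [Piece.pP]
          · rw [S.Kadd j hεk, hkx, (hs.2.2 j hεk).1]
            simp only [Piece.kx, if_pos, CharTwo.add_self_eq_zero, zero_add]
            exact (hxz j).1
        · exact hM.ani_vee j δ h3 h2'
      · intro j; simpa using hM.vee_le j
      · intro j; simpa using hM.true_le j
      · intro j δ; simpa using hM.true_vee j δ
      · intro j; simpa using hM.true_hyp j
      · intro j h1 h2
        rcases Multiset.mem_cons.1 h2 with h3 | h3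
        · injection h3 with h4
          obtain ⟨a, b, hs, -⟩ := hin.1 _ (show Piece.vee (j + 1) true ∈ M by simpa using h1)
          have := hs.bound hm hε
          simp only at this
          omega
        · exact hM.true_ani j (by simpa using h1) h3

end CfsgLib.ClassNumber.CharTwo
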