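import Cfsg.Agent.Lib.ClassCount.CharTwo.UnipSys

/-!
# Generators of systems of quadratic forms

The monomials `w ^ n s ^ e g` in generators span invariant subspaces; pairings and forms on the generators determine
a system up to isometry, and the subspace is nondegenerate of the expected dimension if the top pairing is.
-/

set_option autoImplicit false

namespace CfsgLib.ClassNumber.CharTwo

open LinearMap (BilinForm)
open Module

universe u

variable {F : Type u} [Field F] [CharP F 2] {V : Type u} [AddCommGroup V] [Module F V]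
variable {V' : Type u} [AddCommGroup V'] [Module F V'] {ε : ℕ}

namespace Sys

variable (S : Sys F V ε)

/-- The monomial `w ^ n s ^ e x`. -/
def mon (n : ℕ) : Bool → V → V
  | false, x => (S.w ^ n) x
  | true, x => (S.w ^ n) (S.s x)

theorem w_mon (n : ℕ) (e : Bool) (x : V) : S.w (S.mon n e x) = S.mon (n + 1) e x := by
  cases e <;> simp only [mon, pow_succ', Module.End.mul_apply]

theorem s_mon (n : ℕ) (x : V) : S.s (S.mon n false x) = S.mon n true x :=
  S.comm_apply n x

theorem s_mon_true (n : ℕ) (x : V) :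
    S.s (S.mon n true x) = S.mon (n + 1) true x + S.mon (n + 1) false x := by
  simp only [mon, comm_apply, s_s, map_add, w_succ]

theorem B_mon_ff (n l : ℕ) (x y : V) : S.B (S.mon n false x) (S.mon l false y) = S.P (n + l) x y := by
  simp only [mon, P]
  rw [← adjw_pow, w_add, add_comm l]

theorem B_mon_tf (n l : ℕ) (x y : V) : S.B (S.mon n true x) (S.mon l false y) = S.R (n + l) x y := by
  simp only [mon, R]
  rw [← adjw_pow, w_add, add_comm l]

theorem B_mon_ft (n l : ℕ) (x y : V) : S.B (S.mon n false x) (S.mon l true y) = S.R (n + l) y x := by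
  rw [S.B_comm, B_mon_tf, add_comm]

theorem w_pow_succ_apply (n : ℕ) (x : V) : S.w ((S.w ^ n) x) = (S.w ^ (n + 1)) x := by
  rw [pow_succ', Module.End.mul_apply]

theorem B_mon_tt (n l : ℕ) (x y : V) : S.B (S.mon n true x) (S.mon l true y) = S.P (n + l + 1) x y := by
  have hz : ∀ v : V, v + v = 0 := fun v => by rw [← two_smul F, CharTwo.two_eq_zero, zero_smul]
  simp only [mon, P]
  rw [← adjw_pow, w_add, S.B_comm, S.adjs, comm_apply, s_s, map_add (S.w ^ (l + n)), w_pow_succ_apply, w_succ, w_succ,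
    add_comm _ ((S.w ^ (l + n + 1)) x), add_assoc, hz, add_zero, S.B_comm, add_comm l]

theorem K_mon {i : ℕ} (hi : ε ≤ i) (n : ℕ) (e : Bool) (x : V) :
    S.K i (S.mon n e x) = S.K (i + 2 * n + e.toNat) x := by
  cases e
  · exact S.K_wpow n hi x
  · exact S.K_wpow_s n hi x

/-- The subspace spanned by the monomials in a family. -/
def gspan {ι : Type*} (g : ι → V) : Submodule F V :=
  Submodule.span F (Set.range fun a : ι × ℕ × Bool => S.mon a.2.1 a.2.2 (g a.1))

theorem mon_mem_gspan {ι : Type*} (g : ι → V) (i : ι) (n : ℕ) (e : Bool) : S.mon n e (g i) ∈ S.gspan g :=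
  Submodule.subset_span ⟨(i, n, e), rfl⟩

theorem gen_mem_gspan {ι : Type*} (g : ι → V) (i : ι) : g i ∈ S.gspan g :=
  S.mon_mem_gspan g i 0 false

theorem w_mem_gspan {ι : Type*} (g : ι → V) {v : V} (h : v ∈ S.gspan g) : S.w v ∈ S.gspan g := by
  suffices S.gspan g ≤ (S.gspan g).comap S.w from this h
  refine Submodule.span_le.2 ?_
  rintro _ ⟨⟨i, n, e⟩, rfl⟩
  show S.w (S.mon n e (g i)) ∈ S.gspan g
  rw [w_mon]
  exact S.mon_mem_gspan g i _ _

theorem s_mem_gspan {ι : Type*} (g : ι → V) {v : V} (h : v ∈ S.gspan g) : S.s v ∈ S.gspan g := by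
  suffices S.gspan g ≤ (S.gspan g).comap S.s from this h
  refine Submodule.span_le.2 ?_
  rintro _ ⟨⟨i, n, e⟩, rfl⟩
  show S.s (S.mon n e (g i)) ∈ S.gspan g
  cases e
  · rw [s_mon]
    exact S.mon_mem_gspan g i _ _
  · rw [s_mon_true]
    exact add_mem (S.mon_mem_gspan g i _ _) (S.mon_mem_gspan g i _ _)

/-- Equal values on generators give an isometry. -/
theorem iso_of_gens (S' : Sys F V' ε) {ι : Type*} (g : ι → V) (g' : ι → V') (hg : S.gspan g = ⊤)
    (hg' : S'.gspan g' = ⊤) (hP : ∀ n i j, S.P n (g i) (g j) = S'.P n (g' i) (g' j))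
    (hR : ∀ n i j, S.R n (g i) (g j) = S'.R n (g' i) (g' j))
    (hK : ∀ n, ε ≤ n → ∀ i, S.K n (g i) = S'.K n (g' i)) : Iso S S' := by
  classical
  set m : ι × ℕ × Bool → V := fun a => S.mon a.2.1 a.2.2 (g a.1) with hm
  set m' : ι × ℕ × Bool → V' := fun a => S'.mon a.2.1 a.2.2 (g' a.1) with hm'
  have hB : ∀ a b, S.B (m a) (m b) = S'.B (m' a) (m' b) := by
    rintro ⟨i, n, e⟩ ⟨j, l, e'⟩
    cases e <;> cases e' <;> simp only [hm, hm', B_mon_ff, B_mon_tf, B_mon_ft, B_mon_tt, hP, hR]
  set Φ := Finsupp.linearCombination F m with hΦ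
  set Φ' := Finsupp.linearCombination F m' with hΦ'
  have hsur : Function.Surjective Φ := by
    rw [← LinearMap.range_eq_top, hΦ, Finsupp.range_linearCombination]
    exact hg
  have hsur' : Function.Surjective Φ' := by
    rw [← LinearMap.range_eq_top, hΦ', Finsupp.range_linearCombination]
    exact hg'
  have hBB : ∀ c d, S.B (Φ c) (Φ d) = S'.B (Φ' c) (Φ' d) := by
    intro c d
    simp only [hΦ, hΦ', Finsupp.linearCombination_apply, Finsupp.sum, map_sum, LinearMap.sum_apply, map_smul,
      LinearMap.smul_apply, hB]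
  have hker : LinearMap.ker Φ = LinearMap.ker Φ' := by
    ext c
    simp only [LinearMap.mem_ker]
    constructor
    · intro h
      refine S'.nondeg.1 _ fun y => ?_
      obtain ⟨d, rfl⟩ := hsur' y
      rw [← hBB, h, map_zero, LinearMap.zero_apply]
    · intro h
      refine S.nondeg.1 _ fun y => ?_
      obtain ⟨d, rfl⟩ := hsur y
      rw [hBB, h, map_zero, LinearMap.zero_apply]
  let f : V ≃ₗ[F] V' :=
    ((Φ.quotKerEquivOfSurjective hsur).symm.trans (Submodule.quotEquivOfEq _ _ hker)).trans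
      (Φ'.quotKerEquivOfSurjective hsur')
  have hf : ∀ c, f (Φ c) = Φ' c := by
    intro c
    have h1 : (Φ.quotKerEquivOfSurjective hsur).symm (Φ c) = Submodule.Quotient.mk c :=
      (LinearEquiv.symm_apply_eq _).2 (LinearMap.quotKerEquivOfSurjective_apply_mk Φ hsur c).symm
    simp only [f, LinearEquiv.trans_apply, h1, Submodule.quotEquivOfEq_mk,
      LinearMap.quotKerEquivOfSurjective_apply_mk]
  have hfm : ∀ a, f (m a) = m' a := fun a => by
    have := hf (Finsupp.single a 1)
    simpa only [hΦ, hΦ', Finsupp.linearCombination_single, one_smul] using this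
  have hext : ∀ {A A' : V →ₗ[F] V'}, (∀ a, A (m a) = A' (m a)) → A = A' := fun {A A'} h =>
    LinearMap.ext_on_range (v := m) hg h
  have hfs : ∀ v, f (S.s v) = S'.s (f v) := fun v => by
    refine LinearMap.congr_fun (hext (A := f.toLinearMap.comp S.s) (A' := (S'.s).comp f.toLinearMap) ?_) v
    rintro ⟨i, n, e⟩
    simp only [LinearMap.comp_apply, LinearEquiv.coe_coe, hfm]
    cases e
    · simp only [hm, hm', s_mon]
      exact hfm (i, n, true)
    · simp only [hm, hm', s_mon_true, map_add]
      exact congrArg₂ (· + ·) (hfm (i, n + 1, true)) (hfm (i, n + 1, false))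
  have hfw : ∀ v, f (S.w v) = S'.w (f v) := fun v => by
    refine LinearMap.congr_fun (hext (A := f.toLinearMap.comp S.w) (A' := (S'.w).comp f.toLinearMap) ?_) v
    rintro ⟨i, n, e⟩
    simp only [LinearMap.comp_apply, LinearEquiv.coe_coe, hfm]
    simp only [hm, hm', w_mon]
    exact hfm (i, n + 1, e)
  have hfB : ∀ x y, S'.B (f x) (f y) = S.B x y := by
    intro x y
    obtain ⟨c, rfl⟩ := hsur x
    obtain ⟨d, rfl⟩ := hsur y
    rw [hf, hf, hBB]
  have hfwp : ∀ (n : ℕ) v, f ((S.w ^ n) v) = (S'.w ^ n) (f v) := by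
    intro n
    induction n with
    | zero => exact fun v => rfl
    | succ n ih => exact fun v => by rw [pow_succ', pow_succ', Module.End.mul_apply, Module.End.mul_apply, hfw, ih]
  refine ⟨f, hfs, hfw, hfB, fun i hi v => ?_⟩
  have hv : v ∈ Submodule.span F (Set.range m) := by
    rw [show Submodule.span F (Set.range m) = ⊤ from hg]
    exact Submodule.mem_top
  induction hv using Submodule.span_induction with
  | mem x hx =>
    obtain ⟨⟨j, n, e⟩, rfl⟩ := hx
    rw [hfm]
    simp only [hm, hm', K_mon _ hi]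
    exact (hK _ (by omega) j).symm
  | zero => rw [map_zero, S.K_zero hi, S'.K_zero hi]
  | add x y _ _ hx hy => rw [map_add, S'.Kadd i hi, S.Kadd i hi, hx, hy, ← hfwp, hfB]
  | smul c x _ hx => rw [map_smul, S'.Ksmul i hi, S.Ksmul i hi, hx]

/-- The restriction to an invariant nondegenerate subspace. -/
def sub (U : Submodule F V) (hs : ∀ v ∈ U, S.s v ∈ U) (hw : ∀ v ∈ U, S.w v ∈ U)
    (hd : (S.B.restrict U).Nondegenerate) : Sys F U ε where
  B := S.B.restrict U
  s := S.s.restrict hs
  w := S.w.restrict hw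
  K i x := S.K i x
  alt x := S.alt x
  nondeg := hd
  comm := by
    refine LinearMap.ext fun x => Subtype.ext ?_
    exact LinearMap.congr_fun S.comm.eq x
  sq := by
    refine LinearMap.ext fun x => Subtype.ext ?_
    exact LinearMap.congr_fun S.sq x
  adjw x y := S.adjw x y
  adjs x y := S.adjs x y
  nil := by
    obtain ⟨n, hn⟩ := S.nil
    refine ⟨n, LinearMap.ext fun x => Subtype.ext ?_⟩
    rw [Module.End.pow_restrict n]
    simp [hn]
  Kadd i hi x y := by
    show S.K i ((x : V) + y) = _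
    rw [S.Kadd i hi, Module.End.pow_restrict i]
    rfl
  Ksmul i hi c x := S.Ksmul i hi c x
  Kw i hi x := S.Kw i hi x
  Ks i hi x := S.Ks i hi x
  Ksucc i x := by
    rw [Module.End.pow_restrict i]
    exact S.Ksucc i x

section sub

variable (U : Submodule F V) (hs : ∀ v ∈ U, S.s v ∈ U) (hw : ∀ v ∈ U, S.w v ∈ U)
  (hd : (S.B.restrict U).Nondegenerate)

theorem sub_P (n : ℕ) (x y : U) : (S.sub U hs hw hd).P n x y = S.P n x y := by
  show S.B (((S.w.restrict hw) ^ n) x : V) y = _
  rw [Module.End.pow_restrict n]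
  rfl

theorem sub_R (n : ℕ) (x y : U) : (S.sub U hs hw hd).R n x y = S.R n x y := by
  show S.B (((S.w.restrict hw) ^ n) (S.s.restrict hs x) : V) y = _
  rw [Module.End.pow_restrict n]
  rfl

theorem sub_mon (n : ℕ) (e : Bool) (x : U) : ((S.sub U hs hw hd).mon n e x : V) = S.mon n e x := by
  cases e
  · show (((S.w.restrict hw) ^ n) x : V) = _
    rw [Module.End.pow_restrict n]
    rfl
  · show (((S.w.restrict hw) ^ n) (S.s.restrict hs x) : V) = _
    rw [Module.End.pow_restrict n]
    rfl

theorem sub_spow {m : ℕ} (hm : S.s ^ m = 0) : (S.sub U hs hw hd).s ^ m = 0 := by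
  refine LinearMap.ext fun x => Subtype.ext ?_
  show (((S.s.restrict hs) ^ m) x : V) = _
  rw [Module.End.pow_restrict m]
  simp [hm]

end sub

/-- The degree monomial. -/
def dmon (j : ℕ) (x : V) : V := S.mon (j / 2) (decide (j % 2 = 1)) x

theorem mon_eq_dmon (n : ℕ) (e : Bool) (x : V) : S.mon n e x = S.dmon (2 * n + e.toNat) x := by
  cases e <;> simp [dmon, Nat.add_mod, Nat.mul_mod, Nat.mul_add_div]

theorem s_pow_dmon (t j : ℕ) (x : V) :
    (S.s ^ t) (S.dmon j x) = (S.w ^ (j / 2) * S.s ^ (j % 2 + t)) x := by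
  have hc : ∀ v, (S.s ^ t) ((S.w ^ (j / 2)) v) = (S.w ^ (j / 2)) ((S.s ^ t) v) := fun v => by
    rw [← Module.End.mul_apply, ← Module.End.mul_apply, (S.comm.pow_pow t (j / 2)).eq]
  rcases Nat.mod_two_eq_zero_or_one j with h | h <;>
    simp only [dmon, h, zero_ne_one, decide_false, decide_true, mon, hc, Module.End.mul_apply, zero_add,
      pow_add, pow_one]
  rw [← Module.End.mul_apply (S.s ^ t), ((Commute.refl S.s).pow_left t).eq, Module.End.mul_apply]

theorem s_pow_dmon_eq_zero {m t j : ℕ} (hm : S.s ^ m = 0) (h : m ≤ j + t) (x : V) :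
    (S.s ^ t) (S.dmon j x) = 0 := by
  rw [s_pow_dmon, S.vanish hm (by omega), LinearMap.zero_apply]

theorem s_pow_dmon_top {m t j : ℕ} (hm : S.s ^ m = 0) (h : j + t + 1 = m) (x : V) :
    (S.s ^ t) (S.dmon j x) = (S.s ^ (m - 1)) x := by
  rw [s_pow_dmon, S.top hm (by omega), show 2 * (j / 2) + (j % 2 + t) = m - 1 by omega]

theorem adjs_pow : ∀ (t : ℕ) (x y : V), S.B ((S.s ^ t) x) y = S.B x (((S.s + S.w) ^ t) y)
  | 0, x, y => rfl
  | t + 1, x, y => by
    rw [pow_succ, Module.End.mul_apply, adjs_pow t, S.adjs, ← LinearMap.add_apply S.s S.w,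
      ← Module.End.mul_apply, ← pow_succ']

section Top

variable {ι : Type*} [Fintype ι] (g : ι → V) (m : ℕ)

/-- Combinations of the monomials of degree less than `m`. -/
noncomputable def comb : (Fin m × ι → F) →ₗ[F] V :=
  Fintype.linearCombination F fun a => S.dmon a.1 (g a.2)

theorem comb_apply (c : Fin m × ι → F) : S.comb g m c = ∑ a, c a • S.dmon a.1 (g a.2) :=
  Fintype.linearCombination_apply F _ c

theorem range_comb (hm : S.s ^ m = 0) : LinearMap.range (S.comb g m) = S.gspan g := by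
  classical
  apply le_antisymm
  · rintro _ ⟨c, rfl⟩
    rw [comb_apply]
    exact Submodule.sum_mem _ fun a _ => Submodule.smul_mem _ _ (S.mon_mem_gspan g _ _ _)
  · refine Submodule.span_le.2 ?_
    rintro _ ⟨⟨i, n, e⟩, rfl⟩
    show S.mon n e (g i) ∈ _
    rw [mon_eq_dmon]
    by_cases h : 2 * n + e.toNat < m
    · refine ⟨Pi.single (⟨_, h⟩, i) 1, ?_⟩
      rw [comb_apply]
      simp [Pi.single_apply]
    · rw [← Module.End.one_apply (R := F) (S.dmon _ (g i)), ← pow_zero S.s,
        S.s_pow_dmon_eq_zero hm (by omega)]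
      exact zero_mem _

/-- The nondegeneracy of the top pairing. -/
def TauNondeg : Prop := ∀ c : ι → F, (∀ l, ∑ i, c i * S.tau m (g i) (g l) = 0) → c = 0

variable {g m}

theorem comb_orth (hm : S.s ^ m = 0) (ht : S.TauNondeg g m) {c : Fin m × ι → F}
    (h : ∀ u ∈ S.gspan g, S.B (S.comb g m c) u = 0) : c = 0 := by
  classical
  suffices ∀ j (hj : j < m) (i : ι), c (⟨j, hj⟩, i) = 0 from funext fun a => this a.1.1 a.1.2 a.2
  intro j
  induction j using Nat.strong_induction_on with
  | _ j ih =>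
    intro hjm i
    have key : ∀ l, ∑ i, c (⟨j, hjm⟩, i) * S.tau m (g i) (g l) = 0 := by
      intro l
      have hmem : ∀ t, ((S.s + S.w) ^ t) (g l) ∈ S.gspan g := by
        intro t
        induction t with
        | zero => exact S.gen_mem_gspan g l
        | succ t iht =>
          rw [pow_succ', Module.End.mul_apply, LinearMap.add_apply]
          exact add_mem (S.s_mem_gspan g iht) (S.w_mem_gspan g iht)
      have h1 := h _ (hmem (m - 1 - j))
      rw [← adjs_pow, comb_apply, map_sum, map_sum, LinearMap.sum_apply, Fintype.sum_prod_type] at h1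
      rw [Finset.sum_eq_single (⟨j, hjm⟩ : Fin m)] at h1
      · rw [← h1]
        refine Finset.sum_congr rfl fun i _ => ?_
        rw [map_smul, map_smul, LinearMap.smul_apply, smul_eq_mul, S.s_pow_dmon_top hm (by simp; omega)]
        rfl
      · intro b _ hb
        refine Finset.sum_eq_zero fun i _ => ?_
        rcases Nat.lt_or_ge (b : ℕ) j with hlt | hge
        · rw [ih _ hlt b.2 i, zero_smul, map_zero, map_zero, LinearMap.zero_apply]
        · have hne : (b : ℕ) ≠ j := fun e => hb (Fin.ext e)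
          rw [map_smul, S.s_pow_dmon_eq_zero hm (by simp only [] at *; omega), smul_zero, map_zero,
            LinearMap.zero_apply]
      · exact fun hn => (hn (Finset.mem_univ _)).elim
    exact congrFun (ht (fun i => c (⟨j, hjm⟩, i)) key) i

theorem comb_injective (hm : S.s ^ m = 0) (ht : S.TauNondeg g m) : Function.Injective (S.comb g m) := by
  rw [← LinearMap.ker_eq_bot, LinearMap.ker_eq_bot']
  intro c hc
  exact S.comb_orth hm ht fun u _ => by rw [hc, map_zero, LinearMap.zero_apply]

theorem finrank_gspan (hm : S.s ^ m = 0) (ht : S.TauNondeg g m) :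
    finrank F (S.gspan g) = m * Fintype.card ι := by
  rw [← S.range_comb g m hm, LinearMap.finrank_range_of_inj (S.comb_injective hm ht), Module.finrank_pi,
    Fintype.card_prod, Fintype.card_fin]

theorem gspan_eq_zero (hm : S.s ^ m = 0) (ht : S.TauNondeg g m) {v : V} (hv : v ∈ S.gspan g)
    (h : ∀ u ∈ S.gspan g, S.B v u = 0) : v = 0 := by
  rw [← S.range_comb g m hm] at hv
  obtain ⟨c, rfl⟩ := hv
  rw [S.comb_orth hm ht h, map_zero]

theorem gspan_nondeg [FiniteDimensional F V] (hm : S.s ^ m = 0) (ht : S.TauNondeg g m) :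
    (S.B.restrict (S.gspan g)).Nondegenerate := by
  refine LinearMap.BilinForm.nondegenerate_restrict_of_disjoint_orthogonal S.B S.alt.isRefl ?_
  rw [Submodule.disjoint_def]
  intro v hv hv'
  exact S.gspan_eq_zero hm ht hv fun u hu => by rw [S.B_comm]; exact hv' u hu

/-- Pairings with one generator can be prescribed. -/
theorem exists_pairing [FiniteDimensional F V] (hm : S.s ^ m = 0) (ht : S.TauNondeg g m) (i : ι) (p r : ℕ → F)
    (hp : ∀ n, m ≤ 2 * n → p n = 0) (hr : ∀ n, m ≤ 2 * n + 1 → r n = 0) :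
    ∃ y ∈ S.gspan g, ∀ n, S.P n (g i) y = p n ∧ S.R n (g i) y = r n := by
  classical
  let L : S.gspan g →ₗ[F] (Fin m × ι → F) :=
    LinearMap.pi fun a => (S.B (S.dmon a.1 (g a.2))).comp (S.gspan g).subtype
  have hinj : Function.Injective L := by
    rw [← LinearMap.ker_eq_bot, LinearMap.ker_eq_bot']
    intro v hv
    refine Subtype.ext (S.gspan_eq_zero hm ht v.2 fun u hu => ?_)
    rw [← S.range_comb g m hm] at hu
    obtain ⟨c, rfl⟩ := hu
    rw [comb_apply, map_sum]
    refine Finset.sum_eq_zero fun a _ => ?_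
    have ha : S.B (S.dmon a.1 (g a.2)) v = 0 := congrFun hv a
    rw [map_smul, S.B_comm, ha, smul_zero]
  have hsur : Function.Surjective L :=
    (LinearMap.injective_iff_surjective_of_finrank_eq_finrank (by
      rw [S.finrank_gspan hm ht, Module.finrank_pi, Fintype.card_prod, Fintype.card_fin])).1 hinj
  obtain ⟨⟨y, hy⟩, hLy⟩ := hsur fun a =>
    if a.2 = i then (if (a.1 : ℕ) % 2 = 1 then r ((a.1 : ℕ) / 2) else p ((a.1 : ℕ) / 2)) else 0
  refine ⟨y, hy, fun n => ⟨?_, ?_⟩⟩
  · by_cases h : m ≤ 2 * n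
    · rw [hp n h, S.P_eq_zero hm h]
    · have := congrFun hLy (⟨2 * n, by omega⟩, i)
      simpa [L, dmon, mon, P] using this
  · by_cases h : m ≤ 2 * n + 1
    · rw [hr n h, S.R_eq_zero hm h]
    · have := congrFun hLy (⟨2 * n + 1, by omega⟩, i)
      simpa [L, dmon, mon, R, Nat.add_mod, Nat.mul_add_div] using this

end Top

end Sys

end CfsgLib.ClassNumber.CharTwo
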