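import Cfsg.Agent.Lib.ClassCount.CharTwo.UnipGens

/-!
# Standard pieces of systems of quadratic forms

A piece is `hyp m` (two generators, order `m`), `ani k` (two generators, order `2 k + 1`) or `vee k δ`
(one generator, order `2 k`); a system is realised by a multiset of pieces when it is their orthogonal sum.
-/

set_option autoImplicit false

namespace CfsgLib.ClassNumber.CharTwo

open LinearMap (BilinForm)
open Module

universe u

/-- The kinds of standard pieces. -/
inductive Piece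
  | hyp (m : ℕ)
  | ani (k : ℕ)
  | vee (k : ℕ) (δ : Bool)
deriving DecidableEq

namespace Piece

/-- Half of the dimension. -/
def wt : Piece → ℕ
  | hyp m => m
  | ani k => 2 * k + 1
  | vee k _ => k

variable {F : Type u} [Field F]

/-- The pairing values of the two generators. -/
def pP : Piece → ℕ → F
  | hyp m, n => if 2 * n + 1 = m then 1 else 0
  | ani k, n => if n = k then 1 else 0
  | vee _ _, _ => 0

/-- The pairing values through `s`. -/
def pR : Piece → ℕ → F
  | hyp m, n => if 2 * n + 2 = m then 1 else 0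
  | ani _, _ => 0
  | vee _ _, _ => 0

/-- The forms at the first generator. -/
def kx (δ₀ : F) : Piece → ℕ → F
  | hyp _, _ => 0
  | ani k, i => if i = k then 1 else 0
  | vee k δ, i => if i = k then 1 else if i + 1 = k then (if δ then δ₀ else 0) else 0

/-- The forms at the second generator. -/
def ky (δ₀ : F) : Piece → ℕ → F
  | hyp _, _ => 0
  | ani k, i => if i = k then δ₀ else 0
  | vee _ _, _ => 0

/-- The conditions on a piece. -/
def ok (ε : ℕ) : Piece → Prop
  | hyp m => 1 ≤ m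
  | ani k => ε ≤ k
  | vee k δ => 1 ≤ k ∧ (δ = true → ε + 1 ≤ k)

end Piece

/-- The conditions on the multiset of pieces. -/
structure Valid (ε : ℕ) (M : Multiset Piece) : Prop where
  ok : ∀ p ∈ M, p.ok ε
  ani_le : ∀ k, M.count (.ani k) ≤ 1
  ani_vee : ∀ k δ, Piece.ani k ∈ M → Piece.vee k δ ∉ M
  vee_le : ∀ k, M.count (.vee k true) + M.count (.vee k false) ≤ 2
  true_le : ∀ k, M.count (.vee k true) ≤ 1
  true_vee : ∀ k δ, Piece.vee (k + 1) true ∈ M → Piece.vee k δ ∉ M
  true_hyp : ∀ k, Piece.vee (k + 1) true ∈ M → Piece.hyp (2 * k + 1) ∉ M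
  true_ani : ∀ k, Piece.vee (k + 1) true ∈ M → Piece.ani k ∉ M

variable {F : Type u} [Field F] [CharP F 2] {V : Type u} [AddCommGroup V] [Module F V]
variable {V' : Type u} [AddCommGroup V'] [Module F V'] {ε : ℕ}

namespace Sys

variable (S : Sys F V ε)

/-- Two vectors with the standard values of a piece. -/
def Std (δ₀ : F) (p : Piece) (x y : V) : Prop :=
  (∀ n, S.P n x y = p.pP n) ∧ (∀ n, S.R n x y = p.pR n) ∧
    ∀ i, ε ≤ i → S.K i x = p.kx δ₀ i ∧ S.K i y = p.ky δ₀ i

/-- The system is the orthogonal sum of the pieces. -/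
def Real (δ₀ : F) (M : Multiset Piece) : Prop :=
  ∃ (ι : Type) (_ : Fintype ι) (p : ι → Piece) (g : ι × Bool → V),
    (Finset.univ : Finset ι).val.map p = M ∧ (∀ i, S.Std δ₀ (p i) (g (i, false)) (g (i, true))) ∧
    (∀ a b : ι × Bool, a.1 ≠ b.1 → ∀ n, S.P n (g a) (g b) = 0 ∧ S.R n (g a) (g b) = 0) ∧ S.gspan g = ⊤

theorem Std.R_self_x {δ₀ : F} {p : Piece} {x y : V} (h : S.Std δ₀ p x y) (hε : ε ≤ 1) (n : ℕ) :
    S.R n x x = p.kx δ₀ (n + 1) ∧ S.R n y y = p.ky δ₀ (n + 1) := by
  rw [S.R_self, S.R_self]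
  exact h.2.2 _ (by omega)

omit [CharP F 2] in
theorem exists_equiv_of_map_eq {ι ι' : Type} [Fintype ι] [Fintype ι'] {α : Type*} [DecidableEq α] (p : ι → α)
    (p' : ι' → α) (h : (Finset.univ : Finset ι).val.map p = (Finset.univ : Finset ι').val.map p') :
    ∃ e : ι ≃ ι', ∀ i, p' (e i) = p i := by
  classical
  have hc : ∀ a, Fintype.card {i // p i = a} = Fintype.card {i // p' i = a} := fun a => by
    have := congrArg (Multiset.count a) h
    rw [Multiset.count_map, Multiset.count_map] at this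
    rw [Fintype.card_subtype, Fintype.card_subtype]
    simpa only [Finset.card, Finset.filter_val, eq_comm] using this
  exact ⟨Equiv.ofFiberEquiv fun a => Fintype.equivOfCardEq (hc a), fun i => Equiv.ofFiberEquiv_map _ i⟩

/-- Systems realised by the same pieces are isometric. -/
theorem Real.iso {S : Sys F V ε} {S' : Sys F V' ε} (hε : ε ≤ 1) {δ₀ : F} {M : Multiset Piece}
    (h : S.Real δ₀ M) (h' : S'.Real δ₀ M) : Iso S S' := by
  obtain ⟨ι, _, p, g, hp, hs, ho, hg⟩ := h
  obtain ⟨ι', _, p', g', hp', hs', ho', hg'⟩ := h'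
  obtain ⟨e, he⟩ := exists_equiv_of_map_eq p p' (hp.trans hp'.symm)
  have hg'' : S'.gspan (fun a : ι × Bool => g' (e a.1, a.2)) = ⊤ := by
    rw [eq_top_iff, ← hg']
    refine Submodule.span_le.2 ?_
    rintro _ ⟨⟨⟨j, b⟩, n, c⟩, rfl⟩
    show S'.mon n c (g' (j, b)) ∈ _
    have := S'.mon_mem_gspan (fun a : ι × Bool => g' (e a.1, a.2)) (e.symm j, b) n c
    rw [SetLike.mem_coe]
    simpa only [Equiv.apply_symm_apply] using this
  have hsame : ∀ i, S'.Std δ₀ (p i) (g' (e i, false)) (g' (e i, true)) := fun i => he i ▸ hs' (e i)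
  have key : ∀ n (a b : ι × Bool), S.P n (g a) (g b) = S'.P n (g' (e a.1, a.2)) (g' (e b.1, b.2)) ∧
      S.R n (g a) (g b) = S'.R n (g' (e a.1, a.2)) (g' (e b.1, b.2)) := by
    rintro n ⟨i, bi⟩ ⟨j, bj⟩
    by_cases hij : i = j
    · subst hij
      have hx := (hs i).R_self_x S hε n
      have hx' := (hsame i).R_self_x S' hε n
      cases bi <;> cases bj
      · exact ⟨by rw [S.P_self, S'.P_self], by rw [hx.1, hx'.1]⟩
      · exact ⟨by rw [(hs i).1, (hsame i).1], by rw [(hs i).2.1, (hsame i).2.1]⟩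
      · exact ⟨by rw [S.P_comm, (hs i).1, S'.P_comm, (hsame i).1],
          by rw [S.R_comm, (hs i).1, (hs i).2.1, S'.R_comm, (hsame i).1, (hsame i).2.1]⟩
      · exact ⟨by rw [S.P_self, S'.P_self], by rw [hx.2, hx'.2]⟩
    · have h1 := ho (i, bi) (j, bj) hij n
      have h2 := ho' (e i, bi) (e j, bj) (fun h => hij (e.injective h)) n
      exact ⟨h1.1.trans h2.1.symm, h1.2.trans h2.2.symm⟩
  refine S.iso_of_gens S' g _ hg hg'' (fun n a b => (key n a b).1) (fun n a b => (key n a b).2) ?_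
  rintro n hn ⟨i, b⟩
  cases b
  · rw [((hs i).2.2 n hn).1, ((hsame i).2.2 n hn).1]
  · rw [((hs i).2.2 n hn).2, ((hsame i).2.2 n hn).2]

/-- The pieces realise the system and their dimensions add up. -/
def Code (δ₀ : F) (M : Multiset Piece) : Prop :=
  S.Real δ₀ M ∧ 2 * (M.map Piece.wt).sum = finrank F V

theorem Real.exists_std {δ₀ : F} {M : Multiset Piece} (h : S.Real δ₀ M) {p : Piece} (hp : p ∈ M) :
    ∃ x y, S.Std δ₀ p x y := by
  obtain ⟨ι, _, q, g, hq, hs, -, -⟩ := h
  rw [← hq, Multiset.mem_map] at hp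
  obtain ⟨i, -, rfl⟩ := hp
  exact ⟨_, _, hs i⟩

theorem code_zero [FiniteDimensional F V] (δ₀ : F) (h : finrank F V = 0) : S.Code δ₀ 0 := by
  refine ⟨⟨Empty, inferInstance, Empty.elim, fun a => a.1.elim, rfl, fun i => i.elim, fun a => a.1.elim, ?_⟩, ?_⟩
  · have := Module.finrank_zero_iff.1 h
    exact Subsingleton.elim _ _
  · simp [h]

/-- Adding an orthogonal piece. -/
theorem code_cons [FiniteDimensional F V] {δ₀ : F} (U : Submodule F V) (hU : (S.B.restrict U).Nondegenerate)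
    (hs : ∀ v ∈ S.B.orthogonal U, S.s v ∈ S.B.orthogonal U) (hw : ∀ v ∈ S.B.orthogonal U, S.w v ∈ S.B.orthogonal U)
    (hd : (S.B.restrict (S.B.orthogonal U)).Nondegenerate) (hUs : ∀ v ∈ U, S.w v ∈ U) (hUs' : ∀ v ∈ U, S.s v ∈ U)
    {p : Piece} {x y : V} (hx : x ∈ U) (hy : y ∈ U) (hstd : S.Std δ₀ p x y)
    (hspan : U ≤ S.gspan fun b : Bool => cond b y x) (hdim : finrank F U = 2 * p.wt) {M : Multiset Piece}
    (h : (S.sub (S.B.orthogonal U) hs hw hd).Code δ₀ M) : S.Code δ₀ (p ::ₘ M) := by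
  classical
  obtain ⟨⟨ι, _, q, g, hq, hst, ho, hg⟩, hsum⟩ := h
  have hc := LinearMap.BilinForm.isCompl_orthogonal_of_restrict_nondegenerate S.alt.isRefl hU
  have hwp : ∀ (n : ℕ) (v : V), v ∈ U → (S.w ^ n) v ∈ U := by
    intro n
    induction n with
    | zero => exact fun v hv => hv
    | succ n ih =>
      intro v hv
      rw [pow_succ', Module.End.mul_apply]
      exact hUs _ (ih v hv)
  have hz : ∀ (n : ℕ) (a : V), a ∈ U → ∀ b : S.B.orthogonal U, S.P n a b = 0 ∧ S.R n a b = 0 :=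
    fun n a ha b => ⟨b.2 _ (hwp n a ha), b.2 _ (hwp n _ (hUs' a ha))⟩
  have hz' : ∀ (n : ℕ) (a : V), a ∈ U → ∀ b : S.B.orthogonal U, S.P n b a = 0 ∧ S.R n b a = 0 := by
    intro n a ha b
    refine ⟨by rw [S.P_comm]; exact (hz n a ha b).1, ?_⟩
    rw [S.R_comm, (hz n a ha b).2, (hz (n + 1) a ha b).1, add_zero]
  let g' : Option ι × Bool → V := fun a => a.1.elim (cond a.2 y x) fun i => (g (i, a.2) : V)
  refine ⟨⟨Option ι, inferInstance, fun o => o.elim p q, g', ?_, ?_, ?_, ?_⟩, ?_⟩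
  · rw [show (Finset.univ : Finset (Option ι)) = Finset.insertNone Finset.univ from rfl, ← hq]
    simp [Finset.insertNone, Multiset.map_map, Function.comp_def]
  · rintro (_ | i)
    · exact hstd
    · obtain ⟨h1, h2, h3⟩ := hst i
      exact ⟨fun n => ((S.sub_P _ hs hw hd n _ _).symm.trans (h1 n)),
        fun n => ((S.sub_R _ hs hw hd n _ _).symm.trans (h2 n)), h3⟩
  · have hcond : ∀ b : Bool, cond b y x ∈ U := fun b => by cases b <;> assumption
    rintro ⟨_ | i, bi⟩ ⟨_ | j, bj⟩ hne n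
    · exact (hne rfl).elim
    · exact hz n _ (hcond bi) _
    · exact hz' n _ (hcond bj) _
    · have := ho (i, bi) (j, bj) (fun h => hne (congrArg some h)) n
      rwa [sub_P, sub_R] at this
  · rw [eq_top_iff, ← hc.sup_eq_top]
    refine sup_le (hspan.trans (Submodule.span_le.2 ?_)) ?_
    · rintro _ ⟨⟨b, n, e⟩, rfl⟩
      exact S.mon_mem_gspan g' (none, b) n e
    · intro v hv
      have hv' : (⟨v, hv⟩ : S.B.orthogonal U) ∈ (S.sub _ hs hw hd).gspan g := by
        rw [hg]
        exact Submodule.mem_top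
      have hle : (S.sub _ hs hw hd).gspan g ≤ (S.gspan g').comap (S.B.orthogonal U).subtype := by
        refine Submodule.span_le.2 ?_
        rintro _ ⟨⟨⟨i, b⟩, n, e⟩, rfl⟩
        show ((S.sub _ hs hw hd).mon n e (g (i, b)) : V) ∈ S.gspan g'
        rw [sub_mon]
        exact S.mon_mem_gspan g' (some i, b) n e
      exact hle hv'
  · rw [Multiset.map_cons, Multiset.sum_cons, mul_add, hsum, ← hdim, Submodule.finrank_add_eq_of_isCompl hc]

end Sys

end CfsgLib.ClassNumber.CharTwo
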