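import Mathlib

/-!
# Unipotent isometries in characteristic two as systems of quadratic forms

For a unipotent isometry `a` put `s = a + 1` and `w = a + a⁻¹`; the forms `K i x = B (w ^ (i - 1) (s x)) x`,
preceded by the quadratic form in the orthogonal case, determine the isometry. The levels from `ε` on are used.
-/

set_option autoImplicit false

namespace CfsgLib.ClassNumber.CharTwo

open LinearMap (BilinForm)
open Module

universe u

variable {F : Type u} [Field F] {V : Type u} [AddCommGroup V] [Module F V]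
variable {V' : Type u} [AddCommGroup V'] [Module F V']

/-- The data of a unipotent isometry in characteristic two. -/
structure Sys (F : Type u) [Field F] (V : Type u) [AddCommGroup V] [Module F V] (ε : ℕ) where
  /-- The form. -/
  B : BilinForm F V
  /-- The isometry plus one. -/
  s : Module.End F V
  /-- The isometry plus its inverse. -/
  w : Module.End F V
  /-- The quadratic forms. -/
  K : ℕ → V → F
  alt : B.IsAlt
  nondeg : B.Nondegenerate
  comm : Commute s w
  sq : s * s = w * s + w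
  adjw : ∀ x y, B (w x) y = B x (w y)
  adjs : ∀ x y, B (s x) y = B x (s y + w y)
  nil : IsNilpotent s
  Kadd : ∀ i, ε ≤ i → ∀ x y, K i (x + y) = K i x + K i y + B ((w ^ i) x) y
  Ksmul : ∀ i, ε ≤ i → ∀ (c : F) x, K i (c • x) = c ^ 2 * K i x
  Kw : ∀ i, ε ≤ i → ∀ x, K i (w x) = K (i + 2) x
  Ks : ∀ i, ε ≤ i → ∀ x, K i (s x) = K (i + 1) x
  Ksucc : ∀ i x, B ((w ^ i) (s x)) x = K (i + 1) x

variable {ε : ℕ}

namespace Sys

variable (S : Sys F V ε) [CharP F 2]

/-- The pairing through the powers of `w`. -/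
def P (n : ℕ) (x y : V) : F := S.B ((S.w ^ n) x) y

/-- The pairing through the powers of `w` times `s`. -/
def R (n : ℕ) (x y : V) : F := S.B ((S.w ^ n) (S.s x)) y

theorem B_comm (x y : V) : S.B x y = S.B y x :=
  ((CharTwo.neg_eq _).symm.trans (LinearMap.IsAlt.neg S.alt x y))

theorem adjw_pow : ∀ (n : ℕ) (x y : V), S.B ((S.w ^ n) x) y = S.B x ((S.w ^ n) y)
  | 0, x, y => rfl
  | n + 1, x, y => by
    rw [pow_succ, Module.End.mul_apply, adjw_pow n, S.adjw, ← Module.End.mul_apply, ← pow_succ', pow_succ]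

theorem comm_apply (n : ℕ) (x : V) : S.s ((S.w ^ n) x) = (S.w ^ n) (S.s x) := by
  rw [← Module.End.mul_apply, (S.comm.pow_right n).eq, Module.End.mul_apply]

theorem s_s (x : V) : S.s (S.s x) = S.w (S.s x) + S.w x := by
  rw [← Module.End.mul_apply, S.sq, LinearMap.add_apply, Module.End.mul_apply]

theorem w_add (n l : ℕ) (x : V) : (S.w ^ n) ((S.w ^ l) x) = (S.w ^ (n + l)) x := by
  rw [← Module.End.mul_apply, ← pow_add]

theorem w_succ (n : ℕ) (x : V) : (S.w ^ n) (S.w x) = (S.w ^ (n + 1)) x := by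
  rw [pow_succ, Module.End.mul_apply]

theorem P_comm (n : ℕ) (x y : V) : S.P n x y = S.P n y x := by
  rw [P, P, adjw_pow, B_comm]

theorem R_comm (n : ℕ) (x y : V) : S.R n y x = S.R n x y + S.P (n + 1) x y := by
  rw [R, R, P, adjw_pow, S.adjs, map_add, comm_apply, S.B_comm y, S.B_comm y, w_succ' S n]
where
  w_succ' (S : Sys F V ε) (n : ℕ) {x : V} : S.w ((S.w ^ n) x) = (S.w ^ (n + 1)) x := by
    rw [pow_succ', Module.End.mul_apply]

theorem B_w_self (y : V) : S.B (S.w y) y = 0 := by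
  have h := S.adjs y y
  rw [map_add, S.B_comm (S.s y) y, S.B_comm y (S.w y)] at h
  exact (left_eq_add (a := S.B y (S.s y))).1 h

theorem P_self (n : ℕ) (x : V) : S.P n x x = 0 := by
  obtain ⟨j, rfl | rfl⟩ : ∃ j, n = j + j ∨ n = (j + j) + 1 := ⟨n / 2, by omega⟩
  · rw [P, ← w_add, adjw_pow]
    exact S.alt _
  · rw [P, pow_succ', Module.End.mul_apply, ← w_add, ← Module.End.mul_apply, ← pow_succ', pow_succ,
      Module.End.mul_apply, adjw_pow]
    exact S.B_w_self _

theorem R_self (n : ℕ) (x : V) : S.R n x x = S.K (n + 1) x := S.Ksucc n x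

theorem K_zero {i : ℕ} (hi : ε ≤ i) : S.K i 0 = 0 := by
  have := S.Ksmul i hi 0 0
  rwa [zero_smul, zero_pow two_ne_zero, zero_mul] at this

theorem K_wpow : ∀ (n : ℕ) {i : ℕ}, ε ≤ i → ∀ x, S.K i ((S.w ^ n) x) = S.K (i + 2 * n) x
  | 0, i, hi, x => rfl
  | n + 1, i, hi, x => by
    rw [pow_succ', Module.End.mul_apply, S.Kw i hi, K_wpow n (by omega),
      show i + 2 * (n + 1) = i + 2 + 2 * n by omega]

theorem K_wpow_s (n : ℕ) {i : ℕ} (hi : ε ≤ i) (x : V) :
    S.K i ((S.w ^ n) (S.s x)) = S.K (i + 2 * n + 1) x := by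
  rw [K_wpow S n hi, S.Ks _ (by omega)]

theorem isUnit_s_add_one : IsUnit (S.s + 1) := S.nil.isUnit_add_one

/-- The geometric sum expressing `w`. -/
theorem w_eq {m : ℕ} (hm : S.s ^ m = 0) : S.w = S.s ^ 2 * ∑ i ∈ Finset.range m, S.s ^ i := by
  have h2 : ∀ e : Module.End F V, e + e = 0 := fun e => LinearMap.ext fun v => by
    rw [LinearMap.add_apply, LinearMap.zero_apply, ← two_smul F, CharTwo.two_eq_zero, zero_smul]
  have hneg : ∀ e : Module.End F V, -e = e := fun e => neg_eq_of_add_eq_zero_right (h2 e)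
  have hgeo : (S.s + 1) * ∑ i ∈ Finset.range m, S.s ^ i = 1 := by
    have h := mul_geom_sum S.s m
    rw [hm, sub_eq_add_neg, sub_eq_add_neg, hneg, zero_add] at h
    exact h
  have hq : S.s ^ 2 = S.w * (S.s + 1) := by rw [pow_two, S.sq, mul_add, mul_one]
  rw [hq, mul_assoc, hgeo, mul_one]

theorem vanish {m : ℕ} (hm : S.s ^ m = 0) {i e : ℕ} (h : m ≤ 2 * i + e) : S.w ^ i * S.s ^ e = 0 := by
  have hc : Commute (S.s ^ 2) (∑ j ∈ Finset.range m, S.s ^ j) :=
    Commute.sum_right _ _ _ fun j _ => (Commute.refl S.s).pow_pow 2 j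
  rw [S.w_eq hm, hc.mul_pow, ← pow_mul, mul_assoc,
    ((Commute.sum_left _ _ _ fun j _ => (Commute.refl S.s).pow_pow j e).pow_left i).eq, ← mul_assoc, ← pow_add,
    pow_eq_zero_of_le h hm, zero_mul]

theorem top {m : ℕ} (hm : S.s ^ m = 0) {i e : ℕ} (h : 2 * i + e + 1 = m) : S.w ^ i * S.s ^ e = S.s ^ (2 * i + e) := by
  induction i generalizing e with
  | zero => simp
  | succ i ih =>
    have hv := S.vanish hm (i := i + 1) (e := e + 1) (by omega)
    have h1 : S.w ^ (i + 1) * S.s ^ e = S.w ^ i * S.s ^ (e + 2) := by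
      rw [show e + 2 = 1 + 1 + e by omega, pow_add S.s (1 + 1), pow_add S.s 1 1, pow_one, S.sq, add_mul, mul_add,
        ← mul_assoc, ← mul_assoc, ← mul_assoc, ← pow_succ, mul_assoc (S.w ^ (i + 1)), ← pow_succ', hv, zero_add]
    rw [h1, ih (by omega), show 2 * i + (e + 2) = 2 * (i + 1) + e by omega]

theorem P_eq_zero {m : ℕ} (hm : S.s ^ m = 0) {n : ℕ} (h : m ≤ 2 * n) (x y : V) : S.P n x y = 0 := by
  have h0 := S.vanish hm (i := n) (e := 0) (by omega)
  rw [pow_zero, mul_one] at h0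
  rw [P, h0, LinearMap.zero_apply, map_zero, LinearMap.zero_apply]

theorem R_eq_zero {m : ℕ} (hm : S.s ^ m = 0) {n : ℕ} (h : m ≤ 2 * n + 1) (x y : V) : S.R n x y = 0 := by
  have h0 := LinearMap.congr_fun (S.vanish hm (i := n) (e := 1) (by omega)) x
  rw [pow_one, Module.End.mul_apply, LinearMap.zero_apply] at h0
  rw [R, h0, map_zero, LinearMap.zero_apply]

theorem K_eq_zero {m : ℕ} (hm : S.s ^ m = 0) {i : ℕ} (h : m < 2 * i) (x : V) : S.K i x = 0 := by
  obtain ⟨j, rfl⟩ : ∃ j, i = j + 1 := ⟨i - 1, by omega⟩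
  rw [← R_self]
  exact S.R_eq_zero hm (by omega) x x

/-- The pairing with the top power of `s`. -/
def tau (m : ℕ) (x y : V) : F := S.B ((S.s ^ (m - 1)) x) y

theorem tau_even {k : ℕ} (hm : S.s ^ (2 * k) = 0) (hk : 1 ≤ k) (x y : V) : S.tau (2 * k) x y = S.R (k - 1) x y := by
  rw [tau, show 2 * k - 1 = 2 * (k - 1) + 1 by omega, ← S.top hm (i := k - 1) (e := 1) (by omega), pow_one,
    Module.End.mul_apply]
  rfl

theorem tau_odd {k : ℕ} (hm : S.s ^ (2 * k + 1) = 0) (x y : V) : S.tau (2 * k + 1) x y = S.P k x y := by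
  rw [tau, show 2 * k + 1 - 1 = 2 * k + 0 by omega, ← S.top hm (i := k) (e := 0) (by omega), pow_zero, mul_one]
  rfl

end Sys

/-- Isometric systems. -/
def Iso (S : Sys F V ε) (S' : Sys F V' ε) : Prop :=
  ∃ f : V ≃ₗ[F] V', (∀ v, f (S.s v) = S'.s (f v)) ∧ (∀ v, f (S.w v) = S'.w (f v)) ∧
    (∀ x y, S'.B (f x) (f y) = S.B x y) ∧ ∀ i, ε ≤ i → ∀ v, S'.K i (f v) = S.K i v

end CfsgLib.ClassNumber.CharTwo
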